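import Mathlib.GroupTheory.SpecificGroups.Alternating.Simple
import Mathlib.GroupTheory.Sylow

/-!
# Finite facts on `A₅` for groups of Hall–Janko type
-/

set_option autoImplicit false
set_option maxHeartbeats 400000
set_option synthInstance.maxSize 2048

namespace Cfsg.Agent.HJType.AltFive

open Equiv

abbrev A5 := alternatingGroup (Fin 5)

def v0 : A5 := ⟨Equiv.swap 0 1 * Equiv.swap 2 3, Equiv.Perm.mem_alternatingGroup.mpr (by decide)⟩
def v1 : A5 := ⟨Equiv.swap 0 2 * Equiv.swap 1 3, Equiv.Perm.mem_alternatingGroup.mpr (by decide)⟩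
def g5 : A5 := ⟨finRotate 5, Equiv.Perm.mem_alternatingGroup.mpr (by decide)⟩
def h1 : A5 := ⟨Equiv.swap 1 2 * Equiv.swap 1 3, Equiv.Perm.mem_alternatingGroup.mpr (by decide)⟩
def h2 : A5 := v0
def h3 : A5 := ⟨Equiv.swap 0 1 * Equiv.swap 0 2, Equiv.Perm.mem_alternatingGroup.mpr (by decide)⟩

theorem four_conj : ∀ a : A5, a * a = 1 → a ≠ 1 → ∀ b : A5, b * b = 1 → b ≠ 1 → a * b = b * a → a ≠ b →
    ∃ c : A5, (c * a * c⁻¹ = v0 ∨ c * a * c⁻¹ = v1 ∨ c * a * c⁻¹ = v0 * v1) ∧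
      (c * b * c⁻¹ = v0 ∨ c * b * c⁻¹ = v1 ∨ c * b * c⁻¹ = v0 * v1) := by
  decide +kernel

theorem three_in_normalizer : ∀ e : A5, e * (e * e) = 1 → e ≠ 1 →
    (e * v0 * e⁻¹ = v0 ∨ e * v0 * e⁻¹ = v1 ∨ e * v0 * e⁻¹ = v0 * v1) →
    (e * v1 * e⁻¹ = v0 ∨ e * v1 * e⁻¹ = v1 ∨ e * v1 * e⁻¹ = v0 * v1) →
    ∀ h ∈ [h1, h2, h3], ∃ a ∈ [1, v0, v1, v0 * v1], ∃ b ∈ [1, e, e * e], h = a * b := by
  decide +kernel

theorem g5_rigid : (∀ h ∈ [h1, h2, h3], g5 * h * (g5 * h * (g5 * h)) = 1) ∧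
    (∀ a ∈ [1, v0, v1, v0 * v1], ∀ b ∈ [1, h3, h3 * h3], g5 ≠ a * b) ∧
    ∀ y : A5, (∀ h ∈ [h1, h2, h3], y * h * (y * h * (y * h)) = 1) →
      (∀ a ∈ [1, v0, v1, v0 * v1], ∀ b ∈ [1, h3, h3 * h3], y ≠ a * b) → y = g5 := by
  decide +kernel

theorem generate : ∀ x : A5, ∃ i : Fin 5, ∃ a ∈ [1, v0, v1, v0 * v1],
    ∃ b ∈ [1, h3, h3 * h3], x = g5 ^ (i : ℕ) * (a * b) := by
  decide +kernel

theorem h3_three : h3 * (h3 * h3) = 1 ∧ h3 ≠ 1 := by decide +kernel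

theorem pow_four : ∀ a : A5, a * a * (a * a) = 1 → a * a = 1 := by decide +kernel

theorem rigid {X : Type*} [Group X] (iso : X ≃* A5) {a b e : X} (ha : a * a = 1) (ha1 : a ≠ 1)
    (hb : b * b = 1) (hb1 : b ≠ 1) (hab : a * b = b * a) (hne : a ≠ b)
    (he : e * (e * e) = 1) (he1 : e ≠ 1)
    (hea : e * a * e⁻¹ = a ∨ e * a * e⁻¹ = b ∨ e * a * e⁻¹ = a * b)
    (heb : e * b * e⁻¹ = a ∨ e * b * e⁻¹ = b ∨ e * b * e⁻¹ = a * b)
    (f : X →* X) (finj : Function.Injective f) (fa : f a = a) (fb : f b = b) (fe : f e = e) (x : X) : f x = x := by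
  obtain ⟨c, hca, hcb⟩ := four_conj (iso a) (by rw [← map_mul, ha, map_one])
    (by simp [ha1]) (iso b) (by rw [← map_mul, hb, map_one]) (by simp [hb1])
    (by rw [← map_mul, hab, map_mul]) (by simp [hne])
  let ψ : X ≃* A5 := iso.trans (MulAut.conj c)
  let g : A5 →* A5 := ψ.toMonoidHom.comp (f.comp ψ.symm.toMonoidHom)
  have hg : ∀ w, g (ψ w) = ψ (f w) := fun w => by simp [g]
  suffices hid : ∀ y, g y = y from ψ.injective ((hg x).symm.trans (hid _))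
  have ga : g (ψ a) = ψ a := by rw [hg, fa]
  have gb : g (ψ b) = ψ b := by rw [hg, fb]
  have ge : g (ψ e) = ψ e := by rw [hg, fe]
  have hψab : ψ a ≠ ψ b := ψ.injective.ne hne
  change c * iso a * c⁻¹ = _ ∨ c * iso a * c⁻¹ = _ ∨ c * iso a * c⁻¹ = _ at hca
  have hA : ψ a = v0 ∨ ψ a = v1 ∨ ψ a = v0 * v1 := hca
  have hB : ψ b = v0 ∨ ψ b = v1 ∨ ψ b = v0 * v1 := hcb
  have hmul : ∀ p q : A5, g p = p → g q = q → g (p * q) = p * q := fun p q e1 e2 => by rw [map_mul, e1, e2]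
  have gab := hmul _ _ ga gb
  have key : ∀ p q : A5, (p = v0 ∨ p = v1 ∨ p = v0 * v1) → (q = v0 ∨ q = v1 ∨ q = v0 * v1) → p ≠ q →
      ∀ r, (r = v0 ∨ r = v1 ∨ r = v0 * v1) → r = p ∨ r = q ∨ r = p * q := by
    decide +kernel
  have g0 : ∀ r, (r = v0 ∨ r = v1 ∨ r = v0 * v1) → g r = r := fun r hr => by
    rcases key _ _ hA hB hψab r hr with rfl | rfl | rfl
    exacts [ga, gb, gab]
  have inV : ∀ w : X, (w = a ∨ w = b ∨ w = a * b) → ψ w = v0 ∨ ψ w = v1 ∨ ψ w = v0 * v1 := by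
    intro w hw
    rcases hw with rfl | rfl | rfl
    · exact hA
    · exact hB
    · rw [map_mul]
      revert hA hB hψab
      generalize ψ a = p
      generalize ψ b = q
      revert p q
      decide +kernel
  have hdet : ∀ v, (v = v0 ∨ v = v1 ∨ v = v0 * v1) →
      (ψ e * v * (ψ e)⁻¹ = v0 ∨ ψ e * v * (ψ e)⁻¹ = v1 ∨ ψ e * v * (ψ e)⁻¹ = v0 * v1) := by
    intro v hv
    rcases key _ _ hA hB hψab v hv with rfl | rfl | rfl
    · rw [← map_inv, ← map_mul, ← map_mul]; exact inV _ hea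
    · rw [← map_inv, ← map_mul, ← map_mul]; exact inV _ heb
    · rw [← map_inv, ← map_mul, ← map_mul, ← map_mul]
      refine inV _ ?_
      rw [← conj_mul]
      have hba : b * a = a * b := hab.symm
      have e1 : a * (a * b) = b := by rw [← mul_assoc, ha, one_mul]
      have e2 : a * b * a = b := by rw [mul_assoc, hba, e1]
      have e3 : a * b * b = a := by rw [mul_assoc, hb, mul_one]
      have e4 : b * (a * b) = a := by rw [← mul_assoc, hba, e3]
      have hne' : e * a * e⁻¹ ≠ e * b * e⁻¹ := fun h => hne (by simpa using h)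
      rcases hea with h | h | h <;> rcases heb with h' | h' | h' <;> rw [h, h'] at hne' ⊢
      all_goals first
        | exact absurd rfl hne'
        | exact Or.inr (Or.inr rfl)
        | exact Or.inr (Or.inr hba)
        | exact Or.inr (Or.inl e1)
        | exact Or.inr (Or.inl e2)
        | exact Or.inl e3
        | exact Or.inl e4
  have hψe : ψ e * (ψ e * ψ e) = 1 := by rw [← map_mul, ← map_mul, he, map_one]
  have hgen := three_in_normalizer (ψ e) hψe (by simp [he1]) (hdet v0 (Or.inl rfl)) (hdet v1 (Or.inr (Or.inl rfl)))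
  have g4 : ∀ r ∈ [1, v0, v1, v0 * v1], g r = r := by
    intro r hr
    fin_cases hr
    exacts [map_one g, g0 _ (Or.inl rfl), g0 _ (Or.inr (Or.inl rfl)), g0 _ (Or.inr (Or.inr rfl))]
  have gh : ∀ h ∈ [h1, h2, h3], g h = h := by
    intro h hh
    obtain ⟨p, hp, q, hq, rfl⟩ := hgen h hh
    refine hmul _ _ (g4 p hp) ?_
    fin_cases hq
    exacts [map_one g, ge, hmul _ _ ge ge]
  have ginj : Function.Injective g := by
    intro p q h
    obtain ⟨p, rfl⟩ := ψ.surjective p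
    obtain ⟨q, rfl⟩ := ψ.surjective q
    rw [hg, hg] at h
    rw [finj (ψ.injective h)]
  have g33 : ∀ q ∈ [1, h3, h3 * h3], g q = q := by
    intro q hq
    fin_cases hq
    exacts [map_one g, gh h3 (by simp), hmul _ _ (gh h3 (by simp)) (gh h3 (by simp))]
  have gg : g g5 = g5 := g5_rigid.2.2 _ (fun h hh => by
      rw [← gh h hh, ← map_mul, ← map_mul, ← map_mul, g5_rigid.1 h hh, map_one])
    fun p hp q hq h => g5_rigid.2.1 p hp q hq (ginj (by rw [h, hmul _ _ (g4 p hp) (g33 q hq)]))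
  intro y
  obtain ⟨i, p, hp, q, hq, rfl⟩ := generate y
  have g3 := gh h3 (by simp)
  refine hmul _ _ (by rw [map_pow, gg]) (hmul _ _ (g4 p hp) ?_)
  fin_cases hq
  exacts [map_one g, g3, hmul _ _ g3 g3]

theorem card_pairs : Nat.card {p : A5 × A5 // (p.1 * p.1 = 1 ∧ p.1 ≠ 1) ∧ p.2 * p.2 = 1 ∧
    (p.1 * p.2) ^ 15 = 1} = 195 := by
  rw [Nat.card_eq_fintype_card]; decide +kernel

theorem inv_conj : ∀ a : A5, a * a = 1 → a ≠ 1 → ∃ c : A5, c * a * c⁻¹ = v0 := by decide +kernel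

theorem three_conj : ∀ a : A5, a * (a * a) = 1 → a ≠ 1 → ∃ c : A5, c * a * c⁻¹ = h3 := by decide +kernel

theorem five_centralizer : ∀ a : A5, a * (a * (a * (a * a))) = 1 → a ≠ 1 →
    (Finset.univ.filter fun c : A5 => c * a = a * c).card = 5 := by decide +kernel

theorem five_inverted : ∀ a : A5, a * (a * (a * (a * a))) = 1 → a ≠ 1 →
    ∃ c : A5, c * c = 1 ∧ c * a * c⁻¹ = a⁻¹ := by decide +kernel

theorem three_centralizer : ∀ a : A5, a * (a * a) = 1 → a ≠ 1 →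
    (Finset.univ.filter fun c : A5 => c * a = a * c).card = 3 := by decide +kernel

theorem three_inverted : ∀ a : A5, a * (a * a) = 1 → a ≠ 1 →
    ∃ c : A5, c * c = 1 ∧ c * a * c⁻¹ = a⁻¹ := by decide +kernel

end Cfsg.Agent.HJType.AltFive
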