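import Cfsg.Agent.Lib.HJType.Outer

/-!
# Hall–Janko type: `C(z) ∩ C(t)` is elementary abelian of order 16

`Around z Q t s`: `s` is the noncentral involution of `Q` centralised by `t` (with `sz`), and
`A = C(z) ∩ C(t)` is elementary abelian of order 16, equal to `C(s) ∩ C(t)`.
-/

set_option autoImplicit false
set_option maxHeartbeats 400000

namespace Cfsg.Agent.HJType

open Subgroup
open Cfsg.Agent.LargeExtraspecial (Hub)

variable {G : Type*} [Group G] [Finite G] {z : G} {Q : Subgroup G}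

namespace Outer

variable {F : Frame z Q} {t : G}

omit [Finite G] in
theorem swap_four (h : Hub Q z) {u : G} (hu : Commute u z) {a b : Bool}
    (h0 : u * F.s 0 * u⁻¹ = F.s 2 * zp z a) (h1 : u * F.s 1 * u⁻¹ = F.s 3 * zp z b)
    (h2 : u * F.s 2 * u⁻¹ = F.s 0 * zp z a) (h3 : u * F.s 3 * u⁻¹ = F.s 1 * zp z b) :
    u * (F.s 0 * F.s 1) * u⁻¹ = F.s 2 * F.s 3 * zp z (xor a b) ∧
      u * (F.s 2 * F.s 3) * u⁻¹ = F.s 0 * F.s 1 * zp z (xor a b) ∧
      u * (F.s 0 * F.s 2) * u⁻¹ = F.s 0 * F.s 2 * z := by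
  have key : ∀ (i j k l : Fin 5) (p q : Bool), u * F.s i * u⁻¹ = F.s k * zp z p →
      u * F.s j * u⁻¹ = F.s l * zp z q →
      u * (F.s i * F.s j) * u⁻¹ = F.s k * F.s l * zp z (xor p q) := by
    intro i j k l p q hi hj
    calc u * (F.s i * F.s j) * u⁻¹ = (u * F.s i * u⁻¹) * (u * F.s j * u⁻¹) := by group
      _ = F.s k * (zp z p * F.s l) * zp z q := by rw [hi, hj]; group
      _ = F.s k * F.s l * (zp z p * zp z q) := by
          rw [(zp_commute (F.commute_z h l) p).eq.symm]; group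
      _ = _ := by rw [zp_mul h]
  refine ⟨key 0 1 2 3 a b h0 h1, key 2 3 0 1 a b h2 h3, ?_⟩
  rw [key 0 2 2 0 a a h0 h2, F.anti 0 2 (by decide)]
  simp

/-- A lift in `C(z) ∩ C(t)` of `(0 2)(1 3)`, with its square. -/
theorem exists_second (o : Outer F t) (d : Data z Q) :
    ∃ (u : G) (hu : Commute u z), Commute u t ∧ F.θ ⟨u, mem_cz.mpr hu⟩ = p02 ∧ Commute u (F.s 4) ∧
      (u * u = 1 ∨ ∃ e, u * u = F.s 4 * zp z e) := by
  have h := d.hub
  set C := centralizer ({z} : Set G)
  set t' : ↥C := ⟨t, mem_cz.mpr o.comm⟩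
  obtain ⟨σ, hσ1, hσ⟩ := double_conj p02 p02_facts.1 p02_facts.2.1 p02_facts.2.2.1
  obtain ⟨c, hc⟩ := F.surj σ hσ1
  have hwz : Commute ((c : G) * t * (c : G)⁻¹) z := mem_cz.mp (c * t' * c⁻¹).2
  set w := (c : G) * t * (c : G)⁻¹
  have hw : w * w = 1 := by
    calc w * w = (c : G) * (t * t) * (c : G)⁻¹ := by simp only [w]; group
      _ = 1 := by rw [o.sq]; group
  have hθw : F.θ ⟨w, mem_cz.mpr hwz⟩ = p02 := by
    show F.θ (c * t' * c⁻¹) = p02
    rw [map_mul, map_mul, map_inv, hc, o.perm, ← hσ]; group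
  obtain ⟨a, hw0⟩ := F.act_eq hwz (i := 0) (j := 2) (by rw [hθw]; decide)
  obtain ⟨b, hw1⟩ := F.act_eq hwz (i := 1) (j := 3) (by rw [hθw]; decide)
  have hw2 := F.act_back h hwz hw hw0
  have hw3 := F.act_back h hwz hw hw1
  obtain ⟨hw01, hw23, hw02⟩ := swap_four h hwz hw0 hw1 hw2 hw3
  obtain ⟨A, B, ht0, ht1, ht2, ht3⟩ := o.swaps h
  obtain ⟨h01, h23⟩ := o.pair h
  obtain ⟨f, hf⟩ := four_eq (F := F) d
  -- the commutator of `t` and `w`
  set k := t * w * t⁻¹ * w⁻¹
  have hkQ : k ∈ Q := by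
    show ((t' * (⟨w, mem_cz.mpr hwz⟩ : ↥C) * t'⁻¹ * (⟨w, mem_cz.mpr hwz⟩ : ↥C)⁻¹ : ↥C) : G) ∈ Q
    rw [← F.ker, map_mul, map_mul, map_mul, map_inv, map_inv, o.perm, hθw]
    decide
  have hwi : w⁻¹ = w := inv_eq_of_mul_eq_one_right hw
  have hflip : ∀ i, i ≠ (4 : Fin 5) → F.fl k i = xor (xor A B) (xor a b) := by
    have step : ∀ (i i' j j' : Fin 5) (e1 e2 e3 e4 : Bool), w * F.s i * w⁻¹ = F.s i' * zp z e1 →
        t * F.s i' * t⁻¹ = F.s j * zp z e2 → w * F.s j * w⁻¹ = F.s j' * zp z e3 →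
        t * F.s j' * t⁻¹ = F.s i * zp z e4 →
        F.fl k i = xor (xor (xor e1 e2) e3) e4 := by
      intro i i' j j' e1 e2 e3 e4 q1 q2 q3 q4
      have push : ∀ (x y : G) (e e' : Bool) (v : G), Commute v z → v * x * v⁻¹ = y * zp z e' →
          v * (x * zp z e) * v⁻¹ = y * zp z (xor e e') := by
        intro x y e e' v hv hxy
        rw [conj_mul.symm, hxy, zp_conj hv, mul_assoc, zp_mul h, Bool.xor_comm]
      refine F.fl_eq h hkQ ?_
      calc k * F.s i * k⁻¹ = t * (w * (t⁻¹ * (w⁻¹ * F.s i * w) * t) * w⁻¹) * t⁻¹ := by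
            simp only [k]; group
        _ = t * (w * (t * (w * F.s i * w⁻¹) * t⁻¹) * w⁻¹) * t⁻¹ := by rw [hwi, o.inv_eq]
        _ = _ := by
            rw [q1, push _ _ _ _ t o.comm q2, push _ _ _ _ w hwz q3, push _ _ _ _ t o.comm q4]
    intro i hi
    obtain rfl | rfl | rfl | rfl | rfl : i = 0 ∨ i = 1 ∨ i = 2 ∨ i = 3 ∨ i = 4 := by
      clear hi; clear * - i; revert i; decide
    · rw [step 0 2 3 1 a B b A hw0 ht2 hw3 ht1]
      cases A <;> cases B <;> cases a <;> cases b <;> rfl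
    · rw [step 1 3 2 0 b B a A hw1 ht3 hw2 ht0]
      cases A <;> cases B <;> cases a <;> cases b <;> rfl
    · rw [step 2 0 1 3 a A b B hw2 ht0 hw1 ht3]
      cases A <;> cases B <;> cases a <;> cases b <;> rfl
    · rw [step 3 1 0 2 b A a B hw3 ht1 hw0 ht2]
      cases A <;> cases B <;> cases a <;> cases b <;> rfl
    · exact absurd rfl hi
  -- correct `w` so that it commutes with `t` up to the centre
  have hcentral : ∀ q ∈ Q, Commute q z := h.central
  have h4z := F.commute_z h 4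
  have hw4 : Commute w (F.s 4) := by
    refine mul_inv_eq_iff_eq_mul.mp ?_
    have e01 : Commute (F.s 0 * F.s 1) (F.s 2 * F.s 3) := by
      refine mul_inv_eq_iff_eq_mul.mp ?_
      have e2 := F.fl_spec h (mul_mem (F.mem 0) (F.mem 1)) 2
      have e3 := F.fl_spec h (mul_mem (F.mem 0) (F.mem 1)) 3
      rw [F.fl_mul h (F.mem 0) (F.mem 1), F.fl_s h, F.fl_s h] at e2 e3
      rw [← conj_mul, e2, e3]; simp
    calc w * F.s 4 * w⁻¹
        = (w * (F.s 0 * F.s 1) * w⁻¹) * (w * (F.s 2 * F.s 3) * w⁻¹) * (w * zp z f * w⁻¹) := by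
          rw [hf]; group
      _ = F.s 2 * F.s 3 * (zp z (xor a b) * (F.s 0 * F.s 1)) * zp z (xor a b) * zp z f := by
          rw [hw01, hw23, zp_conj hwz]; group
      _ = (F.s 2 * F.s 3) * (F.s 0 * F.s 1) * (zp z (xor a b) * zp z (xor a b)) * zp z f := by
          rw [(zp_commute ((F.commute_z h 0).mul_left (F.commute_z h 1)) (xor a b)).eq.symm]; group
      _ = _ := by rw [zp_mul h, hf, e01.eq]; simp
  have pm : ∀ (i : Fin 5), F.s i ∈ Q := F.mem
  obtain ⟨q, hq, hqz, hqw, hq4, hcase⟩ : ∃ q ∈ Q, Commute q z ∧ (∃ e, t * (w * q) * t⁻¹ = w * q * zp z e) ∧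
      Commute q (F.s 4) ∧ (q = 1 ∨ q = F.s 0 * F.s 2) := by
    by_cases hε : xor (xor A B) (xor a b) = true
    · refine ⟨F.s 0 * F.s 2, mul_mem (pm 0) (pm 2), (F.commute_z h 0).mul_left (F.commute_z h 2), ?_,
        F.fl_false_iff.mp (by rw [F.fl_mul h (pm 0) (pm 2), F.fl_s h, F.fl_s h]; rfl), Or.inr rfl⟩
      set r := F.s 0 * F.s 2
      have hrQ : r ∈ Q := mul_mem (pm 0) (pm 2)
      -- `q⁻¹ w⁻¹ k w (t q t⁻¹)` is central
      have htr : t * r * t⁻¹ ∈ Q := h.normalizes t o.comm r hrQ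
      have hm : r⁻¹ * (w⁻¹ * k * w) * (t * r * t⁻¹) ∈ Q :=
        mul_mem (mul_mem (inv_mem hrQ) (by simpa using h.normalizes w⁻¹ hwz.inv_left k hkQ)) htr
      obtain ⟨e, he⟩ := F.eq_zp_of_commute d hm fun i => F.fl_false_iff.mp (by
        have hki : F.fl (w⁻¹ * k * w) i.castSucc = true := by
          have hwk := F.fl_conj ⟨w⁻¹, mem_cz.mpr hwz.inv_left⟩ hkQ h (p02 i.castSucc)
          have hθi : F.θ ⟨w⁻¹, mem_cz.mpr hwz.inv_left⟩ = p02 := by
            rw [← hθw]; congr 1; exact Subtype.ext hwi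
          rw [hθi, show p02 (p02 i.castSucc) = i.castSucc from by clear * - i; revert i; decide] at hwk
          rw [show w⁻¹ * k * w = w⁻¹ * k * w⁻¹⁻¹ by rw [inv_inv]]
          rw [hwk, hflip _ (by clear * - i; revert i; decide), hε]
        have htq : F.fl (t * r * t⁻¹) i.castSucc = F.fl r (p01 i.castSucc) := by
          have e := F.fl_conj t' hrQ h (p01 i.castSucc)
          rwa [o.perm, show p01 (p01 i.castSucc) = i.castSucc from by clear * - i; revert i; decide] at e
        rw [F.fl_mul h (mul_mem (inv_mem hrQ) (by simpa using h.normalizes w⁻¹ hwz.inv_left k hkQ)) htr,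
          F.fl_mul h (inv_mem hrQ) (by simpa using h.normalizes w⁻¹ hwz.inv_left k hkQ), F.fl_inv h hrQ,
          hki, htq, F.fl_mul h (pm 0) (pm 2), F.fl_mul h (pm 0) (pm 2), F.fl_s h, F.fl_s h, F.fl_s h,
          F.fl_s h]
        clear * - i; revert i; decide)
      refine ⟨e, ?_⟩
      rw [← he]
      simp only [k]; group
    · have hε' : xor (xor A B) (xor a b) = false := Bool.eq_false_iff.mpr hε
      refine ⟨1, one_mem _, Commute.one_left z, ?_, Commute.one_left _, Or.inl rfl⟩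
      obtain ⟨e, he⟩ := F.eq_zp_of_commute d hkQ fun i => F.fl_false_iff.mp (by
        rw [hflip _ (by clear * - i; revert i; decide), hε'])
      refine ⟨e, ?_⟩
      rw [mul_one, ← (zp_commute hwz e).eq.symm, ← he]
      simp only [k]; group
  obtain ⟨e, hqw⟩ := hqw
  have hu1z : Commute (w * q) z := hwz.mul_left hqz
  have hθ1 : F.θ ⟨w * q, mem_cz.mpr hu1z⟩ = p02 := by
    have : (⟨w * q, mem_cz.mpr hu1z⟩ : ↥C) = ⟨w, mem_cz.mpr hwz⟩ * ⟨q, mem_cz.mpr hqz⟩ := Subtype.ext rfl
    rw [this, map_mul, hθw, (F.ker _).mpr hq, mul_one]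
  have hu14 : Commute (w * q) (F.s 4) := hw4.mul_left hq4
  have hsq1 : (w * q) * (w * q) = 1 := by
    rcases hcase with rfl | rfl
    · rw [mul_one, hw]
    · calc w * (F.s 0 * F.s 2) * (w * (F.s 0 * F.s 2))
          = (w * (F.s 0 * F.s 2) * w⁻¹) * (w * w) * (F.s 0 * F.s 2) := by group
        _ = F.s 0 * (F.s 2 * z * F.s 0) * F.s 2 := by rw [hw02, hw]; group
        _ = F.s 0 * (F.s 0 * F.s 2) * (z * z) * F.s 2 := by
            rw [mul_assoc (F.s 2) z, ← (F.commute_z h 0).eq, ← mul_assoc (F.s 2), F.anti 0 2 (by decide)]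
            group
        _ = 1 := by rw [h.sq, mul_one, ← mul_assoc, F.sq, one_mul, F.sq]
  cases e with
  | false =>
    refine ⟨w * q, hu1z, mul_inv_eq_iff_eq_mul.mp ?_, hθ1, hu14, Or.inl hsq1⟩
    have : Commute t (w * q) := mul_inv_eq_iff_eq_mul.mp (by rw [hqw]; simp)
    exact mul_inv_eq_iff_eq_mul.mpr this.eq.symm
  | true =>
    set r := F.s 0 * F.s 1
    have hrQ : r ∈ Q := mul_mem (pm 0) (pm 1)
    have hrz : Commute r z := h.central r hrQ
    have hu : Commute (w * q * r) z := hu1z.mul_left hrz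
    have hcom : Commute t (w * q * r) := by
      refine mul_inv_eq_iff_eq_mul.mp ?_
      rw [← conj_mul, hqw, h01, zp_true]
      calc w * q * z * (r * z) = w * q * (z * r) * z := by group
        _ = w * q * r * (z * z) := by rw [hrz.eq.symm]; group
        _ = _ := by rw [h.sq, mul_one]
    have hr4 : Commute r (F.s 4) :=
      F.fl_false_iff.mp (by rw [F.fl_mul h (pm 0) (pm 1), F.fl_s h, F.fl_s h]; rfl)
    refine ⟨w * q * r, hu, hcom.symm, ?_, hu14.mul_left hr4, Or.inr ?_⟩
    · have : (⟨w * q * r, mem_cz.mpr hu⟩ : ↥C) = ⟨w * q, mem_cz.mpr hu1z⟩ * ⟨r, mem_cz.mpr hrz⟩ :=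
        Subtype.ext rfl
      rw [this, map_mul, hθ1, (F.ker _).mpr hrQ, mul_one]
    · have hsq : w * q * r * (w * q * r) = (w * q) * r * (w * q)⁻¹ * r := by
        rw [inv_eq_of_mul_eq_one_right hsq1]; group
      rw [hsq]
      have hmem : w * q * r * (w * q)⁻¹ * r ∈ Q := mul_mem (h.normalizes _ hu1z r hrQ) hrQ
      refine F.eq_of_fl d (F.mem 4) hmem fun i => ?_
      have e1 := F.fl_conj ⟨w * q, mem_cz.mpr hu1z⟩ hrQ h (p02 i.castSucc)
      rw [hθ1, show p02 (p02 i.castSucc) = i.castSucc from by clear * - i; revert i; decide] at e1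
      rw [F.fl_mul h (h.normalizes _ hu1z r hrQ) hrQ, F.fl_s h]
      show decide (i.castSucc ≠ (4 : Fin 5)) = (F.fl (↑(⟨w * q, mem_cz.mpr hu1z⟩ : ↥C) * r *
        (↑(⟨w * q, mem_cz.mpr hu1z⟩ : ↥C) : G)⁻¹) i.castSucc ^^ F.fl r i.castSucc)
      rw [e1, F.fl_mul h (pm 0) (pm 1), F.fl_mul h (pm 0) (pm 1), F.fl_s h, F.fl_s h, F.fl_s h, F.fl_s h]
      clear * - i; revert i; decide

/-- The shape of `C(z) ∩ C(t)` seen from `C(z)`. -/
theorem inter_spec (o : Outer F t) (d : Data z Q) :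
    Nat.card (cc z t) = 16 ∧ (∀ a ∈ cc z t, ∀ b ∈ cc z t, Commute a b) ∧
      (∀ a ∈ cc z t, Commute a (F.s 4)) ∧
      ∀ a ∈ cc z t, a * a = 1 ∨ ∃ e, a * a = F.s 4 * zp z e := by
  have h := d.hub
  obtain ⟨u, huz, hut, hθu, hu4, hu2⟩ := o.exists_second d
  set C := centralizer ({z} : Set G)
  set t' : ↥C := ⟨t, mem_cz.mpr o.comm⟩
  set u' : ↥C := ⟨u, mem_cz.mpr huz⟩
  have ht4 := o.commute_four d
  have hv : ∀ a e, Commute (pw (F.s 4) a * zp z e) z ∧ Commute (pw (F.s 4) a * zp z e) t ∧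
      pw (F.s 4) a * zp z e ∈ Q := fun a e => by
    refine ⟨(h.central _ (mul_mem (F.pw_mem 4 a) (zp_mem h e))), ?_, mul_mem (F.pw_mem 4 a) (zp_mem h e)⟩
    refine Commute.mul_left ?_ (zp_commute o.comm e).symm
    cases a
    exacts [Commute.one_left t, ht4.symm]
  let f : (Bool × Bool) × (Bool × Bool) → G := fun p =>
    pw (F.s 4) p.1.1 * zp z p.1.2 * (pw t p.2.1 * pw u p.2.2)
  have hfA : ∀ p, f p ∈ cc z t := fun p => by
    obtain ⟨h1, h2, -⟩ := hv p.1.1 p.1.2
    refine mem_cc.mpr ⟨h1.mul_left (Commute.mul_left ?_ ?_), h2.mul_left (Commute.mul_left ?_ ?_)⟩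
    · cases p.2.1
      exacts [Commute.one_left z, o.comm]
    · cases p.2.2
      exacts [Commute.one_left z, huz]
    · cases p.2.1
      exacts [Commute.one_left t, Commute.refl t]
    · cases p.2.2
      exacts [Commute.one_left t, hut]
  have hall : ∀ a ∈ cc z t, ∃ p, a = f p := by
    intro a ha
    obtain ⟨haz, hat⟩ := mem_cc.mp ha
    set a' : ↥C := ⟨a, mem_cz.mpr haz⟩
    have hθ : F.θ a' * p01 = p01 * F.θ a' := by
      rw [← o.perm, ← map_mul, ← map_mul]
      exact congrArg F.θ (Subtype.ext hat.eq)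
    have fin : ∀ (i j : Bool) (b : ↥C), (b : G) = pw t i * pw u j → F.θ a' = F.θ b → ∃ p, a = f p := by
      intro i j b hb hθb
      have hbt : Commute (b : G) t := by
        rw [hb]
        cases i <;> cases j <;> simp [pw, hut, (Commute.refl t).mul_left hut]
      have hmem : ((a' * b⁻¹ : ↥C) : G) ∈ Q := by
        rw [← F.ker, map_mul, map_inv, hθb, mul_inv_cancel]
      obtain ⟨x, e, hxe⟩ := o.centralizer_cases d hmem (hat.mul_left hbt.inv_left).symm
      refine ⟨((x, e), (i, j)), ?_⟩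
      show a = pw (F.s 4) x * zp z e * (pw t i * pw u j)
      rw [← hxe, ← hb]
      show a = a * (b : G)⁻¹ * b
      rw [inv_mul_cancel_right]
    rcases p01_centralizer _ (F.even a') hθ with e | e | e | e
    · exact fin false false 1 (by simp [pw]) (e.trans (map_one F.θ).symm)
    · exact fin true false t' (by simp [pw, t']) (e.trans o.perm.symm)
    · exact fin false true u' (by simp [pw, u']) (e.trans hθu.symm)
    · exact fin true true (t' * u') (by simp [pw, t', u']) (by rw [e, map_mul, o.perm, hθu])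
  have hc4 : ∀ a ∈ cc z t, Commute a (F.s 4) := by
    intro a ha
    obtain ⟨⟨⟨x, e⟩, ⟨i, j⟩⟩, rfl⟩ := hall a ha
    refine (Commute.mul_left ?_ (zp_commute (F.commute_z h 4) e).symm).mul_left (Commute.mul_left ?_ ?_)
    · cases x
      exacts [Commute.one_left _, Commute.refl _]
    · cases i
      exacts [Commute.one_left _, ht4]
    · cases j
      exacts [Commute.one_left _, hu4]
  have hcab : ∀ a ∈ cc z t, ∀ b ∈ cc z t, Commute a b := by
    intro a ha b hb
    obtain ⟨hbz, hbt⟩ := mem_cc.mp hb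
    have hbu : Commute b u := by
      obtain ⟨⟨⟨x, e⟩, ⟨i, j⟩⟩, rfl⟩ := hall b hb
      refine (Commute.mul_left ?_ (zp_commute huz e).symm).mul_left (Commute.mul_left ?_ ?_)
      · cases x
        exacts [Commute.one_left _, hu4.symm]
      · cases i
        exacts [Commute.one_left _, hut.symm]
      · cases j
        exacts [Commute.one_left _, Commute.refl _]
    obtain ⟨⟨⟨x, e⟩, ⟨i, j⟩⟩, rfl⟩ := hall a ha
    refine (Commute.mul_left ?_ (zp_commute hbz e).symm).mul_left (Commute.mul_left ?_ ?_)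
    · cases x
      exacts [Commute.one_left _, (hc4 b hb).symm]
    · cases i
      exacts [Commute.one_left _, hbt.symm]
    · cases j
      exacts [Commute.one_left _, hbu.symm]
  refine ⟨?_, hcab, hc4, ?_⟩
  · let g : (Bool × Bool) × (Bool × Bool) → ↥(cc z t) := fun p => ⟨f p, hfA p⟩
    have hg : Function.Bijective g := by
      refine ⟨?_, fun a => ?_⟩
      · rintro ⟨⟨x, e⟩, ⟨i, j⟩⟩ ⟨⟨x', e'⟩, ⟨i', j'⟩⟩ hp
        have hp' : f ((x, e), (i, j)) = f ((x', e'), (i', j')) := congrArg Subtype.val hp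
        let L : Bool → Bool → Bool → Bool → ↥C := fun x e i j =>
          ⟨pw (F.s 4) x * zp z e, mem_cz.mpr (hv x e).1⟩ * ((cond i t' 1) * (cond j u' 1))
        have hL : ∀ x e i j, (L x e i j : G) = f ((x, e), (i, j)) := by
          intro x e i j; cases i <;> cases j <;> rfl
        have hθL : ∀ x e i j, F.θ (L x e i j) = cond i p01 1 * cond j p02 1 := by
          intro x e i j
          simp only [L, map_mul, (F.ker ⟨pw (F.s 4) x * zp z e, mem_cz.mpr (hv x e).1⟩).mpr (hv x e).2.2,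
            one_mul]
          cases i <;> cases j <;> simp [o.perm, hθu, t']
        have hLe : L x e i j = L x' e' i' j' := Subtype.ext (by rw [hL, hL, hp'])
        have hij : (i, j) = (i', j') := by
          have e := congrArg F.θ hLe
          rw [hθL, hθL] at e
          exact (by decide +kernel : ∀ i j i' j' : Bool,
            cond i p01 1 * cond j p02 1 = cond i' p01 1 * cond j' p02 1 → (i, j) = (i', j')) i j i' j' e
        obtain ⟨rfl, rfl⟩ := Prod.ext_iff.mp hij
        have h1 : pw (F.s 4) x * zp z e = pw (F.s 4) x' * zp z e' := mul_right_cancel hp'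
        have hxx : x = x' := by
          have e := congrArg (fun q => F.fl q 0) h1
          simp only [F.fl_mul h (F.pw_mem 4 _) (zp_mem h _), F.fl_zp h] at e
          cases x <;> cases x' <;> simp_all [pw, Frame.fl_one, Frame.fl_s]
        subst hxx
        exact Prod.ext (Prod.ext rfl (zp_inj h (mul_left_cancel h1))) rfl
      · obtain ⟨p, hp⟩ := hall a a.2
        exact ⟨p, Subtype.ext hp.symm⟩
    rw [← Nat.card_eq_of_bijective g hg, Nat.card_prod, Nat.card_prod, Nat.card_eq_fintype_card,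
      Fintype.card_bool]
  · intro a ha
    obtain ⟨⟨⟨x, e⟩, ⟨i, j⟩⟩, hp⟩ := hall a ha
    set v := pw (F.s 4) x * zp z e
    obtain ⟨hvz, hvt, hvQ⟩ := hv x e
    have hvu : Commute v u := by
      refine Commute.mul_left ?_ (zp_commute huz e).symm
      cases x
      exacts [Commute.one_left _, hu4.symm]
    have hvv : v * v = 1 := by
      have : zp z e * zp z e = 1 := by rw [zp_mul h]; simp
      calc v * v = pw (F.s 4) x * (zp z e * pw (F.s 4) x) * zp z e := by simp only [v]; group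
        _ = (pw (F.s 4) x * pw (F.s 4) x) * (zp z e * zp z e) := by
            rw [(zp_commute (h.central _ (F.pw_mem 4 x)) e).eq.symm]; group
        _ = 1 := by rw [this, mul_one]; cases x <;> simp [pw, F.sq]
    have haa : a * a = pw (u * u) j := by
      rw [hp]
      show v * (pw t i * pw u j) * (v * (pw t i * pw u j)) = _
      cases i <;> cases j <;> simp only [pw, cond_true, cond_false, one_mul, mul_one]
      · exact hvv
      · rw [hvu.symm.mul_mul_mul_comm, hvv, one_mul]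
      · rw [hvt.symm.mul_mul_mul_comm, hvv, o.sq, one_mul]
      · rw [(hvt.mul_right hvu).symm.mul_mul_mul_comm, hvv, one_mul, hut.mul_mul_mul_comm, o.sq, one_mul]
    rw [haa]
    cases j
    exacts [Or.inl rfl, hu2]

end Outer

/-- `s` is the involution of `Q` centralised by `t`, and `C(z) ∩ C(t)` is elementary of order 16. -/
structure Around (z : G) (Q : Subgroup G) (t s : G) : Prop where
  sing : Sing z Q s
  comm : Commute t s
  cases : ∀ q ∈ Q, Commute t q → q = 1 ∨ q = z ∨ q = s ∨ q = s * z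
  card : Nat.card (cc z t) = 16
  abelian : ∀ a ∈ cc z t, ∀ b ∈ cc z t, Commute a b
  sq : ∀ a ∈ cc z t, a * a = 1
  comm_s : ∀ a ∈ cc z t, Commute a s
  eq_s : cc s t = cc z t
  eq_sz : cc (s * z) t = cc z t

theorem Data.exists_around (d : Data z Q) {t : G} (htz : Commute t z) (ht : t * t = 1) (htQ : t ∉ Q) :
    ∃ s, Around z Q t s := by
  have h := d.hub
  obtain ⟨F, o⟩ := d.exists_outer htz ht htQ
  obtain ⟨hcard, hab, hc4, hsq⟩ := o.inter_spec d
  set s := F.s 4
  have hs : Sing z Q s := F.sing_s 4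
  have hts : Commute t s := o.commute_four d
  have hcases : ∀ q ∈ Q, Commute t q → q = 1 ∨ q = z ∨ q = s ∨ q = s * z := by
    intro q hq hc
    obtain ⟨a, e, rfl⟩ := o.centralizer_cases d hq hc
    cases a <;> cases e <;> simp [pw, s]
  -- the same seen from a conjugate of `z` in `C_Q(t)`
  have view : ∀ v, Sing z Q v → Commute t v → (∀ a ∈ cc z t, Commute a v) →
      cc v t = cc z t ∧ ∀ a ∈ cc z t, a * a = 1 ∨ a * a = z ∨ a * a = z * v := by
    intro v hv htv hav
    obtain ⟨g, rfl⟩ := isConj_iff.mp (d.isConj_sing hv)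
    set t1 := g⁻¹ * t * g
    have cm : ∀ {x y : G}, Commute x y → Commute (g⁻¹ * x * g) (g⁻¹ * y * g) := fun {x y} e => by
      have := e.map (MulAut.conj g⁻¹).toMonoidHom
      simpa [mul_assoc] using this
    have ht1z : Commute t1 z := by
      have := cm htv
      rwa [show g⁻¹ * (g * z * g⁻¹) * g = z by group] at this
    have ht1 : t1 * t1 = 1 := by
      calc t1 * t1 = g⁻¹ * (t * t) * g := by simp only [t1]; group
        _ = 1 := by rw [ht]; group
    have ht1ne : t1 ≠ 1 := fun e => o.ne_one (by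
      calc t = g * t1 * g⁻¹ := by simp only [t1]; group
        _ = 1 := by rw [e]; group)
    have ht1Q : t1 ∉ Q := fun e => d.not_isConj_outer o
      (((d.mem_iff_isConj ht1z ht1 ht1ne).mp e).trans (isConj_iff.mpr ⟨g, by simp [t1, mul_assoc]⟩))
    obtain ⟨F1, o1⟩ := d.exists_outer ht1z ht1 ht1Q
    obtain ⟨hcard1, -, -, hsq1⟩ := o1.inter_spec d
    have hmap : cc (g * z * g⁻¹) t = (cc z t1).map (MulAut.conj g).toMonoidHom := by
      ext x
      rw [LargeExtraspecial.mem_conj_iff, mem_cc, mem_cc]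
      constructor
      · rintro ⟨a, b⟩
        refine ⟨?_, cm b⟩
        have := cm a
        rwa [show g⁻¹ * (g * z * g⁻¹) * g = z by group] at this
      · rintro ⟨a, b⟩
        have cm' : ∀ {x y : G}, Commute x y → Commute (g * x * g⁻¹) (g * y * g⁻¹) := fun {x y} e =>
          e.map (MulAut.conj g).toMonoidHom
        have a' := cm' a
        have b' := cm' b
        rw [show g * (g⁻¹ * x * g) * g⁻¹ = x by group] at a' b'
        rw [show g * t1 * g⁻¹ = t by simp only [t1]; group] at b'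
        exact ⟨a', b'⟩
    have hle : cc z t ≤ cc (g * z * g⁻¹) t := fun a ha => mem_cc.mpr ⟨hav a ha, (mem_cc.mp ha).2⟩
    have heq : cc z t = cc (g * z * g⁻¹) t := eq_of_le_of_card_ge hle (by
      rw [hmap, card_map_of_injective (MulAut.conj g).injective, hcard1, hcard])
    refine ⟨heq.symm, fun a ha => ?_⟩
    have ha' : g⁻¹ * a * g ∈ cc z t1 := by
      have : a ∈ (cc z t1).map (MulAut.conj g).toMonoidHom := hmap ▸ hle ha
      exact LargeExtraspecial.mem_conj_iff.mp this
    have hback : Sing z Q (g⁻¹ * z * g) := d.back_mem hv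
    have hzt1 : Commute t1 (g⁻¹ * z * g) := cm htz
    obtain ⟨x, e, hxe⟩ := o1.centralizer_cases d hback.1 hzt1
    cases x with
    | false => cases e <;> simp [pw] at hxe <;> simp_all [Sing]
    | true =>
      simp only [pw, cond_true] at hxe
      have hs1 : F1.s 4 = g⁻¹ * z * g * zp z e := by
        rw [hxe, mul_assoc, zp_mul h]; simp
      have e2 : a * a = g * (g⁻¹ * a * g * (g⁻¹ * a * g)) * g⁻¹ := by group
      rcases hsq1 _ ha' with e' | ⟨f, e'⟩
      · left; rw [e2, e']; group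
      · rw [hs1, mul_assoc (g⁻¹ * z * g), zp_mul h] at e'
        rw [e'] at e2
        cases hb : xor e f with
        | false =>
          rw [hb, zp_false, mul_one] at e2
          right; left; rw [e2]; group
        | true =>
          rw [hb, zp_true] at e2
          right; right; rw [e2]; group
  obtain ⟨hS, hsqS⟩ := view s hs hts hc4
  obtain ⟨hSz, hsqSz⟩ := view (s * z) (hs.mul_z h) (hts.mul_right htz)
    (fun a ha => (hc4 a ha).mul_right (mem_cc.mp ha).1)
  refine ⟨s, hs, hts, hcases, hcard, hab, fun a ha => ?_, hc4, hS, hSz⟩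
  have hsz : Commute s z := h.central s hs.1
  have hzsz : z * (s * z) = s := by rw [hsz.eq, ← mul_assoc, h.sq, one_mul]
  rcases hsq a ha with e | ⟨f, e⟩
  · exact e
  · exfalso
    cases f with
    | false =>
      rw [zp_false, mul_one] at e
      rcases hsqS a ha with e' | e' | e' <;> rw [e] at e'
      · exact hs.2.2.1 e'
      · exact hs.2.2.2 e'
      · exact h.ne_one (by simpa using (e'.symm : z * s = s))
    | true =>
      rw [zp_true] at e
      rcases hsqSz a ha with e' | e' | e' <;> rw [e] at e'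
      · exact (hs.mul_z h).2.2.1 e'
      · exact (hs.mul_z h).2.2.2 e'
      · rw [hzsz] at e'
        exact h.ne_one (by simpa using e')

end Cfsg.Agent.HJType
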