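import Cfsg.Agent.Lib.HJType.Setting
import Mathlib.GroupTheory.SpecificGroups.Alternating.Simple

/-!
# Hall–Janko type: the frame of five singular pairs

`Frame`: `s i` anticommute pairwise, `C(z)` permutes the pairs through `θ` with kernel `Q` and
image the even permutations. `Frame.fl q i`: whether `q` moves `s i`; `Frame.mon`: normal form.
-/

set_option autoImplicit false
set_option maxHeartbeats 400000

namespace Cfsg.Agent.HJType

open Subgroup
open Cfsg.Agent.LargeExtraspecial (Hub)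

variable {G : Type*} [Group G] {z : G} {Q : Subgroup G}

/-- `1` or `z`. -/
def zp (z : G) (e : Bool) : G := cond e z 1

/-- `1` or `x`. -/
def pw (x : G) (e : Bool) : G := cond e x 1

@[simp] theorem zp_false : zp z false = 1 := rfl
@[simp] theorem zp_true : zp z true = z := rfl

theorem zp_mul (h : Hub Q z) (a b : Bool) : zp z a * zp z b = zp z (xor a b) := by
  cases a <;> cases b <;> simp [h.sq]

theorem zp_mem (h : Hub Q z) (a : Bool) : zp z a ∈ Q := by
  cases a
  exacts [one_mem _, h.mem]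

theorem zp_inj (h : Hub Q z) {a b : Bool} (e : zp z a = zp z b) : a = b := by
  cases a <;> cases b <;> simp [h.ne_one, h.ne_one.symm] at e ⊢

theorem zp_conj {c : G} (hc : Commute c z) (a : Bool) : c * zp z a * c⁻¹ = zp z a := by
  cases a
  · simp
  · simp [hc.eq]

theorem zp_commute {c : G} (hc : Commute c z) (a : Bool) : Commute c (zp z a) := by
  cases a
  exacts [Commute.one_right c, hc]

/-- The five pairs of noncentral involutions of `Q`. -/
structure Frame (z : G) (Q : Subgroup G) where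
  s : Fin 5 → G
  θ : ↥(centralizer ({z} : Set G)) →* Equiv.Perm (Fin 5)
  mem : ∀ i, s i ∈ Q
  sq : ∀ i, s i * s i = 1
  ne_one : ∀ i, s i ≠ 1
  ne_z : ∀ i, s i ≠ z
  anti : ∀ i j, i ≠ j → s j * s i = s i * s j * z
  sing : ∀ q, Sing z Q q → ∃ i e, q = s i * zp z e
  act : ∀ (c : ↥(centralizer ({z} : Set G))) i, ∃ e, (c : G) * s i * (c : G)⁻¹ = s (θ c i) * zp z e
  ker : ∀ c, θ c = 1 ↔ (c : G) ∈ Q
  even : ∀ c, Equiv.Perm.sign (θ c) = 1
  surj : ∀ π : Equiv.Perm (Fin 5), Equiv.Perm.sign π = 1 → ∃ c, θ c = π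

variable [Finite G]

theorem Data.exists_frame (d : Data z Q) : Nonempty (Frame z Q) := by
  classical
  have : Fintype G := Fintype.ofFinite G
  have h := d.hub
  obtain ⟨h10, hpair⟩ := d.card_sing
  let S' := {q : G // Sing z Q q}
  have hcz : ∀ a : S', Commute (a : G) z := fun a => h.central _ a.2.1
  let r : Setoid S' :=
    ⟨fun a b => Commute (a : G) (b : G), fun a => Commute.refl _, fun e => e.symm, fun {a b c} e1 e2 => by
      rcases hpair _ _ a.2 b.2 e1 with e | e <;> rcases hpair _ _ b.2 c.2 e2 with e' | e' <;>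
        show Commute (a : G) (c : G)
      · rw [e', e]
      · rw [e', e]; exact (Commute.refl _).mul_right (hcz a)
      · rw [e', e]; exact (Commute.refl _).mul_right (hcz a)
      · rw [e', e]; exact ((Commute.refl _).mul_right (hcz a)).mul_right (hcz a)⟩
  let Pt := Quotient r
  have hfib : ∀ a : S', ∃ e, (a : G) = ((Quotient.mk r a).out : S') * zp z e := fun a => by
    have hr : Commute ((Quotient.mk r a).out : G) (a : G) :=
      (Quotient.exact (Quotient.out_eq (Quotient.mk r a)) : r.r _ _)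
    rcases hpair _ _ (Quotient.mk r a).out.2 a.2 hr with e | e
    exacts [⟨false, by simp [e]⟩, ⟨true, by simp [e]⟩]
  let F : Pt × Bool → S' := fun p => ⟨(p.1.out : G) * zp z p.2, by
    cases p.2
    · simpa using p.1.out.2
    · exact p.1.out.2.mul_z h⟩
  have hFb : Function.Bijective F := by
    refine ⟨fun a b e => ?_, fun a => ?_⟩
    · have e' : (a.1.out : G) * zp z a.2 = b.1.out * zp z b.2 := congrArg Subtype.val e
      have h1 : a.1 = b.1 := by
        rw [← Quotient.out_eq a.1, ← Quotient.out_eq b.1]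
        refine Quotient.sound ?_
        show Commute (a.1.out : G) (b.1.out : G)
        have hb : (b.1.out : G) = a.1.out * (zp z a.2 * (zp z b.2)⁻¹) := by
          rw [← mul_assoc, e', mul_inv_cancel_right]
        rw [hb]
        exact (Commute.refl _).mul_right
          ((zp_commute (hcz _) _).mul_right (zp_commute (hcz _) _).inv_right)
      rw [h1] at e'
      exact Prod.ext h1 (zp_inj h (mul_left_cancel e'))
    · obtain ⟨e, he⟩ := hfib a
      exact ⟨(Quotient.mk r a, e), Subtype.ext he.symm⟩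
  have : Fintype Pt := Fintype.ofFinite Pt
  have hPt : Fintype.card Pt = 5 := by
    have e := Nat.card_eq_of_bijective F hFb
    rw [h10, Nat.card_prod, Nat.card_eq_fintype_card (α := Bool), Fintype.card_bool] at e
    rw [← Nat.card_eq_fintype_card]; omega
  let en : Pt ≃ Fin 5 := Fintype.equivFinOfCardEq hPt
  set C := centralizer ({z} : Set G)
  let act : ↥C → Pt → Pt := fun c =>
    Quotient.map (fun a => ⟨(c : G) * a * (c : G)⁻¹, a.2.conj h (mem_cz.mp c.2)⟩)
      (fun a b hab => by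
        show Commute ((c : G) * a * (c : G)⁻¹) ((c : G) * b * (c : G)⁻¹)
        exact hab.map (MulAut.conj (c : G)).toMonoidHom)
  let Θ : MulAction ↥C Pt :=
    { smul := act
      one_smul := fun x => by
        induction x using Quotient.ind with
        | _ a => exact congrArg (Quotient.mk r) (Subtype.ext (by simp))
      mul_smul := fun c c' x => by
        induction x using Quotient.ind with
        | _ a => exact congrArg (Quotient.mk r) (Subtype.ext (by simp [mul_assoc])) }
  let ρ : ↥C →* Equiv.Perm Pt := @MulAction.toPermHom _ _ _ Θ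
  have hρ : ∀ (c : ↥C) (a : S'),
      ρ c (Quotient.mk r a) = Quotient.mk r ⟨(c : G) * a * (c : G)⁻¹, a.2.conj h (mem_cz.mp c.2)⟩ :=
    fun c a => rfl
  have hQker : Q.subgroupOf C ≤ ρ.ker := by
    intro c hc
    refine MonoidHom.mem_ker.mpr (Equiv.ext fun x => ?_)
    induction x using Quotient.ind with
    | _ a =>
      rw [hρ, Equiv.Perm.one_apply]
      refine Quotient.sound ?_
      show Commute ((c : G) * a * (c : G)⁻¹) (a : G)
      rcases h.comm (c : G) (mem_subgroupOf.mp hc) a a.2.1 with e | e <;> rw [e]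
      exact (Commute.refl _).mul_left (hcz a).symm
  obtain ⟨c, hc, h5⟩ := d.exists_five
  obtain ⟨y, hy⟩ := d.exists_sing
  have hcρ : ρ ⟨c, mem_cz.mpr hc⟩ ≠ 1 := by
    intro e
    have e1 := hρ ⟨c, mem_cz.mpr hc⟩ ⟨y, hy⟩
    rw [e, Equiv.Perm.one_apply] at e1
    have hcom : Commute y (c * y * c⁻¹) := Quotient.exact e1
    have h2 : Commute (c * c) y := by
      refine mul_inv_eq_iff_eq_mul.mp ?_
      rcases hpair _ _ hy (hy.conj h hc) hcom with e2 | e2
      · calc c * c * y * (c * c)⁻¹ = c * (c * y * c⁻¹) * c⁻¹ := by group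
          _ = y := by rw [e2, e2]
      · calc c * c * y * (c * c)⁻¹ = c * (c * y * c⁻¹) * c⁻¹ := by group
          _ = c * (y * z) * c⁻¹ := by rw [e2]
          _ = (c * y * c⁻¹) * (c * z * c⁻¹) := by group
          _ = y := by rw [e2, hc.eq, mul_inv_cancel_right, mul_assoc, h.sq, mul_one]
    have hcy : Commute c y := by
      have h6 : c = (c * c) ^ 3 := by
        calc c = c ^ 5 * c := by rw [← h5, pow_orderOf_eq_one, one_mul]
          _ = (c * c) ^ 3 := by rw [← pow_two, ← pow_mul, ← pow_succ]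
      rw [h6]; exact h2.pow_left 3
    rcases d.five_fixed hc h5 hy.1 hcy with e' | e'
    exacts [hy.2.2.1 e', hy.2.2.2 e']
  obtain ⟨φ, hφ, hφker⟩ := d.quot
  have hker : ρ.ker = Q.subgroupOf C := by
    have : (ρ.ker.map φ).Normal := (inferInstance : ρ.ker.Normal).map φ hφ
    rcases this.eq_bot_or_eq_top with e | e
    · rw [Subgroup.map_eq_bot_iff, hφker] at e
      exact le_antisymm e hQker
    · exfalso
      have ht : ρ.ker = ⊤ := by
        rw [← comap_map_eq_self (hφker ▸ hQker : φ.ker ≤ ρ.ker), e, comap_top]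
      exact hcρ (MonoidHom.mem_ker.mp (ht ▸ mem_top _))
  let θ : ↥C →* Equiv.Perm (Fin 5) := en.permCongrHom.toMonoidHom.comp ρ
  have hθker : θ.ker = Q.subgroupOf C := by
    rw [← hker]; ext x
    simp only [MonoidHom.mem_ker, θ, MonoidHom.comp_apply]
    exact map_eq_one_iff _ (MulEquiv.injective _)
  have hcard : Nat.card θ.range = 60 := by
    rw [← Subgroup.index_ker, hθker]
    have e := (Q.subgroupOf C).card_mul_index
    rw [Nat.card_congr (subgroupOfEquivOfLe d.le).toEquiv, d.cardQ, d.cardC] at e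
    omega
  have hrange : θ.range = alternatingGroup (Fin 5) := by
    refine Equiv.Perm.eq_alternatingGroup_of_index_eq_two ?_
    have e := θ.range.card_mul_index
    rw [hcard, Nat.card_perm, Nat.card_eq_fintype_card, Fintype.card_fin] at e
    simp only [Nat.factorial] at e
    omega
  refine ⟨⟨fun i => ((en.symm i).out : G), θ, fun i => (en.symm i).out.2.1,
    fun i => (en.symm i).out.2.2.1, fun i => (en.symm i).out.2.2.2.1, fun i => (en.symm i).out.2.2.2.2,
    fun i j hij => ?_, fun q hq => ?_, fun c i => ?_, fun c => ?_, fun c => ?_, fun π hπ => ?_⟩⟩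
  · set a := (en.symm i).out
    set b := (en.symm j).out
    have hnc : ¬ Commute (a : G) (b : G) := fun e => hij (en.symm.injective (by
      rw [← Quotient.out_eq (en.symm i), ← Quotient.out_eq (en.symm j)]
      exact Quotient.sound e))
    have e := (h.comm b b.2.1 a a.2.1).resolve_left fun e => hnc (mul_inv_eq_iff_eq_mul.mp e).symm
    rw [mul_inv_eq_iff_eq_mul] at e
    rw [e, mul_assoc, ← (hcz b).eq, mul_assoc]
  · obtain ⟨e, he⟩ := hfib ⟨q, hq⟩
    exact ⟨en (Quotient.mk r ⟨q, hq⟩), e, by rw [Equiv.symm_apply_apply]; exact he⟩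
  · set a := (en.symm i).out
    obtain ⟨e, he⟩ := hfib ⟨(c : G) * a * (c : G)⁻¹, a.2.conj h (mem_cz.mp c.2)⟩
    refine ⟨e, ?_⟩
    have : en.symm (θ c i) = Quotient.mk r ⟨(c : G) * a * (c : G)⁻¹, a.2.conj h (mem_cz.mp c.2)⟩ := by
      rw [← hρ, Quotient.out_eq]
      simp [θ]
    rw [this]; exact he
  · rw [← MonoidHom.mem_ker, hθker, mem_subgroupOf]
  · exact Equiv.Perm.mem_alternatingGroup.mp (hrange ▸ MonoidHom.mem_range.mpr ⟨c, rfl⟩)
  · exact MonoidHom.mem_range.mp (hrange.symm ▸ Equiv.Perm.mem_alternatingGroup.mpr hπ)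

namespace Frame

variable (F : Frame z Q)

omit [Finite G]

/-- Re-indexing by a permutation. -/
def reindex (π : Equiv.Perm (Fin 5)) : Frame z Q where
  s := fun i => F.s (π i)
  θ := (MulAut.conj π⁻¹).toMonoidHom.comp F.θ
  mem i := F.mem _
  sq i := F.sq _
  ne_one i := F.ne_one _
  ne_z i := F.ne_z _
  anti i j hij := F.anti _ _ (π.injective.ne hij)
  sing q hq := by
    obtain ⟨i, e, rfl⟩ := F.sing q hq
    exact ⟨π⁻¹ i, e, by simp⟩
  act c i := by
    obtain ⟨e, he⟩ := F.act c (π i)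
    exact ⟨e, by simpa using he⟩
  ker c := by
    rw [← F.ker c, MonoidHom.comp_apply]
    exact map_eq_one_iff _ (MulEquiv.injective _)
  even c := by simp [F.even c]
  surj σ hσ := by
    obtain ⟨c, hc⟩ := F.surj (π * σ * π⁻¹) (by simp [hσ])
    exact ⟨c, by simp [hc, mul_assoc]⟩

theorem commute_z (h : Hub Q z) (i : Fin 5) : Commute (F.s i) z := h.central _ (F.mem i)

theorem sing_s (i : Fin 5) : Sing z Q (F.s i) := ⟨F.mem i, F.sq i, F.ne_one i, F.ne_z i⟩

theorem sing_sz (h : Hub Q z) (i : Fin 5) (e : Bool) : Sing z Q (F.s i * zp z e) := by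
  cases e
  · simpa using F.sing_s i
  · exact (F.sing_s i).mul_z h

open Classical in
/-- Whether `q` moves the involution `s i`. -/
noncomputable def fl (q : G) (i : Fin 5) : Bool := !decide (Commute q (F.s i))

theorem fl_false_iff {q : G} {i : Fin 5} : F.fl q i = false ↔ Commute q (F.s i) := by
  simp [fl]

theorem fl_spec (h : Hub Q z) {q : G} (hq : q ∈ Q) (i : Fin 5) :
    q * F.s i * q⁻¹ = F.s i * zp z (F.fl q i) := by
  by_cases hc : Commute q (F.s i)
  · rw [(F.fl_false_iff).mpr hc, hc.eq]; simp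
  · have : F.fl q i = true := by simp [fl, hc]
    rw [this]
    exact (h.comm q hq _ (F.mem i)).resolve_left fun e => hc (mul_inv_eq_iff_eq_mul.mp e)

theorem fl_eq (h : Hub Q z) {q : G} (hq : q ∈ Q) {i : Fin 5} {b : Bool}
    (e : q * F.s i * q⁻¹ = F.s i * zp z b) : F.fl q i = b :=
  zp_inj h (mul_left_cancel ((F.fl_spec h hq i).symm.trans e))

theorem fl_mul (h : Hub Q z) {p q : G} (hp : p ∈ Q) (hq : q ∈ Q) (i : Fin 5) :
    F.fl (p * q) i = xor (F.fl p i) (F.fl q i) := by
  refine F.fl_eq h (mul_mem hp hq) ?_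
  calc p * q * F.s i * (p * q)⁻¹ = p * (q * F.s i * q⁻¹) * p⁻¹ := by group
    _ = (p * F.s i * p⁻¹) * (p * zp z (F.fl q i) * p⁻¹) := by rw [F.fl_spec h hq]; group
    _ = _ := by rw [F.fl_spec h hp, zp_conj (h.central p hp), mul_assoc, zp_mul h]

theorem fl_zp (h : Hub Q z) (e : Bool) (i : Fin 5) : F.fl (zp z e) i = false :=
  F.fl_false_iff.mpr (zp_commute (F.commute_z h i) e).symm

theorem fl_one (i : Fin 5) : F.fl 1 i = false := F.fl_false_iff.mpr (Commute.one_left _)

theorem fl_inv (h : Hub Q z) {q : G} (hq : q ∈ Q) (i : Fin 5) : F.fl q⁻¹ i = F.fl q i := by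
  have e := F.fl_mul h hq (inv_mem hq) i
  rw [mul_inv_cancel, F.fl_one] at e
  revert e; cases F.fl q i <;> cases F.fl q⁻¹ i <;> simp

theorem fl_s (h : Hub Q z) (j i : Fin 5) : F.fl (F.s j) i = decide (i ≠ j) := by
  by_cases hij : i = j
  · subst hij; simp [F.fl_false_iff.mpr (Commute.refl (F.s i))]
  · rw [decide_eq_true hij]
    refine F.fl_eq h (F.mem j) ?_
    rw [F.anti i j hij, zp_true, mul_assoc (F.s i), (F.commute_z h j).eq, ← mul_assoc, mul_inv_cancel_right]

/-- Conjugation transports `fl`. -/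
theorem fl_conj (c : ↥(centralizer ({z} : Set G))) {q : G} (hq : q ∈ Q) (h : Hub Q z) (i : Fin 5) :
    F.fl ((c : G) * q * (c : G)⁻¹) (F.θ c i) = F.fl q i := by
  have hc := mem_cz.mp c.2
  refine F.fl_eq h (h.normalizes _ hc q hq) ?_
  obtain ⟨e, he⟩ := F.act c i
  have hs : F.s (F.θ c i) = (c : G) * F.s i * (c : G)⁻¹ * zp z e := by
    rw [he, mul_assoc, zp_mul h]; simp
  rw [hs]
  calc (c : G) * q * (c : G)⁻¹ * ((c : G) * F.s i * (c : G)⁻¹ * zp z e) * ((c : G) * q * (c : G)⁻¹)⁻¹
      = ((c : G) * (q * F.s i * q⁻¹) * (c : G)⁻¹) *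
          (((c : G) * q * (c : G)⁻¹) * zp z e * ((c : G) * q * (c : G)⁻¹)⁻¹) := by group
    _ = ((c : G) * F.s i * (c : G)⁻¹) * ((c : G) * zp z (F.fl q i) * (c : G)⁻¹) * zp z e := by
        rw [F.fl_spec h hq, zp_conj (h.central _ (h.normalizes _ hc q hq))]; group
    _ = _ := by
        rw [zp_conj hc, mul_assoc _ (zp z (F.fl q i)) (zp z e), zp_mul h, Bool.xor_comm, ← zp_mul h,
          ← mul_assoc]

/-- The normal form. -/
def mon (a : Fin 4 → Bool) : G :=
  pw (F.s 0) (a 0) * pw (F.s 1) (a 1) * pw (F.s 2) (a 2) * pw (F.s 3) (a 3)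

/-- The pattern of moved involutions of a normal form. -/
def pat (a : Fin 4 → Bool) (i : Fin 5) : Bool :=
  xor (xor (xor (a 0 && decide (i ≠ 0)) (a 1 && decide (i ≠ 1))) (a 2 && decide (i ≠ 2)))
    (a 3 && decide (i ≠ 3))

theorem pw_mem (j : Fin 5) (e : Bool) : pw (F.s j) e ∈ Q := by
  cases e
  exacts [one_mem _, F.mem j]

theorem mon_mem (a : Fin 4 → Bool) : F.mon a ∈ Q :=
  mul_mem (mul_mem (mul_mem (F.pw_mem 0 _) (F.pw_mem 1 _)) (F.pw_mem 2 _)) (F.pw_mem 3 _)

theorem fl_mon (h : Hub Q z) (a : Fin 4 → Bool) (e : Bool) (i : Fin 5) :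
    F.fl (F.mon a * zp z e) i = pat a i := by
  have hp : ∀ (j : Fin 5) (b : Bool), F.fl (pw (F.s j) b) i = (b && decide (i ≠ j)) := fun j b => by
    cases b
    · exact (F.fl_one i).trans (by simp)
    · exact (F.fl_s h j i).trans (by simp)
  rw [F.fl_mul h (F.mon_mem a) (zp_mem h e), F.fl_zp h, Bool.xor_false, mon,
    F.fl_mul h (mul_mem (mul_mem (F.pw_mem _ _) (F.pw_mem _ _)) (F.pw_mem _ _)) (F.pw_mem _ _),
    F.fl_mul h (mul_mem (F.pw_mem _ _) (F.pw_mem _ _)) (F.pw_mem _ _),
    F.fl_mul h (F.pw_mem _ _) (F.pw_mem _ _), hp, hp, hp, hp, pat]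

theorem pat_inj : ∀ a b : Fin 4 → Bool, (∀ i : Fin 5, pat a i = pat b i) → a = b := by
  decide +kernel

theorem pat_eq_zero : ∀ a : Fin 4 → Bool,
    (∀ i : Fin 4, pat a i.castSucc = false) → a = fun _ => false := by
  decide +kernel

theorem pat_swap : ∀ a : Fin 4 → Bool,
    (∀ i : Fin 5, pat a (Equiv.swap 0 1 (Equiv.swap 2 3 i)) = pat a i) → a 0 = a 1 ∧ a 2 = a 3 := by
  decide +kernel

theorem exists_mon (d : Data z Q) {q : G} (hq : q ∈ Q) : ∃ a e, q = F.mon a * zp z e := by
  have h := d.hub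
  have hfin : Finite ↥Q := Nat.finite_of_card_ne_zero (by rw [d.cardQ]; norm_num)
  let f : (Fin 4 → Bool) × Bool → ↥Q := fun p =>
    ⟨F.mon p.1 * zp z p.2, mul_mem (F.mon_mem _) (zp_mem h _)⟩
  have hf : Function.Injective f := by
    rintro ⟨a, e⟩ ⟨b, e'⟩ hab
    have hab' : F.mon a * zp z e = F.mon b * zp z e' := congrArg Subtype.val hab
    have : a = b := pat_inj a b fun i => by rw [← F.fl_mon h a e i, hab', F.fl_mon h b e' i]
    subst this
    exact Prod.ext rfl (zp_inj h (mul_left_cancel hab'))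
  have hcard : Nat.card ((Fin 4 → Bool) × Bool) = Nat.card ↥Q := by
    rw [d.cardQ, Nat.card_eq_fintype_card]; rfl
  obtain ⟨⟨a, e⟩, he⟩ := ((Nat.bijective_iff_injective_and_card f).mpr ⟨hf, hcard⟩).surjective ⟨q, hq⟩
  exact ⟨a, e, (congrArg Subtype.val he).symm⟩

/-- An element of `Q` centralising `s 0, …, s 3` is central. -/
theorem eq_zp_of_commute (d : Data z Q) {q : G} (hq : q ∈ Q)
    (hc : ∀ i : Fin 4, Commute q (F.s i.castSucc)) : ∃ e, q = zp z e := by
  obtain ⟨a, e, rfl⟩ := F.exists_mon d hq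
  have ha : a = fun _ => false := pat_eq_zero a fun i => by
    rw [← F.fl_mon d.hub a e]; exact F.fl_false_iff.mpr (hc i)
  exact ⟨e, by simp [ha, mon, pw]⟩

/-- Two elements of `Q` with one pattern differ by a central element. -/
theorem eq_of_fl (d : Data z Q) {p q : G} (hp : p ∈ Q) (hq : q ∈ Q)
    (hfl : ∀ i : Fin 4, F.fl p i.castSucc = F.fl q i.castSucc) : ∃ e, q = p * zp z e := by
  obtain ⟨e, he⟩ := F.eq_zp_of_commute d (mul_mem (inv_mem hp) hq) fun i => F.fl_false_iff.mp (by
    rw [F.fl_mul d.hub (inv_mem hp) hq, F.fl_inv d.hub hp, hfl]; simp)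
  exact ⟨e, by rw [← he, mul_inv_cancel_left]⟩

end Frame

end Cfsg.Agent.HJType
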