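import Cfsg.Agent.Lib.HJType.Four

/-!
# Hall–Janko type: incidences in `C(z)` and an element moving `z` inside `C(t)`

Each noncentral involution of `Q` centralises 24 of the 120 involutions of `C(z) - Q`; for such an
involution `t` some 3-element of `C(t)` moves `z` to another involution of `C_Q(t)`.
-/

set_option autoImplicit false
set_option maxHeartbeats 400000

namespace Cfsg.Agent.HJType

open Subgroup

variable {G : Type*} [Group G] {z : G} {Q : Subgroup G}

/-- An involution of `C(z)` outside `Q`. -/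
def IsOut (z : G) (Q : Subgroup G) (x : G) : Prop := Commute x z ∧ x * x = 1 ∧ x ∉ Q

theorem Commute.conj' {x y : G} (g : G) (h : Commute x y) : Commute (g * x * g⁻¹) (g * y * g⁻¹) :=
  h.map (MulAut.conj g).toMonoidHom

theorem exists_three_part (g : G) [Finite G] : ∃ m i, ¬ 3 ∣ m ∧ (g ^ m) ^ 3 ^ i = 1 := by
  obtain ⟨i, m, hm, he⟩ := Nat.exists_eq_pow_mul_and_not_dvd (orderOf_pos g).ne' 3 (by norm_num)
  exact ⟨m, i, hm, by rw [← pow_mul, mul_comm, ← he, pow_orderOf_eq_one]⟩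

variable [Finite G]

theorem conj_cycle_pow {g a b c : G} (h1 : g * a * g⁻¹ = b) (h2 : g * b * g⁻¹ = c)
    (h3 : g * c * g⁻¹ = a) {m : ℕ} (hm : ¬ 3 ∣ m) :
    g ^ m * a * (g ^ m)⁻¹ = b ∨ g ^ m * a * (g ^ m)⁻¹ = c := by
  have h33 : ∀ q, g ^ (3 * q) * a * (g ^ (3 * q))⁻¹ = a := by
    intro q
    induction q with
    | zero => simp
    | succ q ih =>
      calc g ^ (3 * (q + 1)) * a * (g ^ (3 * (q + 1)))⁻¹
          = g * (g * (g * (g ^ (3 * q) * a * (g ^ (3 * q))⁻¹) * g⁻¹) * g⁻¹) * g⁻¹ := by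
            rw [show 3 * (q + 1) = 1 + (1 + (1 + 3 * q)) by ring, pow_add, pow_add, pow_add, pow_one]
            group
        _ = a := by rw [ih, h1, h2, h3]
  obtain ⟨q, hq⟩ : ∃ q, m = 1 + 3 * q ∨ m = 1 + (1 + 3 * q) := ⟨m / 3, by omega⟩
  rcases hq with rfl | rfl
  · left
    calc g ^ (1 + 3 * q) * a * (g ^ (1 + 3 * q))⁻¹
        = g * (g ^ (3 * q) * a * (g ^ (3 * q))⁻¹) * g⁻¹ := by rw [pow_add, pow_one]; group
      _ = b := by rw [h33, h1]
  · right
    calc g ^ (1 + (1 + 3 * q)) * a * (g ^ (1 + (1 + 3 * q)))⁻¹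
        = g * (g * (g ^ (3 * q) * a * (g ^ (3 * q))⁻¹) * g⁻¹) * g⁻¹ := by
          rw [pow_add, pow_add, pow_one]; group
      _ = c := by rw [h33, h1, h2]

namespace Data

theorem exists_isOut (d : Data z Q) : ∃ x, IsOut z Q x := by
  obtain ⟨w, hw, hwz⟩ := d.two
  have hw2 : w * w = 1 := by rw [← pow_two, ← hw, pow_orderOf_eq_one]
  obtain ⟨g, hg⟩ := d.exists_conj_mem hw2
  have hg2 : g * w * g⁻¹ * (g * w * g⁻¹) = 1 := by
    calc g * w * g⁻¹ * (g * w * g⁻¹) = g * (w * w) * g⁻¹ := by group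
      _ = 1 := by rw [hw2]; group
  have hg1 : g * w * g⁻¹ ≠ 1 := fun e => by
    have e' : w = 1 := by simpa using e
    rw [e', orderOf_one] at hw; omega
  exact ⟨_, hg, hg2, fun hQ => hwz (((d.mem_iff_isConj hg hg2 hg1).mp hQ).trans
    (isConj_iff.mpr ⟨g, rfl⟩ : IsConj w (g * w * g⁻¹)).symm)⟩

theorem ne_one_of_isOut (_d : Data z Q) {x : G} (hx : IsOut z Q x) : x ≠ 1 :=
  fun e => hx.2.2 (e ▸ one_mem Q)

theorem isOut_of_not_isConj (d : Data z Q) {x : G} (hc : Commute x z) (hx : x * x = 1) (hx1 : x ≠ 1)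
    (hn : ¬ IsConj z x) : IsOut z Q x :=
  ⟨hc, hx, fun h => hn ((d.mem_iff_isConj hc hx hx1).mp h)⟩

theorem not_isConj_of_isOut (d : Data z Q) {x : G} (hx : IsOut z Q x) : ¬ IsConj z x :=
  fun h => hx.2.2 ((d.mem_iff_isConj hx.1 hx.2.1 (d.ne_one_of_isOut hx)).mpr h)

theorem isOut_conj (d : Data z Q) {x c : G} (hx : IsOut z Q x) (hc : Commute c z) :
    IsOut z Q (c * x * c⁻¹) := by
  refine ⟨(hc.mul_left hx.1).mul_left hc.inv_left, ?_, fun h => hx.2.2 ?_⟩
  · calc c * x * c⁻¹ * (c * x * c⁻¹) = c * (x * x) * c⁻¹ := by group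
      _ = 1 := by rw [hx.2.1]; group
  · have := d.hub.normalizes c⁻¹ hc.inv_left _ h
    simpa [mul_assoc] using this

/-- There are 120 involutions in `C(z) - Q`. -/
theorem card_isOut (d : Data z Q) : Nat.card {x // IsOut z Q x} = 120 := by
  obtain ⟨t, ht⟩ := d.exists_isOut
  obtain ⟨s, hs⟩ := d.exists_around ht.1 ht.2.1 ht.2.2
  set C := centralizer ({z} : Set G)
  set A := (cc z t).subgroupOf C
  let f : ↥C ⧸ A → {x // IsOut z Q x} :=
    Quotient.lift (fun c : ↥C => ⟨(c : G) * t * (c : G)⁻¹, d.isOut_conj ht (mem_cz.mp c.2)⟩)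
      (fun a b hab => by
        have hmem : (a : G)⁻¹ * (b : G) ∈ cc z t := mem_subgroupOf.mp (QuotientGroup.leftRel_apply.mp hab)
        have hc : Commute ((a : G)⁻¹ * b) t := (mem_cc.mp hmem).2
        refine Subtype.ext ?_
        calc (a : G) * t * (a : G)⁻¹ = (a : G) * (t * ((a : G)⁻¹ * b)) * (b : G)⁻¹ := by group
          _ = _ := by rw [← hc.eq]; group)
  have hf : Function.Bijective f := by
    refine ⟨fun a b => ?_, fun x => ?_⟩
    · induction a using QuotientGroup.induction_on with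
      | _ a =>
      induction b using QuotientGroup.induction_on with
      | _ b =>
      intro e
      have e' : (a : G) * t * (a : G)⁻¹ = (b : G) * t * (b : G)⁻¹ := congrArg Subtype.val e
      refine QuotientGroup.eq.mpr (mem_subgroupOf.mpr (mem_cc.mpr ⟨mem_cz.mp (a⁻¹ * b).2, ?_⟩))
      show (a : G)⁻¹ * b * t = t * ((a : G)⁻¹ * b)
      calc (a : G)⁻¹ * b * t = (a : G)⁻¹ * ((b : G) * t * (b : G)⁻¹) * b := by group
        _ = _ := by rw [← e']; group
    · obtain ⟨c, hc, hcx⟩ := d.conj_outside x.2.1 x.2.2.1 x.2.2.2 ht.1 ht.2.1 ht.2.2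
      exact ⟨QuotientGroup.mk ⟨c, mem_cz.mpr hc⟩, Subtype.ext hcx⟩
  rw [← Nat.card_eq_of_bijective f hf]
  have e := A.index_mul_card
  rw [Nat.card_congr (subgroupOfEquivOfLe inf_le_left).toEquiv, hs.card, d.cardC] at e
  rw [← Subgroup.index_eq_card]
  omega

/-- Each noncentral involution of `Q` centralises 24 involutions of `C(z) - Q`. -/
theorem card_isOut_commute (d : Data z Q) {y : G} (hy : Sing z Q y) :
    Nat.card {x // IsOut z Q x ∧ Commute x y} = 24 := by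
  classical
  have : Fintype G := Fintype.ofFinite G
  have hall : ∀ y', Sing z Q y' →
      Nat.card {x // IsOut z Q x ∧ Commute x y'} = Nat.card {x // IsOut z Q x ∧ Commute x y} := by
    intro y' hy'
    obtain ⟨c, hc, rfl⟩ := d.exists_conj_sing hy hy'
    refine Nat.card_congr ⟨fun x => ⟨c⁻¹ * x * c, ?_⟩, fun x => ⟨c * x * c⁻¹, ?_⟩,
      fun x => Subtype.ext (by simp [mul_assoc]), fun x => Subtype.ext (by simp [mul_assoc])⟩
    · refine ⟨by simpa using d.isOut_conj x.2.1 hc.inv_left, ?_⟩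
      have := Commute.conj' c⁻¹ x.2.2
      simpa [mul_assoc] using this
    · exact ⟨d.isOut_conj x.2.1 hc, Commute.conj' c x.2.2⟩
  have htwo : ∀ x : {x // IsOut z Q x}, Nat.card {y' : {q // Sing z Q q} // Commute (x : G) y'} = 2 := by
    intro x
    obtain ⟨s, hs⟩ := d.exists_around x.2.1 x.2.2.1 x.2.2.2
    refine Nat.card_eq_two_iff.mpr ⟨⟨⟨s, hs.sing⟩, hs.comm⟩,
      ⟨⟨s * z, hs.sing.mul_z d.hub⟩, hs.comm.mul_right x.2.1⟩, fun e => ?_, ?_⟩
    · have : s = s * z := congrArg (fun u => ((u.1 : {q // Sing z Q q}) : G)) e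
      exact d.hub.ne_one (by simpa using this.symm)
    · refine Set.eq_univ_of_forall fun y' => ?_
      rcases hs.cases _ y'.1.2.1 y'.2 with e | e | e | e
      · exact absurd e y'.1.2.2.2.1
      · exact absurd e y'.1.2.2.2.2
      · exact Or.inl (Subtype.ext (Subtype.ext e))
      · exact Or.inr (Subtype.ext (Subtype.ext e))
  have e1 : Nat.card ((y' : {q // Sing z Q q}) × {x : {x // IsOut z Q x} // Commute (x : G) y'}) =
      Nat.card ((x : {x // IsOut z Q x}) × {y' : {q // Sing z Q q} // Commute (x : G) y'}) :=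
    Nat.card_congr ⟨fun p => ⟨p.2.1, p.1, p.2.2⟩, fun p => ⟨p.2.1, p.1, p.2.2⟩, fun _ => rfl, fun _ => rfl⟩
  rw [Nat.card_sigma, Nat.card_sigma] at e1
  have e2 : ∀ y' : {q // Sing z Q q}, Nat.card {x : {x // IsOut z Q x} // Commute (x : G) y'} =
      Nat.card {x // IsOut z Q x ∧ Commute x y} := fun y' => by
    rw [← hall y' y'.2]
    exact Nat.card_congr (Equiv.subtypeSubtypeEquivSubtypeInter _ (fun x : G => Commute x (y' : G)))
  simp only [e2, htwo, Finset.sum_const, Finset.card_univ, smul_eq_mul] at e1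
  rw [← Nat.card_eq_fintype_card, ← Nat.card_eq_fintype_card, d.card_sing.1, d.card_isOut] at e1
  omega

/-- A 3-element of `C(t)` moves `z` to another involution of `C_Q(t)`. -/
theorem exists_mover (d : Data z Q) {t s : G} (ha : Around z Q t s) (ht : IsOut z Q t) :
    ∃ e i, Commute e t ∧ e ^ 3 ^ i = 1 ∧ (e * z * e⁻¹ = s ∨ e * z * e⁻¹ = s * z) := by
  classical
  have : Fintype G := Fintype.ofFinite G
  have h := d.hub
  suffices hex : ∃ t0 e i, IsOut z Q t0 ∧ Commute e t0 ∧ e ^ 3 ^ i = 1 ∧ Sing z Q (e * z * e⁻¹) by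
    obtain ⟨t0, e, i, ht0, het, he3, heQ⟩ := hex
    obtain ⟨c, hc, hct⟩ := d.conj_outside ht.1 ht.2.1 ht.2.2 ht0.1 ht0.2.1 ht0.2.2
    have hcz : c * z * c⁻¹ = z := mul_inv_eq_iff_eq_mul.mpr hc.eq
    have hcomm : Commute (c * e * c⁻¹) t := hct ▸ Commute.conj' c het
    have hv : c * e * c⁻¹ * z * (c * e * c⁻¹)⁻¹ = c * (e * z * e⁻¹) * c⁻¹ := by
      have hcz' : c⁻¹ * z * c = z := by
        calc c⁻¹ * z * c = c⁻¹ * (c * z * c⁻¹) * c := by rw [hcz]
          _ = z := by group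
      calc c * e * c⁻¹ * z * (c * e * c⁻¹)⁻¹ = c * e * (c⁻¹ * z * c) * e⁻¹ * c⁻¹ := by group
        _ = _ := by rw [hcz']; group
    have hsing := heQ.conj h hc
    rw [← hv] at hsing
    have hcm : Commute t (c * e * c⁻¹ * z * (c * e * c⁻¹)⁻¹) :=
      (hcomm.symm.mul_right ht.1).mul_right hcomm.symm.inv_right
    refine ⟨c * e * c⁻¹, i, hcomm, by rw [conj_pow, he3]; group, ?_⟩
    rcases ha.cases _ hsing.1 hcm with e' | e' | e' | e'
    · exact absurd e' hsing.2.2.1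
    · exact absurd e' hsing.2.2.2
    · exact Or.inl e'
    · exact Or.inr e'
  -- a three-cycle on a four-subgroup of `Q`
  obtain ⟨y, hy⟩ := d.exists_sing
  obtain ⟨g, hg⟩ := isConj_iff.mp (d.isConj_sing hy)
  obtain ⟨c, hc, hcy⟩ := d.exists_conj_sing (d.back_mem (hg.symm ▸ hy)) hy
  obtain ⟨q, hq, hqy⟩ := h.exists_not_commute hy.2.2.1 hy.2.2.2
  set r := q * (c * g⁻¹)
  have hqz : q * z * q⁻¹ = z := mul_inv_eq_iff_eq_mul.mpr (h.central q hq).eq
  have hqy2 : q * y * q⁻¹ = y * z :=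
    (h.comm q hq y hy.1).resolve_left fun e => hqy (mul_inv_eq_iff_eq_mul.mp e).symm
  have hm1 : c * g⁻¹ * y * (c * g⁻¹)⁻¹ = z := by
    rw [← hg]
    calc c * g⁻¹ * (g * z * g⁻¹) * (c * g⁻¹)⁻¹ = c * z * c⁻¹ := by group
      _ = z := mul_inv_eq_iff_eq_mul.mpr hc.eq
  have hm2 : c * g⁻¹ * z * (c * g⁻¹)⁻¹ = y := by rw [← hcy]; group
  have r1 : r * z * r⁻¹ = y * z := by
    calc r * z * r⁻¹ = q * (c * g⁻¹ * z * (c * g⁻¹)⁻¹) * q⁻¹ := by simp only [r]; group
      _ = y * z := by rw [hm2, hqy2]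
  have r2 : r * (y * z) * r⁻¹ = y := by
    calc r * (y * z) * r⁻¹
        = q * ((c * g⁻¹ * y * (c * g⁻¹)⁻¹) * (c * g⁻¹ * z * (c * g⁻¹)⁻¹)) * q⁻¹ := by simp only [r]; group
      _ = (q * z * q⁻¹) * (q * y * q⁻¹) := by rw [hm1, hm2]; group
      _ = y := by rw [hqz, hqy2, (h.central y hy.1).eq, ← mul_assoc, h.sq, one_mul]
  have r3 : r * y * r⁻¹ = z := by
    calc r * y * r⁻¹ = q * (c * g⁻¹ * y * (c * g⁻¹)⁻¹) * q⁻¹ := by simp only [r]; group
      _ = z := by rw [hm1, hqz]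
  -- the involutions outside `Q` centralising it, and their two groups `C(z) ∩ C(x)`
  let T : Set G := {x | IsOut z Q x ∧ Commute x y}
  have hT24 : Nat.card T = 24 := d.card_isOut_commute hy
  have around : ∀ x ∈ T, ∃ s, Around z Q x s ∧ (y = s ∨ y = s * z) := by
    intro x hx
    obtain ⟨s, hs⟩ := d.exists_around hx.1.1 hx.1.2.1 hx.1.2.2
    refine ⟨s, hs, ?_⟩
    rcases hs.cases y hy.1 hx.2 with e | e | e | e
    exacts [absurd e hy.2.2.1, absurd e hy.2.2.2, Or.inl e, Or.inr e]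
  have hccy : ∀ x ∈ T, ∀ a ∈ cc z x, Commute a y := by
    intro x hx a haa
    obtain ⟨s, hs, rfl | rfl⟩ := around x hx
    · exact hs.comm_s a haa
    · exact (hs.comm_s a haa).mul_right (mem_cc.mp haa).1
  have hcase : ∀ x ∈ T, ∀ a ∈ cc z x, a ∉ Q → a ∈ T ∧ cc z a = cc z x := by
    intro x hx a haa haQ
    obtain ⟨s, hs, -⟩ := around x hx
    have hout : IsOut z Q a := ⟨(mem_cc.mp haa).1, hs.sq a haa, haQ⟩
    refine ⟨⟨hout, hccy x hx a haa⟩, ?_⟩
    obtain ⟨s', hs'⟩ := d.exists_around hout.1 hout.2.1 hout.2.2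
    exact (eq_of_le_of_card_ge
      (fun b hb => mem_cc.mpr ⟨(mem_cc.mp hb).1, hs.abelian b hb a haa⟩) (by rw [hs.card, hs'.card])).symm
  have hblock : ∀ x ∈ T, Nat.card {a : G | a ∈ T ∧ cc z a = cc z x} = 12 := by
    intro x hx
    obtain ⟨s, hs, -⟩ := around x hx
    have hset : {a : G | a ∈ T ∧ cc z a = cc z x} = (cc z x : Set G) \ (Q ⊓ cc z x : Subgroup G) := by
      ext a
      constructor
      · rintro ⟨haT, hax⟩
        have : a ∈ cc z x := hax ▸ mem_cc.mpr ⟨haT.1.1, Commute.refl a⟩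
        exact ⟨this, fun hh => haT.1.2.2 (Subgroup.mem_inf.mp hh).1⟩
      · rintro ⟨ha1, ha2⟩
        exact hcase x hx a ha1 fun hh => ha2 (Subgroup.mem_inf.mpr ⟨hh, ha1⟩)
    have hsub : ((Q ⊓ cc z x : Subgroup G) : Set G) ⊆ (cc z x : Set G) := fun a ha => (Subgroup.mem_inf.mp ha).2
    have h4 : Nat.card ↥(Q ⊓ cc z x) = 4 := by
      obtain ⟨F, o⟩ := d.exists_outer hx.1.1 hx.1.2.1 hx.1.2.2
      have : Q ⊓ cc z x = Q ⊓ centralizer ({x} : Set G) := by
        ext a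
        simp only [Subgroup.mem_inf]
        exact ⟨fun ⟨p, _, p2⟩ => ⟨p, p2⟩, fun ⟨p, p2⟩ => ⟨p, mem_cz.mpr (h.central a p), p2⟩⟩
      rw [this]; exact o.card_inter d
    rw [hset, Nat.card_coe_set_eq, Set.ncard_sdiff hsub (Set.toFinite _),
      ← Nat.card_coe_set_eq, ← Nat.card_coe_set_eq, SetLike.coe_sort_coe, SetLike.coe_sort_coe, hs.card, h4]
  -- a 3-element of `C(z) ∩ C(y)`, moving the cosets
  set D : Subgroup G := centralizer ({z} : Set G) ⊓ centralizer ({y} : Set G)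
  have hDcard : 3 ∣ Nat.card D := by
    let f : ↥(centralizer ({z} : Set G)) ⧸ D.subgroupOf (centralizer ({z} : Set G)) → {q // Sing z Q q} :=
      Quotient.lift (fun c => ⟨(c : G) * y * (c : G)⁻¹, hy.conj h (mem_cz.mp c.2)⟩)
        (fun a b hab => by
          have hm : (a : G)⁻¹ * (b : G) ∈ D := mem_subgroupOf.mp (QuotientGroup.leftRel_apply.mp hab)
          have hh : Commute ((a : G)⁻¹ * b) y := mem_centralizer_singleton_iff.mp hm.2
          refine Subtype.ext ?_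
          calc (a : G) * y * (a : G)⁻¹ = (a : G) * (y * ((a : G)⁻¹ * b)) * (b : G)⁻¹ := by group
            _ = _ := by rw [← hh.eq]; group)
    have hf : Function.Bijective f := by
      refine ⟨fun a b => ?_, fun y' => ?_⟩
      · induction a using QuotientGroup.induction_on with
        | _ a =>
        induction b using QuotientGroup.induction_on with
        | _ b =>
        intro e
        have e' : (a : G) * y * (a : G)⁻¹ = (b : G) * y * (b : G)⁻¹ := congrArg Subtype.val e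
        refine QuotientGroup.eq.mpr (mem_subgroupOf.mpr ⟨(a⁻¹ * b).2, mem_centralizer_singleton_iff.mpr ?_⟩)
        show (a : G)⁻¹ * b * y = y * ((a : G)⁻¹ * b)
        calc (a : G)⁻¹ * b * y = (a : G)⁻¹ * ((b : G) * y * (b : G)⁻¹) * b := by group
          _ = _ := by rw [← e']; group
      · obtain ⟨c, hc, hcy'⟩ := d.exists_conj_sing hy y'.2
        exact ⟨QuotientGroup.mk ⟨c, mem_cz.mpr hc⟩, Subtype.ext hcy'⟩
    have e := (D.subgroupOf (centralizer ({z} : Set G))).index_mul_card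
    rw [Nat.card_congr (subgroupOfEquivOfLe inf_le_left).toEquiv, d.cardC, Subgroup.index_eq_card,
      Nat.card_eq_of_bijective f hf, d.card_sing.1] at e
    show 3 ∣ Nat.card ↥(centralizer ({z} : Set G) ⊓ centralizer ({y} : Set G))
    omega
  have : Fact (Nat.Prime 3) := ⟨Nat.prime_three⟩
  obtain ⟨d3, hd3⟩ := exists_prime_orderOf_dvd_card' (G := ↥D) 3 hDcard
  have hdz : Commute (d3 : G) z := mem_cz.mp d3.2.1
  have hdy : Commute (d3 : G) y := mem_centralizer_singleton_iff.mp d3.2.2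
  have hd33 : (d3 : G) ^ 3 = 1 := by rw [← Subgroup.coe_pow, ← hd3, pow_orderOf_eq_one]; rfl
  -- conjugation preserves `T` and the blocks
  have hTpres : ∀ g : G, (∀ x : G, Commute x z → Commute x y →
      Commute (g * x * g⁻¹) z ∧ Commute (g * x * g⁻¹) y) → ∀ x ∈ T, g * x * g⁻¹ ∈ T := by
    intro g hg x hx
    obtain ⟨h1, h2⟩ := hg x hx.1.1 hx.2
    refine ⟨d.isOut_of_not_isConj h1 ?_ ?_ ?_, h2⟩
    · calc g * x * g⁻¹ * (g * x * g⁻¹) = g * (x * x) * g⁻¹ := by group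
        _ = 1 := by rw [hx.1.2.1]; group
    · exact fun e => d.ne_one_of_isOut hx.1 (by simpa using e)
    · exact fun e => d.not_isConj_of_isOut hx.1 (e.trans (isConj_iff.mpr ⟨g⁻¹, by group⟩))
  have hTne : Nonempty T := by
    by_contra hne
    rw [not_nonempty_iff] at hne
    rw [Nat.card_of_isEmpty] at hT24
    omega
  obtain ⟨⟨x0, hx0⟩⟩ := hTne
  -- the 3-part of `r`
  obtain ⟨m, i, hm, hri⟩ := exists_three_part r
  set e1 := r ^ m
  have hrCV : ∀ x : G, Commute x z → Commute x y →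
      Commute (r * x * r⁻¹) z ∧ Commute (r * x * r⁻¹) y := by
    intro x h1 h2
    have a := Commute.conj' r h2
    have b := Commute.conj' r h1
    rw [r3] at a
    rw [r1] at b
    refine ⟨a, ?_⟩
    have := b.mul_right a
    rwa [mul_assoc y z z, h.sq, mul_one] at this
  have heCV : ∀ (k : ℕ) (x : G), Commute x z → Commute x y →
      Commute (r ^ k * x * (r ^ k)⁻¹) z ∧ Commute (r ^ k * x * (r ^ k)⁻¹) y := by
    intro k
    induction k with
    | zero => intro x h1 h2; simpa using ⟨h1, h2⟩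
    | succ k ih =>
      intro x h1 h2
      obtain ⟨a, b⟩ := ih x h1 h2
      have := hrCV _ a b
      rwa [show r * (r ^ k * x * (r ^ k)⁻¹) * r⁻¹ = r ^ (k + 1) * x * (r ^ (k + 1))⁻¹ by
        rw [pow_succ']; group] at this
  have he1T := hTpres e1 (heCV m)
  have hez : e1 * z * e1⁻¹ = y * z ∨ e1 * z * e1⁻¹ = y := conj_cycle_pow r1 r2 r3 hm
  have hmapB : ∀ x ∈ T, cc z (e1 * x * e1⁻¹) = (cc z x).map (MulAut.conj e1).toMonoidHom := by
    intro x hx
    obtain ⟨s', hs', hy'⟩ := around _ (he1T x hx)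
    have e' : cc (e1 * z * e1⁻¹) (e1 * x * e1⁻¹) = cc z (e1 * x * e1⁻¹) := by
      have hszz : s' * z * z = s' := by rw [mul_assoc, h.sq, mul_one]
      rcases hy' with rfl | rfl <;> rcases hez with e | e <;> rw [e]
      · exact hs'.eq_sz
      · exact hs'.eq_s
      · rw [hszz]; exact hs'.eq_s
      · exact hs'.eq_sz
    rw [← e']
    ext a
    rw [LargeExtraspecial.mem_conj_iff, mem_cc, mem_cc]
    constructor
    · rintro ⟨p1, p2⟩
      have q1 := Commute.conj' e1⁻¹ p1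
      have q2 := Commute.conj' e1⁻¹ p2
      simp [mul_assoc] at q1 q2
      exact ⟨by simpa [mul_assoc] using q1, by simpa [mul_assoc] using q2⟩
    · rintro ⟨p1, p2⟩
      have q1 := Commute.conj' e1 p1
      have q2 := Commute.conj' e1 p2
      rw [show e1 * (e1⁻¹ * a * e1) * e1⁻¹ = a by group] at q1 q2
      exact ⟨q1, q2⟩
  have hinjmap : Function.Injective fun K : Subgroup G => K.map (MulAut.conj e1).toMonoidHom :=
    Subgroup.map_injective (MulAut.conj e1).injective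
  -- only two blocks
  have hblocks : ∀ a ∈ T, ∀ b ∈ T, cc z a ≠ cc z x0 → cc z b ≠ cc z x0 → cc z b = cc z a := by
    intro a ha b hb hna hnb
    by_contra hne
    have hd1 : Disjoint {x : G | x ∈ T ∧ cc z x = cc z x0} {x : G | x ∈ T ∧ cc z x = cc z a} :=
      Set.disjoint_left.mpr fun x p q => hna (q.2.symm.trans p.2)
    have hsub : ({x : G | x ∈ T ∧ cc z x = cc z x0} ∪ {x : G | x ∈ T ∧ cc z x = cc z a}) ⊆ T :=
      fun x p => p.elim And.left And.left
    have heq := Set.eq_of_subset_of_ncard_le hsub (by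
      rw [Set.ncard_union_eq hd1, ← Nat.card_coe_set_eq, ← Nat.card_coe_set_eq, ← Nat.card_coe_set_eq,
        hblock x0 hx0, hblock a ha, hT24]) (Set.toFinite _)
    rcases (heq.symm ▸ hb : b ∈ {x : G | x ∈ T ∧ cc z x = cc z x0} ∪ {x : G | x ∈ T ∧ cc z x = cc z a}) with p | p
    exacts [hnb p.2, hne p.2]
  have hiter : ∀ k : ℕ, e1 ^ k * x0 * (e1 ^ k)⁻¹ ∈ T := by
    intro k
    induction k with
    | zero => simpa using hx0
    | succ k ih =>
      have := he1T _ ih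
      rwa [show e1 * (e1 ^ k * x0 * (e1 ^ k)⁻¹) * e1⁻¹ = e1 ^ (k + 1) * x0 * (e1 ^ (k + 1))⁻¹ by
        rw [pow_succ']; group] at this
  have hy0 : cc z (e1 * x0 * e1⁻¹) = cc z x0 := by
    by_contra hne
    have halt : ∀ k : ℕ, cc z (e1 ^ (2 * k) * x0 * (e1 ^ (2 * k))⁻¹) = cc z x0 := by
      intro k
      induction k with
      | zero => simp
      | succ k ih =>
        set w := e1 ^ (2 * k) * x0 * (e1 ^ (2 * k))⁻¹
        have hw : w ∈ T := hiter _
        have h1 : cc z (e1 * w * e1⁻¹) = cc z (e1 * x0 * e1⁻¹) := by rw [hmapB w hw, ih, hmapB x0 hx0]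
        have hsucc : e1 ^ (2 * (k + 1)) * x0 * (e1 ^ (2 * (k + 1)))⁻¹ = e1 * (e1 * w * e1⁻¹) * e1⁻¹ := by
          rw [show 2 * (k + 1) = 1 + (1 + 2 * k) by ring, pow_add, pow_add, pow_one]; simp only [w]; group
        rw [hsucc]
        by_contra hn2
        have h2 := hblocks _ (he1T _ hw) _ (he1T _ (he1T _ hw)) (by rw [h1]; exact hne) hn2
        rw [hmapB _ (he1T _ hw), hmapB w hw] at h2
        have := hinjmap h2
        rw [← hmapB w hw, h1, ih] at this
        exact hne this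
    obtain ⟨l, hl⟩ : ∃ l, 3 ^ i = 2 * l + 1 := (Odd.pow (by decide) : Odd (3 ^ i))
    have h1 : cc z (e1 * (e1 ^ (2 * l) * x0 * (e1 ^ (2 * l))⁻¹) * e1⁻¹) = cc z (e1 * x0 * e1⁻¹) := by
      rw [hmapB _ (hiter _), halt l, hmapB x0 hx0]
    rw [show e1 * (e1 ^ (2 * l) * x0 * (e1 ^ (2 * l))⁻¹) * e1⁻¹ = x0 by
      calc e1 * (e1 ^ (2 * l) * x0 * (e1 ^ (2 * l))⁻¹) * e1⁻¹
          = e1 ^ (2 * l + 1) * x0 * (e1 ^ (2 * l + 1))⁻¹ := by rw [pow_succ']; group
        _ = x0 := by rw [← hl, hri]; group] at h1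
    exact hne h1.symm
  -- move the coset back with a power of `d3`
  obtain ⟨F, o⟩ := d.exists_outer hx0.1.1 hx0.1.2.1 hx0.1.2.2
  set C := centralizer ({z} : Set G)
  obtain ⟨s0, hs0, hy00⟩ := around x0 hx0
  have hdT : ∀ x ∈ T, (d3 : G) * x * (d3 : G)⁻¹ ∈ T := fun x hx =>
    ⟨d.isOut_conj hx.1 hdz, by
      have := Commute.conj' (d3 : G) hx.2
      rwa [mul_inv_eq_iff_eq_mul.mpr hdy.eq] at this⟩
  have hd1x : cc z ((d3 : G) * x0 * (d3 : G)⁻¹) = cc z x0 := by
    have hstep : ∀ x ∈ T, cc z ((d3 : G) * x * (d3 : G)⁻¹) = (cc z x).map (MulAut.conj (d3 : G)).toMonoidHom := by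
      intro x hx
      ext a
      rw [LargeExtraspecial.mem_conj_iff, mem_cc, mem_cc]
      constructor
      · rintro ⟨p1, p2⟩
        have q2 := Commute.conj' (d3 : G)⁻¹ p2
        exact ⟨(hdz.inv_left.mul_left p1).mul_left hdz, by simpa [mul_assoc] using q2⟩
      · rintro ⟨p1, p2⟩
        have q2 := Commute.conj' (d3 : G) p2
        rw [show (d3 : G) * ((d3 : G)⁻¹ * a * d3) * (d3 : G)⁻¹ = a by group] at q2
        refine ⟨?_, q2⟩
        have := (hdz.mul_left p1).mul_left hdz.inv_left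
        rwa [show (d3 : G) * ((d3 : G)⁻¹ * a * d3) * (d3 : G)⁻¹ = a by group] at this
    by_contra hne
    set x1 := (d3 : G) * x0 * (d3 : G)⁻¹
    have hx1 : x1 ∈ T := hdT x0 hx0
    have hinj : Function.Injective fun K : Subgroup G => K.map (MulAut.conj (d3 : G)).toMonoidHom :=
      Subgroup.map_injective (MulAut.conj (d3 : G)).injective
    by_cases h2 : cc z ((d3 : G) * x1 * (d3 : G)⁻¹) = cc z x0
    · refine hne ?_
      have e3 : (d3 : G) * ((d3 : G) * x1 * (d3 : G)⁻¹) * (d3 : G)⁻¹ = x0 := by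
        calc (d3 : G) * ((d3 : G) * x1 * (d3 : G)⁻¹) * (d3 : G)⁻¹
            = (d3 : G) ^ 3 * x0 * ((d3 : G) ^ 3)⁻¹ := by
              rw [pow_succ, pow_two]; simp only [x1]; group
          _ = x0 := by rw [hd33]; group
      have := hstep _ (hdT x1 hx1)
      rw [e3, h2, ← hstep x0 hx0] at this
      exact this.symm
    · have := hblocks _ hx1 _ (hdT x1 hx1) hne h2
      rw [hstep x1 hx1, hstep x0 hx0] at this
      refine hne ?_
      rw [hstep x0 hx0]
      exact hinj this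
  set σ := F.θ ⟨(d3 : G), mem_cz.mpr hdz⟩
  have hσ3 : σ * (σ * σ) = 1 := by
    rw [← map_mul, ← map_mul]
    refine (congrArg F.θ (Subtype.ext ?_ : _ = (1 : ↥C))).trans (map_one _)
    show (d3 : G) * (d3 * d3) = 1
    rw [← hd33, pow_succ, pow_two, mul_assoc]
  have hσ1 : σ ≠ 1 := by
    intro e
    have hQd : (d3 : G) ∈ Q := (F.ker _).mp e
    have h2 : (d3 : G) * d3 = 1 ∨ (d3 : G) * d3 = z := h.sq_cases _ hQd
    have h4 : (d3 : G) ^ 4 = 1 := by
      rw [show 4 = 2 * 2 by rfl, pow_mul, pow_two (d3 : G)]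
      rcases h2 with e' | e' <;> simp [e', pow_two, h.sq]
    rw [pow_succ, hd33, one_mul] at h4
    have hd1 : d3 = 1 := Subtype.ext h4
    rw [hd1, orderOf_one] at hd3
    omega
  obtain ⟨k, q, hq, hkq⟩ : ∃ (k : ℕ) (q : G), (q ∈ Q ∧ Commute q z ∧ Commute q y) ∧
      e1 * x0 * e1⁻¹ = (d3 : G) ^ k * x0 * ((d3 : G) ^ k)⁻¹ * q := by
    set a := e1 * x0 * e1⁻¹
    have haT : a ∈ T := he1T x0 hx0
    have hax : Commute a x0 := by
      have : a ∈ cc z x0 := hy0 ▸ mem_cc.mpr ⟨haT.1.1, Commute.refl a⟩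
      exact (mem_cc.mp this).2
    have hdx : Commute ((d3 : G) * x0 * (d3 : G)⁻¹) x0 := by
      have : (d3 : G) * x0 * (d3 : G)⁻¹ ∈ cc z x0 :=
        hd1x ▸ mem_cc.mpr ⟨(hdT x0 hx0).1.1, Commute.refl _⟩
      exact (mem_cc.mp this).2
    set a' : ↥C := ⟨a, mem_cz.mpr haT.1.1⟩
    set x' : ↥C := ⟨x0, mem_cz.mpr hx0.1.1⟩
    set d' : ↥C := ⟨(d3 : G), mem_cz.mpr hdz⟩
    have key : ∀ σ τ : Equiv.Perm (Fin 5), Equiv.Perm.sign σ = 1 → σ * (σ * σ) = 1 → σ ≠ 1 →
        σ * p01 * σ⁻¹ * p01 = p01 * (σ * p01 * σ⁻¹) → Equiv.Perm.sign τ = 1 →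
        τ * p01 = p01 * τ → τ ≠ 1 →
        τ = p01 ∨ τ = σ * p01 * σ⁻¹ ∨ τ = σ * σ * p01 * (σ * σ)⁻¹ := by
      decide +kernel
    have hk : ∃ k : ℕ, F.θ a' = σ ^ k * p01 * (σ ^ k)⁻¹ := by
      have h1 : σ * p01 * σ⁻¹ * p01 = p01 * (σ * p01 * σ⁻¹) := by
        rw [← o.perm, ← map_inv, ← map_mul, ← map_mul, ← map_mul, ← map_mul]
        exact congrArg F.θ (Subtype.ext hdx.eq)
      have h2 : F.θ a' * p01 = p01 * F.θ a' := by
        rw [← o.perm, ← map_mul, ← map_mul]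
        exact congrArg F.θ (Subtype.ext hax.eq)
      rcases key σ (F.θ a') (F.even _) hσ3 hσ1 h1 (F.even _) h2
        (fun e => haT.1.2.2 ((F.ker a').mp e)) with e | e | e
      · exact ⟨0, by simpa using e⟩
      · exact ⟨1, by simpa using e⟩
      · exact ⟨2, by rw [pow_two]; exact e⟩
    obtain ⟨k, hk⟩ := hk
    refine ⟨k, ((d3 : G) ^ k * x0 * ((d3 : G) ^ k)⁻¹)⁻¹ * a, ?_, by rw [mul_inv_cancel_left]⟩
    have hdk : Commute ((d3 : G) ^ k) z ∧ Commute ((d3 : G) ^ k) y := ⟨hdz.pow_left k, hdy.pow_left k⟩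
    refine ⟨?_, (((hdk.1.mul_left hx0.1.1).mul_left hdk.1.inv_left).inv_left).mul_left haT.1.1,
      (((hdk.2.mul_left hx0.2).mul_left hdk.2.inv_left).inv_left).mul_left haT.2⟩
    show (((d' ^ k * x' * (d' ^ k)⁻¹)⁻¹ * a' : ↥C) : G) ∈ Q
    rw [← F.ker, map_mul, map_inv, map_mul, map_mul, map_inv, map_pow, o.perm, hk, inv_mul_cancel]
  set p := (d3 : G) ^ k
  set e2 := p⁻¹ * e1
  have hpy : Commute p y := hdy.pow_left k
  have hpz : Commute p z := hdz.pow_left k
  have hfix : ∀ w : G, Commute p w → p⁻¹ * w * p = w := fun w hw => by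
    rw [mul_assoc, ← hw.eq, inv_mul_cancel_left]
  have he2 : ∀ w w' : G, e1 * w * e1⁻¹ = w' → Commute p w' → e2 * w * e2⁻¹ = w' := by
    intro w w' e hw
    calc e2 * w * e2⁻¹ = p⁻¹ * (e1 * w * e1⁻¹) * p := by simp only [e2]; group
      _ = w' := by rw [e, hfix w' hw]
  obtain ⟨v1, v2, hv12, hsing1, hsing2, hz1, hz2, hz3⟩ : ∃ v1 v2, (v1 = y * z ∧ v2 = y ∨ v1 = y ∧ v2 = y * z) ∧
      Sing z Q v1 ∧ Sing z Q v2 ∧
      e2 * z * e2⁻¹ = v1 ∧ e2 * v1 * e2⁻¹ = v2 ∧ e2 * v2 * e2⁻¹ = z := by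
    have hyz : Commute p (y * z) := hpy.mul_right hpz
    have ey := conj_cycle_pow r3 r1 r2 hm
    have eyz := conj_cycle_pow r2 r3 r1 hm
    have inj : ∀ a b : G, e1 * a * e1⁻¹ = e1 * b * e1⁻¹ → a = b := fun a b e => by simpa using e
    have n1 : y * z ≠ y := fun e => h.ne_one (by simpa using e)
    have n2 : z ≠ y := hy.2.2.2.symm
    have n3 : y * z ≠ z := fun e => hy.2.2.1 (by simpa using e)
    rcases hez with e | e
    · have e' : e1 * (y * z) * e1⁻¹ = y := by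
        rcases eyz with e' | e'
        · exact e'
        · exfalso; rcases ey with e'' | e''
          · exact n1 (inj _ _ (e'.trans e''.symm))
          · exact n2 (inj _ _ (e.trans e''.symm))
      have e'' : e1 * y * e1⁻¹ = z := by
        rcases ey with e'' | e''
        · exact e''
        · exact absurd (inj _ _ (e.trans e''.symm)) n2
      exact ⟨y * z, y, Or.inl ⟨rfl, rfl⟩, hy.mul_z h, hy, he2 _ _ e hyz, he2 _ _ e' hpy, he2 _ _ e'' hpz⟩
    · have e'' : e1 * (y * z) * e1⁻¹ = z := by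
        rcases eyz with e'' | e''
        · exact absurd (inj _ _ (e''.trans e.symm)) n3
        · exact e''
      have e' : e1 * y * e1⁻¹ = y * z := by
        rcases ey with e' | e'
        · exact absurd (inj _ _ (e'.trans e''.symm)) n1.symm
        · exact e'
      exact ⟨y, y * z, Or.inr ⟨rfl, rfl⟩, hy, hy.mul_z h, he2 _ _ e hpy, he2 _ _ e' hyz, he2 _ _ e'' hpz⟩
  -- the coset of `x0`
  let W : Set G := {x | ∃ w ∈ closure ({z, y} : Set G), x = x0 * w}
  have hWcard : Nat.card W = 4 := by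
    rw [← d.four_subgroup_card hy]
    refine Nat.card_congr ⟨fun x => ⟨x0⁻¹ * x, ?_⟩, fun w => ⟨x0 * w, w, w.2, rfl⟩,
      fun x => Subtype.ext (mul_inv_cancel_left x0 x), fun w => Subtype.ext (inv_mul_cancel_left x0 w)⟩
    obtain ⟨w, hw, hxw⟩ := x.2
    rw [hxw, inv_mul_cancel_left]; exact hw
  have hV : ∀ w ∈ closure ({z, y} : Set G), e2 * w * e2⁻¹ ∈ closure ({z, y} : Set G) := by
    have mz : z ∈ closure ({z, y} : Set G) := subset_closure (Set.mem_insert _ _)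
    have my : y ∈ closure ({z, y} : Set G) := subset_closure (Set.mem_insert_of_mem _ rfl)
    intro w hw
    induction hw using Subgroup.closure_induction with
    | mem w hw =>
      rcases hw with ew | ew <;> rw [ew]
      · rw [hz1]
        rcases hv12 with ⟨e, -⟩ | ⟨e, -⟩ <;> rw [e]
        exacts [mul_mem my mz, my]
      · rcases hv12 with ⟨e, e'⟩ | ⟨e, e'⟩
        · have q3 := hz3; rw [e'] at q3
          rw [q3]; exact mz
        · have q2 := hz2; rw [e, e'] at q2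
          rw [q2]; exact mul_mem my mz
    | one => simp
    | mul a b _ _ pa pb => rw [← conj_mul]; exact mul_mem pa pb
    | inv a _ pa => rw [← conj_inv]; exact inv_mem pa
  have hqV : p⁻¹ * q * p ∈ closure ({z, y} : Set G) := by
    have mz : z ∈ closure ({z, y} : Set G) := subset_closure (Set.mem_insert _ _)
    have my : y ∈ closure ({z, y} : Set G) := subset_closure (Set.mem_insert_of_mem _ rfl)
    have hqx : Commute x0 q := by
      have h1 : e1 * x0 * e1⁻¹ ∈ cc z x0 := hy0 ▸ mem_cc.mpr ⟨(he1T x0 hx0).1.1, Commute.refl _⟩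
      have hdA : ∀ a ∈ cc z x0, (d3 : G) * a * (d3 : G)⁻¹ ∈ cc z x0 := by
        intro a ha'
        have hh : (d3 : G) * a * (d3 : G)⁻¹ ∈ cc z ((d3 : G) * x0 * (d3 : G)⁻¹) :=
          mem_cc.mpr ⟨(hdz.mul_left (mem_cc.mp ha').1).mul_left hdz.inv_left,
            Commute.conj' (d3 : G) (mem_cc.mp ha').2⟩
        rwa [hd1x] at hh
      have hall : ∀ j : ℕ, (d3 : G) ^ j * x0 * ((d3 : G) ^ j)⁻¹ ∈ cc z x0 := by
        intro j
        induction j with
        | zero => simpa using mem_cc.mpr ⟨hx0.1.1, Commute.refl x0⟩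
        | succ j ih =>
          have := hdA _ ih
          rwa [show (d3 : G) * ((d3 : G) ^ j * x0 * ((d3 : G) ^ j)⁻¹) * (d3 : G)⁻¹
            = (d3 : G) ^ (j + 1) * x0 * ((d3 : G) ^ (j + 1))⁻¹ by rw [pow_succ']; group] at this
      have hq' : q = (p * x0 * p⁻¹)⁻¹ * (e1 * x0 * e1⁻¹) := by rw [hkq]; group
      rw [hq']
      exact ((mem_cc.mp (mul_mem (inv_mem (hall k)) h1)).2).symm
    have hqmem : q ∈ closure ({z, y} : Set G) := by
      rcases hy00 with rfl | rfl <;> rcases hs0.cases q hq.1 hqx with e | e | e | e <;> rw [e]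
      all_goals first
        | exact one_mem _
        | exact mz
        | exact my
        | exact mul_mem my mz
        | (simpa [mul_assoc, h.sq] using mul_mem my mz)
    rw [hfix q]
    · exact hqmem
    · rcases LargeExtraspecial.mem_four h.sq hy.2.1 (h.central y hy.1).symm hqmem with e | e | e | e <;> rw [e]
      exacts [Commute.one_right p, hpz, hpy, hpz.mul_right hpy]
  have hW : ∀ x ∈ W, e2 * x * e2⁻¹ ∈ W := by
    rintro _ ⟨w, hw, rfl⟩
    refine ⟨p⁻¹ * q * p * (e2 * w * e2⁻¹), mul_mem hqV (hV w hw), ?_⟩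
    calc e2 * (x0 * w) * e2⁻¹ = p⁻¹ * (e1 * x0 * e1⁻¹) * p * (e2 * w * e2⁻¹) := by simp only [e2]; group
      _ = _ := by rw [hkq]; group
  obtain ⟨m', i', hm', hi'⟩ := exists_three_part e2
  have hWm : ∀ (j : ℕ), ∀ x ∈ W, e2 ^ j * x * (e2 ^ j)⁻¹ ∈ W := by
    intro j
    induction j with
    | zero => intro x hx; simpa using hx
    | succ j ih =>
      intro x hx
      have := hW _ (ih x hx)
      rwa [show e2 * (e2 ^ j * x * (e2 ^ j)⁻¹) * e2⁻¹ = e2 ^ (j + 1) * x * (e2 ^ (j + 1))⁻¹ by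
        rw [pow_succ']; group] at this
  have hfx := conj_fixed_modEq (p := 3) i' W (hWm m') hi'
  rw [hWcard] at hfx
  have hne : Nat.card {x : G | x ∈ W ∧ Commute (e2 ^ m') x} ≠ 0 := fun e => by
    rw [e] at hfx; exact absurd hfx (by decide)
  obtain ⟨⟨t0, ht0W, het⟩⟩ := (Nat.card_ne_zero.mp hne).1
  obtain ⟨w, hw, rfl⟩ := ht0W
  have hwQ : w ∈ Q ∧ Commute w y := by
    rcases LargeExtraspecial.mem_four h.sq hy.2.1 (h.central y hy.1).symm hw with e | e | e | e <;> rw [e]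
    · exact ⟨one_mem _, Commute.one_left y⟩
    · exact ⟨h.mem, (h.central y hy.1).symm⟩
    · exact ⟨hy.1, Commute.refl y⟩
    · exact ⟨mul_mem h.mem hy.1, (h.central y hy.1).symm.mul_left (Commute.refl y)⟩
  have hwA : w ∈ cc z x0 := by
    refine mem_cc.mpr ⟨h.central w hwQ.1, ?_⟩
    rcases LargeExtraspecial.mem_four h.sq hy.2.1 (h.central y hy.1).symm hw with e | e | e | e <;> rw [e]
    · exact Commute.one_left x0
    · exact hx0.1.1.symm
    · exact hx0.2.symm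
    · exact hx0.1.1.symm.mul_left hx0.2.symm
  have hout : IsOut z Q (x0 * w) :=
    ⟨hx0.1.1.mul_left (h.central w hwQ.1),
      hs0.sq _ (mul_mem (mem_cc.mpr ⟨hx0.1.1, Commute.refl x0⟩) hwA),
      fun hh => hx0.1.2.2 ((Q.mul_mem_cancel_right hwQ.1).mp hh)⟩
  refine ⟨x0 * w, e2 ^ m', i', hout, het, hi', ?_⟩
  rcases conj_cycle_pow hz1 hz2 hz3 hm' with e | e <;> rw [e]
  exacts [hsing1, hsing2]

end Data

end Cfsg.Agent.HJType
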