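import Cfsg.Agent.Lib.HJType.Split
import Cfsg.Agent.S0213

/-!
# Hall–Janko type: the group order 604800

Thompson's order formula gives `|G| = 604800` when `C(t) ≅ 2² × A₅` and `51840` when `C(t)` is of
order 48; the second is impossible by Sylow's theorem for the prime 5.
-/

set_option autoImplicit false
set_option maxHeartbeats 400000
set_option synthInstance.maxSize 2048

namespace Cfsg.Agent.HJType

open Subgroup

variable {G : Type*} [Group G] {z : G} {Q : Subgroup G}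

theorem five_normalizer : ∀ σ τ : Equiv.Perm (Fin 5), Equiv.Perm.sign σ = 1 → σ * (σ * (σ * (σ * σ))) = 1 →
    σ ≠ 1 → Equiv.Perm.sign τ = 1 →
    τ * σ * τ⁻¹ ≠ σ * σ ∧ τ * σ * τ⁻¹ ≠ σ * (σ * σ) ∧
      (τ * σ = σ * τ → τ = 1 ∨ τ = σ ∨ τ = σ * σ ∨ τ = σ * (σ * σ) ∨ τ = σ * (σ * (σ * σ))) := by
  decide +kernel

theorem five_invert : ∃ π : Equiv.Perm (Fin 5), Equiv.Perm.sign π = 1 ∧ π * π = 1 ∧ π ≠ 1 ∧
    p01 * π * (p01 * π * (p01 * π * (p01 * π * (p01 * π)))) = 1 ∧ p01 * π ≠ 1 := by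
  decide +kernel

theorem card_A5 : Nat.card AltFive.A5 = 60 := by
  rw [nat_card_alternatingGroup, Nat.card_fin]
  rfl

theorem commute_of_mem_zpowers_mul {u v w : G} (hu : u * u = 1) (hv : v * v = 1) (hw : w * w = 1)
    (h : w ∈ zpowers (u * v)) : Commute u w ∧ Commute v w := by
  obtain ⟨k, hk⟩ := mem_zpowers_iff.mp h
  have hui : u⁻¹ = u := inv_eq_of_mul_eq_one_right hu
  have hvi : v⁻¹ = v := inv_eq_of_mul_eq_one_right hv
  have hwi : w⁻¹ = w := inv_eq_of_mul_eq_one_right hw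
  have h1 : u * (u * v) * u⁻¹ = (u * v)⁻¹ := by
    rw [mul_inv_rev, hui, hvi, ← mul_assoc u u, hu, one_mul]
  have h2 : u * w * u⁻¹ = w := by
    rw [← hk, ← conj_zpow, h1, inv_zpow, hk, hwi]
  have hc : Commute u w := mul_inv_eq_iff_eq_mul.mp h2
  refine ⟨hc, ?_⟩
  have hcw : Commute (u * v) w := by rw [← hk]; exact (Commute.refl (u * v)).zpow_right k
  have := hc.inv_left.mul_left hcw
  rwa [inv_mul_cancel_left] at this

variable [Finite G]

namespace Data

theorem two_classes (d : Data z Q) {t : G} (ht : IsOut z Q t) {x : G} (hx : x * x = 1) (hx1 : x ≠ 1) :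
    IsConj z x ∨ IsConj t x := by
  obtain ⟨g, hg⟩ := d.exists_conj_mem hx
  have hg2 : g * x * g⁻¹ * (g * x * g⁻¹) = 1 := by
    calc g * x * g⁻¹ * (g * x * g⁻¹) = g * (x * x) * g⁻¹ := by group
      _ = 1 := by rw [hx]; group
  have hg1 : g * x * g⁻¹ ≠ 1 := fun e => hx1 (by simpa using e)
  have hgx : IsConj x (g * x * g⁻¹) := isConj_iff.mpr ⟨g, rfl⟩
  by_cases hQ : g * x * g⁻¹ ∈ Q
  · exact Or.inl (((d.mem_iff_isConj hg hg2 hg1).mp hQ).trans hgx.symm)
  · obtain ⟨c, -, hc⟩ := d.conj_outside hg hg2 hQ ht.1 ht.2.1 ht.2.2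
    exact Or.inr ((isConj_iff.mpr ⟨c, hc⟩ : IsConj t (g * x * g⁻¹)).trans hgx.symm)

theorem orderOf_z (d : Data z Q) : orderOf z = 2 :=
  orderOf_eq_prime (by rw [pow_two]; exact d.hub.sq) d.hub.ne_one

/-- An involution of `C(z) - Q` that moves `u` up to the centre commutes with it. -/
theorem commute_of_shift (d : Data z Q) {u v : G} (hu : Sing z Q u) (hv : IsOut z Q v)
    (hc : Commute u (v * u * v⁻¹)) : Commute u v := by
  have h := d.hub
  obtain ⟨F, o⟩ := d.exists_outer hv.1 hv.2.1 hv.2.2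
  obtain ⟨i, e, rfl⟩ := F.sing u hu
  set j := F.θ ⟨v, mem_cz.mpr hv.1⟩ i
  obtain ⟨f, hf⟩ : ∃ f, v * F.s i * v⁻¹ = F.s j * zp z f := F.act ⟨v, mem_cz.mpr hv.1⟩ i
  have hij : i = j := by
    by_contra hne
    have hanti := F.anti i j hne
    have hv' : v * (F.s i * zp z e) * v⁻¹ = F.s j * zp z (xor f e) := by
      rw [← conj_mul, hf, zp_conj hv.1, mul_assoc, zp_mul h]
    rw [hv'] at hc
    have hij' : Commute (F.s i) (F.s j) := by
      have h1 : Commute (F.s i * zp z e * (zp z e)⁻¹) (F.s j * zp z (xor f e) * (zp z (xor f e))⁻¹) := by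
        have ze : Commute (zp z e) (F.s j * zp z (xor f e)) :=
          ((zp_commute (F.commute_z h j) e).symm.mul_right (zp_commute (zp_commute (Commute.refl z) e).symm _))
        have zf : Commute (F.s i * zp z e * (zp z e)⁻¹) (zp z (xor f e)) := by
          rw [mul_inv_cancel_right]; exact zp_commute (F.commute_z h i) _
        exact ((hc.mul_left ze.inv_left)).mul_right zf.inv_right
      rwa [mul_inv_cancel_right, mul_inv_cancel_right] at h1
    rw [hij'.eq.symm] at hanti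
    exact h.ne_one (by simpa using hanti.symm)
  have hi4 : i = 4 := by
    have : F.θ ⟨v, mem_cz.mpr hv.1⟩ i = i := hij.symm
    rw [show (⟨v, mem_cz.mpr hv.1⟩ : ↥(centralizer ({z} : Set G))) = ⟨v, mem_cz.mpr o.comm⟩ from rfl,
      o.perm] at this
    revert this; clear * - i; revert i; decide
  subst hi4
  exact ((o.commute_four d).mul_right (zp_commute hv.1 e)).symm

/-- The pairs whose product has a power equal to `z`. -/
theorem card_pairs_z (d : Data z Q) {t : G} (ht : IsOut z Q t) :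
    Nat.card {p : G × G // IsConj z p.1 ∧ IsConj t p.2 ∧ z ∈ zpowers (p.1 * p.2)} = 960 := by
  classical
  have : Fintype G := Fintype.ofFinite G
  have h := d.hub
  have iff : ∀ u v : G, (IsConj z u ∧ IsConj t v ∧ z ∈ zpowers (u * v)) ↔
      (Sing z Q u ∧ IsOut z Q v ∧ ¬ Commute v u) := by
    intro u v
    constructor
    · rintro ⟨hu, hv, hzm⟩
      obtain ⟨g, rfl⟩ := isConj_iff.mp hu
      obtain ⟨k, rfl⟩ := isConj_iff.mp hv
      have hu2 : g * z * g⁻¹ * (g * z * g⁻¹) = 1 := by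
        calc g * z * g⁻¹ * (g * z * g⁻¹) = g * (z * z) * g⁻¹ := by group
          _ = 1 := by rw [h.sq]; group
      have hv2 : k * t * k⁻¹ * (k * t * k⁻¹) = 1 := by
        calc k * t * k⁻¹ * (k * t * k⁻¹) = k * (t * t) * k⁻¹ := by group
          _ = 1 := by rw [ht.2.1]; group
      obtain ⟨cu, cv⟩ := commute_of_mem_zpowers_mul hu2 hv2 h.sq hzm
      have hu1 : g * z * g⁻¹ ≠ 1 := fun e => h.ne_one (by simpa using e)
      have hv1 : k * t * k⁻¹ ≠ 1 := fun e => d.ne_one_of_isOut ht (by simpa using e)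
      have huQ := (d.mem_iff_isConj cu hu2 hu1).mpr hu
      have hvO := d.isOut_of_not_isConj cv hv2 hv1
        (fun e => d.not_isConj_of_isOut ht (e.trans hv.symm))
      have hinv : Commute (g * z * g⁻¹) (k * t * k⁻¹) → z = 1 ∨ z = g * z * g⁻¹ * (k * t * k⁻¹) := by
        intro hc
        obtain ⟨m, hm⟩ := mem_zpowers_iff.mp hzm
        have hsq : (g * z * g⁻¹ * (k * t * k⁻¹)) * (g * z * g⁻¹ * (k * t * k⁻¹)) = 1 := by
          rw [hc.symm.mul_mul_mul_comm, hu2, hv2, one_mul]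
        rcases Int.even_or_odd m with ⟨l, rfl⟩ | ⟨l, rfl⟩
        · left; rw [← hm, ← two_mul, zpow_mul, zpow_two, hsq, one_zpow]
        · right; conv_lhs => rw [← hm, zpow_add, zpow_one, zpow_mul, zpow_two, hsq, one_zpow, one_mul]
      have hnc : ¬ Commute (k * t * k⁻¹) (g * z * g⁻¹) := fun hc => by
        rcases hinv hc.symm with e | e
        · exact h.ne_one e
        · refine hvO.2.2 ?_
          have : k * t * k⁻¹ = (g * z * g⁻¹)⁻¹ * z := by rw [eq_inv_mul_iff_mul_eq]; exact e.symm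
          rw [this]; exact mul_mem (inv_mem huQ) h.mem
      exact ⟨⟨huQ, hu2, hu1, fun e => hnc (by rw [e]; exact cv)⟩, hvO, hnc⟩
    · rintro ⟨hu, hv, hnc⟩
      refine ⟨d.isConj_sing hu, ?_, ?_⟩
      · exact (d.two_classes ht hv.2.1 (d.ne_one_of_isOut hv)).resolve_left (d.not_isConj_of_isOut hv)
      · have hvi : v⁻¹ = v := inv_eq_of_mul_eq_one_right hv.2.1
        have hw := hu.conj h hv.1
        have hnc' : ¬ Commute u (v * u * v⁻¹) := fun e => hnc (d.commute_of_shift hu hv e).symm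
        have hanti := (h.comm _ hw.1 u hu.1).resolve_left fun e =>
          hnc' (mul_inv_eq_iff_eq_mul.mp e).symm
        set w := v * u * v⁻¹ with hwdef
        have hwi : w⁻¹ = w := inv_eq_of_mul_eq_one_right hw.2.1
        rw [hwi] at hanti
        have hsq : (u * v) ^ 4 = z := by
          calc (u * v) ^ 4 = (u * (v * u * v)) * (u * (v * u * v)) := by
                rw [show 4 = 2 * 2 by rfl, pow_mul, pow_two, pow_two]; group
            _ = u * (w * u * w) := by
                rw [hwdef, hvi]; group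
            _ = z := by rw [hanti, ← mul_assoc, hu.2.1, one_mul]
        exact hsq ▸ pow_mem (mem_zpowers _) 4
  have e1 : Nat.card {p : G × G // IsConj z p.1 ∧ IsConj t p.2 ∧ z ∈ zpowers (p.1 * p.2)} =
      Nat.card ((u : {q // Sing z Q q}) × {v : {x // IsOut z Q x} // ¬ Commute (v : G) u}) :=
    Nat.card_congr
      ⟨fun p => ⟨⟨p.1.1, ((iff _ _).mp p.2).1⟩, ⟨⟨p.1.2, ((iff _ _).mp p.2).2.1⟩, ((iff _ _).mp p.2).2.2⟩⟩,
        fun q => ⟨(q.1.1, q.2.1.1), (iff _ _).mpr ⟨q.1.2, q.2.1.2, q.2.2⟩⟩,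
        fun _ => rfl, fun _ => rfl⟩
  rw [e1, Nat.card_sigma]
  have e2 : ∀ u : {q // Sing z Q q}, Nat.card {v : {x // IsOut z Q x} // ¬ Commute (v : G) u} = 96 := by
    intro u
    have h24 : Nat.card {v : {x // IsOut z Q x} // Commute (v : G) u} = 24 := by
      rw [← d.card_isOut_commute u.2]
      exact Nat.card_congr (Equiv.subtypeSubtypeEquivSubtypeInter _ (fun x : G => Commute x (u : G)))
    rw [Nat.card_eq_fintype_card, Fintype.card_subtype_compl, ← Nat.card_eq_fintype_card,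
      ← Nat.card_eq_fintype_card, h24, d.card_isOut]
  simp only [e2, Finset.sum_const, Finset.card_univ, smul_eq_mul]
  rw [← Nat.card_eq_fintype_card, d.card_sing.1]

/-- The pairs whose product has a power equal to `t`. -/
theorem card_pairs_t (d : Data z Q) {t v e : G} {U K : Subgroup G} (ht : IsOut z Q t)
    (S : Split z t v e U K) :
    Nat.card {p : G × G // IsConj z p.1 ∧ IsConj t p.2 ∧ t ∈ zpowers (p.1 * p.2)} =
      Nat.card {q : ↥K × ↥K // (q.1 * q.1 = 1 ∧ q.1 ≠ 1) ∧ q.2 * q.2 = 1 ∧ Odd (orderOf (q.1 * q.2))} := by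
  have htU : t ∈ U := S.t_mem
  have hkey : ∀ a y : G, a ∈ K → y ∈ K → a * a = 1 → a ≠ 1 → y * y = 1 →
      Odd (orderOf (a * y)) → IsConj z a ∧ IsConj t (t * y) ∧ t ∈ zpowers (a * (t * y)) := by
    intro a y ha hy ha2 ha1 hy2 hodd
    have cty := S.commute t htU y hy
    have hv2 : t * y * (t * y) = 1 := by rw [cty.symm.mul_mul_mul_comm, ht.2.1, hy2, one_mul]
    have hv1 : t * y ≠ 1 := fun e' => d.ne_one_of_isOut ht (S.inter t htU (by
      rw [eq_inv_of_mul_eq_one_left e']; exact inv_mem hy))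
    refine ⟨S.invK a ha ha2 ha1, (d.two_classes ht hv2 hv1).resolve_left fun e' => ?_, ?_⟩
    · have hK := S.classX (t * y) ((Commute.refl t).mul_left (S.mem_of_K y hy)) hv2 hv1 e'
      exact d.ne_one_of_isOut ht (S.inter t htU ((K.mul_mem_cancel_right hy).mp hK))
    · obtain ⟨l, hl⟩ := hodd
      have e' : a * (t * y) = t * (a * y) := by
        rw [← mul_assoc, (S.commute t htU a ha).symm.eq, mul_assoc]
      have : (a * (t * y)) ^ (2 * l + 1) = t := by
        rw [e', (S.commute t htU _ (mul_mem ha hy)).mul_pow, ← hl, pow_orderOf_eq_one, mul_one, hl,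
          pow_succ, pow_mul, pow_two, ht.2.1, one_pow, one_mul]
      have hm : (a * (t * y)) ^ (2 * l + 1) ∈ zpowers (a * (t * y)) := pow_mem (mem_zpowers _) _
      rwa [this] at hm
  have hrev : ∀ p : G × G, IsConj z p.1 ∧ IsConj t p.2 ∧ t ∈ zpowers (p.1 * p.2) →
      ∃ a y, a ∈ K ∧ y ∈ K ∧ a * a = 1 ∧ a ≠ 1 ∧ y * y = 1 ∧ Odd (orderOf (a * y)) ∧ p = (a, t * y) := by
    rintro ⟨a, b⟩ ⟨hza, htb, hmem⟩
    obtain ⟨g, hg⟩ := isConj_iff.mp hza
    obtain ⟨k, hk⟩ := isConj_iff.mp htb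
    dsimp only at hg hk hmem
    have ha2 : a * a = 1 := by
      rw [← hg]
      calc g * z * g⁻¹ * (g * z * g⁻¹) = g * (z * z) * g⁻¹ := by group
        _ = 1 := by rw [d.hub.sq]; group
    have hb2 : b * b = 1 := by
      rw [← hk]
      calc k * t * k⁻¹ * (k * t * k⁻¹) = k * (t * t) * k⁻¹ := by group
        _ = 1 := by rw [ht.2.1]; group
    have ha1 : a ≠ 1 := by rw [← hg]; exact fun e' => d.hub.ne_one (by simpa using e')
    obtain ⟨cat, cbt⟩ := commute_of_mem_zpowers_mul ha2 hb2 ht.2.1 hmem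
    have haK := S.classX a cat ha2 ha1 hza
    obtain ⟨w, hw, y, hy, rfl⟩ := S.prod b cbt
    have cwy := S.commute w hw y hy
    have hwy : w * w * (y * y) = 1 := by rw [← cwy.symm.mul_mul_mul_comm]; exact hb2
    rw [S.sqU w hw, one_mul] at hwy
    obtain ⟨n, hn⟩ := (isOfFinOrder_of_finite (a * (w * y))).mem_powers_iff_mem_zpowers.mpr hmem
    dsimp only at hn
    rw [show a * (w * y) = w * (a * y) by rw [← mul_assoc, (S.commute w hw a haK).symm.eq, mul_assoc],
      (S.commute w hw _ (mul_mem haK hy)).mul_pow] at hn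
    obtain ⟨hwt, hay⟩ := S.decomp_unique (pow_mem hw n) htU (pow_mem (mul_mem haK hy) n) (one_mem K)
      (hn.trans (mul_one t).symm)
    have hodd : Odd n := by
      by_contra hev
      obtain ⟨l, rfl⟩ := Nat.not_odd_iff_even.mp hev
      rw [← two_mul, pow_mul, pow_two, S.sqU w hw, one_pow] at hwt
      exact d.ne_one_of_isOut ht hwt.symm
    obtain ⟨l, hl⟩ := hodd
    have hw' : w = t := by
      rw [hl, pow_succ, pow_mul, pow_two, S.sqU w hw, one_pow, one_mul] at hwt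
      exact hwt
    exact ⟨a, y, haK, hy, ha2, ha1, hwy,
      Odd.of_dvd_nat ⟨l, hl⟩ (orderOf_dvd_of_pow_eq_one hay), by rw [hw']⟩
  choose fa fy hfa hfy ha2 ha1 hy2 hodd heq using hrev
  have hcast : ∀ (x y : ↥K), orderOf (x * y) = orderOf ((x : G) * (y : G)) := fun x y => by
    rw [← Subgroup.orderOf_coe (x * y)]; rfl
  refine Nat.card_congr ⟨fun p => ⟨(⟨fa p p.2, hfa p p.2⟩, ⟨fy p p.2, hfy p p.2⟩),
      ⟨Subtype.ext (ha2 p p.2), fun e' => ha1 p p.2 (congrArg Subtype.val e')⟩, Subtype.ext (hy2 p p.2),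
      by rw [hcast]; exact hodd p p.2⟩,
    fun q => ⟨((q.1.1 : G), t * (q.1.2 : G)), hkey _ _ q.1.1.2 q.1.2.2 (congrArg Subtype.val q.2.1.1)
      (fun e' => q.2.1.2 (Subtype.ext e')) (congrArg Subtype.val q.2.2.1) (hcast _ _ ▸ q.2.2.2)⟩,
    fun p => Subtype.ext (heq p p.2).symm, fun q => ?_⟩
  set p : G × G := ((q.1.1 : G), t * (q.1.2 : G))
  have hp := hkey _ _ q.1.1.2 q.1.2.2 (congrArg Subtype.val q.2.1.1)
    (fun e' => q.2.1.2 (Subtype.ext e')) (congrArg Subtype.val q.2.2.1) (hcast _ _ ▸ q.2.2.2)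
  have he := heq p hp
  exact Subtype.ext (Prod.ext (Subtype.ext (congrArg Prod.fst he).symm)
    (Subtype.ext (mul_left_cancel (congrArg Prod.snd he).symm)))

theorem card_pairs_t_five (d : Data z Q) {t v e : G} {U K : Subgroup G} (ht : IsOut z Q t)
    (S : Split z t v e U K) (iso : ↥K ≃* AltFive.A5) :
    Nat.card {p : G × G // IsConj z p.1 ∧ IsConj t p.2 ∧ t ∈ zpowers (p.1 * p.2)} = 195 := by
  rw [d.card_pairs_t ht S, ← AltFive.card_pairs]
  have hodd : ∀ x : AltFive.A5, Odd (orderOf x) ↔ x ^ 15 = 1 := by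
    intro x
    refine ⟨fun ho => ?_, fun hx => Odd.of_dvd_nat (by decide) (orderOf_dvd_of_pow_eq_one hx)⟩
    have hd : orderOf x ∣ 4 * 15 := by
      have := orderOf_dvd_natCard x
      rwa [card_A5] at this
    exact orderOf_dvd_iff_pow_eq_one.mp
      (((Nat.coprime_two_right.mpr ho).pow_right 2).dvd_of_dvd_mul_left hd)
  refine Nat.card_congr ⟨fun q => ⟨(iso q.1.1, iso q.1.2), ⟨?_, ?_⟩, ?_, ?_⟩,
    fun q => ⟨(iso.symm q.1.1, iso.symm q.1.2), ⟨?_, ?_⟩, ?_, ?_⟩, fun q => by simp, fun q => by simp⟩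
  · rw [← map_mul, q.2.1.1, map_one]
  · exact fun e' => q.2.1.2 (iso.map_eq_one_iff.mp e')
  · rw [← map_mul, q.2.2.1, map_one]
  · rw [← map_mul, ← hodd, MulEquiv.orderOf_eq]; exact q.2.2.2
  · rw [← map_mul, q.2.1.1, map_one]
  · exact fun e' => q.2.1.2 (iso.symm.map_eq_one_iff.mp e')
  · rw [← map_mul, q.2.2.1, map_one]
  · rw [← map_mul, MulEquiv.orderOf_eq, hodd]; exact q.2.2.2

theorem card_pairs_t_small (d : Data z Q) {t v e : G} {U K : Subgroup G} (ht : IsOut z Q t)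
    (S : Split z t v e U K) (hinv : ∀ y ∈ K, y * y = 1 → y = 1 ∨ y = z ∨ y = v ∨ y = z * v) :
    Nat.card {p : G × G // IsConj z p.1 ∧ IsConj t p.2 ∧ t ∈ zpowers (p.1 * p.2)} = 3 := by
  rw [d.card_pairs_t ht S]
  have hzv : z * v * (z * v) = 1 := by rw [S.zv.symm.mul_mul_mul_comm, d.hub.sq, S.v_sq, one_mul]
  have hab : ∀ a y : G, a ∈ ({1, z, v, z * v} : Set G) → y ∈ ({1, z, v, z * v} : Set G) →
      Commute a y := by
    have c1 : Commute z (z * v) := (Commute.refl z).mul_right S.zv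
    have c2 : Commute v (z * v) := S.zv.symm.mul_right (Commute.refl v)
    rintro a y (rfl | rfl | rfl | rfl) (rfl | rfl | rfl | rfl)
    all_goals first
      | exact Commute.one_left _ | exact Commute.one_right _ | exact Commute.refl _
      | exact S.zv | exact S.zv.symm | exact c1 | exact c1.symm | exact c2 | exact c2.symm
  have hiff : ∀ q : ↥K × ↥K, ((q.1 * q.1 = 1 ∧ q.1 ≠ 1) ∧ q.2 * q.2 = 1 ∧ Odd (orderOf (q.1 * q.2))) ↔
      (q.1 * q.1 = 1 ∧ q.1 ≠ 1) ∧ q.2 = q.1 := by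
    intro q
    constructor
    · rintro ⟨ha, hy, ho⟩
      refine ⟨ha, ?_⟩
      have hc : Commute q.1 q.2 := Subtype.ext (hab _ _ (hinv _ q.1.2 (congrArg Subtype.val ha.1))
        (hinv _ q.2.2 (congrArg Subtype.val hy))).eq
      have h2 : (q.1 * q.2) ^ 2 = 1 := by rw [pow_two, hc.symm.mul_mul_mul_comm, ha.1, hy, one_mul]
      have h1 : orderOf (q.1 * q.2) = 1 :=
        Nat.eq_one_of_dvd_coprimes (Nat.coprime_two_right.mpr ho) dvd_rfl (orderOf_dvd_of_pow_eq_one h2)
      rw [orderOf_eq_one_iff] at h1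
      calc q.2 = q.1⁻¹ * (q.1 * q.2) := by group
        _ = q.1 := by rw [h1, mul_one, inv_eq_of_mul_eq_one_right ha.1]
    · rintro ⟨ha, e'⟩
      refine ⟨ha, by rw [e']; exact ha.1, ?_⟩
      rw [e', ha.1, orderOf_one]; exact odd_one
  rw [Nat.card_congr (Equiv.subtypeEquivRight hiff)]
  rw [Nat.card_congr (⟨fun q => ⟨q.1.1, q.2.1⟩, fun a => ⟨(a.1, a.1), a.2, rfl⟩,
    fun q => Subtype.ext (Prod.ext rfl q.2.2.symm), fun a => rfl⟩ :
    {q : ↥K × ↥K // (q.1 * q.1 = 1 ∧ q.1 ≠ 1) ∧ q.2 = q.1} ≃ {a : ↥K // a * a = 1 ∧ a ≠ 1})]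
  rw [Nat.card_congr (⟨fun a => ⟨(a.1 : G), by
      rcases hinv _ a.1.2 (congrArg Subtype.val a.2.1) with e' | e' | e' | e'
      · exact absurd (Subtype.ext e') a.2.2
      · exact Or.inl e'
      · exact Or.inr (Or.inl e')
      · exact Or.inr (Or.inr e')⟩,
    fun x => ⟨⟨x.1, by
      rcases x.2 with e' | e' | e' <;> rw [e']
      exacts [S.z_mem, S.v_mem, mul_mem S.z_mem S.v_mem]⟩, Subtype.ext (by
      rcases x.2 with e' | e' | e' <;> simp only [Subgroup.coe_mul] <;> rw [e'] <;>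
        first | exact d.hub.sq | exact S.v_sq | exact hzv), fun e'' => by
      have e3 : x.1 = 1 := congrArg Subtype.val e''
      rcases x.2 with e' | e' | e' <;> rw [e'] at e3
      · exact d.hub.ne_one e3
      · exact S.v_ne_one e3
      · exact S.v_ne (by rw [eq_inv_of_mul_eq_one_right e3, d.hub.inv_z])⟩,
    fun a => rfl, fun x => rfl⟩ :
    {a : ↥K // a * a = 1 ∧ a ≠ 1} ≃ {x : G // x = z ∨ x = v ∨ x = z * v})]
  have hs : ({x : G | x = z ∨ x = v ∨ x = z * v} : Set G) = ({z, v, z * v} : Set G) := rfl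
  show Nat.card ({x : G | x = z ∨ x = v ∨ x = z * v} : Set G) = 3
  rw [hs, Nat.card_coe_set_eq, Set.ncard_eq_three]
  exact ⟨z, v, z * v, S.v_ne.symm, fun e' => S.v_ne_one (mul_left_cancel (e'.symm.trans (mul_one z).symm)),
    fun e' => d.hub.ne_one (by simpa using e'.symm), rfl⟩

/-- Thompson's order formula here. -/
theorem card_eq (d : Data z Q) {t : G} (ht : IsOut z Q t) :
    Nat.card G = Nat.card (centralizer ({t} : Set G)) * 960 +
      1920 * Nat.card {p : G × G // IsConj z p.1 ∧ IsConj t p.2 ∧ t ∈ zpowers (p.1 * p.2)} := by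
  have ht2 : orderOf t = 2 := orderOf_eq_prime (by rw [pow_two]; exact ht.2.1) (d.ne_one_of_isOut ht)
  have := S0213.result z t d.orderOf_z ht2 (d.not_isConj_of_isOut ht) fun x hx => by
    refine d.two_classes ht ?_ fun e => ?_
    · rw [← pow_two, ← hx, pow_orderOf_eq_one]
    · rw [e, orderOf_one] at hx; omega
  rwa [d.card_pairs_z ht, d.cardC] at this

/-- An element of order 5 inverted in `C(z)` by an involution outside `Q`. -/
theorem exists_five_inverted (d : Data z Q) :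
    ∃ c n, Commute c z ∧ orderOf c = 5 ∧ IsOut z Q n ∧ n * c * n⁻¹ = c⁻¹ := by
  obtain ⟨x, hx⟩ := d.exists_isOut
  obtain ⟨F, o⟩ := d.exists_outer hx.1 hx.2.1 hx.2.2
  obtain ⟨π, hπ1, hπ2, hπ3, hπ5, hπne⟩ := five_invert
  obtain ⟨σ, hσ1, hσ⟩ := double_conj π hπ1 hπ2 hπ3
  obtain ⟨k, hk⟩ := F.surj σ hσ1
  have hkz := mem_cz.mp k.2
  set y := (k : G) * x * (k : G)⁻¹
  have hy : IsOut z Q y := d.isOut_conj hx hkz
  set r := x * y
  have hrz : Commute r z := hx.1.mul_left hy.1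
  set r' : ↥(centralizer ({z} : Set G)) := ⟨r, mem_cz.mpr hrz⟩
  have hθr : F.θ r' = p01 * π := by
    have e1 : r' = ⟨x, mem_cz.mpr o.comm⟩ * (k * ⟨x, mem_cz.mpr o.comm⟩ * k⁻¹) := Subtype.ext rfl
    rw [e1, map_mul, map_mul, map_mul, map_inv, o.perm, hk, ← hσ]; group
  have hp5 : (F.θ r') ^ 5 = 1 := by
    rw [hθr]; simpa [pow_succ, mul_assoc] using hπ5
  have hr5 : r ^ 5 ∈ Q := by
    have : ((r' ^ 5 : ↥(centralizer ({z} : Set G))) : G) ∈ Q := by rw [← F.ker, map_pow, hp5]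
    simpa using this
  have hr20 : r ^ 20 = 1 := by
    rw [show 20 = 5 * 4 by rfl, pow_mul, show 4 = 2 * 2 by rfl, pow_mul, pow_two (r ^ 5)]
    rcases d.hub.sq_cases _ hr5 with e | e <;> simp [e, pow_two, d.hub.sq]
  have hc5 : (r ^ 16) ^ 5 = 1 := by
    rw [← pow_mul, show 16 * 5 = 20 * 4 by rfl, pow_mul, hr20, one_pow]
  have hne : r ^ 16 ≠ 1 := fun e => hπne (by
    have h1 : (F.θ r') ^ 16 = 1 := by
      rw [← map_pow, show r' ^ 16 = 1 from Subtype.ext (by simpa using e), map_one]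
    rw [show 16 = 5 * 3 + 1 by rfl, pow_add, pow_mul, hp5, one_pow, one_mul, pow_one, hθr] at h1
    exact h1)
  have : Fact (Nat.Prime 5) := ⟨by norm_num⟩
  refine ⟨r ^ 16, x, hrz.pow_left 16, orderOf_eq_prime hc5 hne, hx, ?_⟩
  have h1 : x * r * x⁻¹ = r⁻¹ := by
    simp only [r]
    rw [mul_inv_rev, inv_eq_of_mul_eq_one_right hx.2.1, inv_eq_of_mul_eq_one_right hy.2.1,
      ← mul_assoc x x, hx.2.1, one_mul]
  rw [← conj_pow, h1, inv_pow]

/-- The elements of `C(z)` commuting with an element of order 5 of it. -/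
theorem five_centralizer (d : Data z Q) {c : G} (hc : Commute c z) (h5 : orderOf c = 5) {x : G}
    (hx : Commute x z) (hxc : Commute x c) : ∃ e k, k < 5 ∧ x = zp z e * c ^ k := by
  have h := d.hub
  obtain ⟨F⟩ := d.exists_frame
  set c' : ↥(centralizer ({z} : Set G)) := ⟨c, mem_cz.mpr hc⟩
  set x' : ↥(centralizer ({z} : Set G)) := ⟨x, mem_cz.mpr hx⟩
  have hc5 : c ^ 5 = 1 := h5 ▸ pow_orderOf_eq_one c
  have hσ5 : F.θ c' * (F.θ c' * (F.θ c' * (F.θ c' * F.θ c'))) = 1 := by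
    simp only [← map_mul]
    rw [← map_one F.θ]; congr 1
    refine Subtype.ext ?_
    show c * (c * (c * (c * c))) = 1
    rw [← hc5]; simp [pow_succ, mul_assoc]
  have hσ1 : F.θ c' ≠ 1 := fun e => by
    have hQ : c ∈ Q := (F.ker c').mp e
    have hd : orderOf c ∣ 4 := orderOf_dvd_of_pow_eq_one (by
      rw [show 4 = 2 * 2 by rfl, pow_mul, pow_two c]
      rcases h.sq_cases c hQ with e | e <;> simp [e, pow_two, h.sq])
    rw [h5] at hd; norm_num at hd
  have hcomm : F.θ x' * F.θ c' = F.θ c' * F.θ x' := by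
    rw [← map_mul, ← map_mul]; exact congrArg F.θ (Subtype.ext hxc.eq)
  have fin : ∀ k < 5, F.θ x' = (F.θ c') ^ k → ∃ e k, k < 5 ∧ x = zp z e * c ^ k := by
    intro k hk e
    have hmem : ((x' * (c' ^ k)⁻¹ : ↥(centralizer ({z} : Set G))) : G) ∈ Q := by
      rw [← F.ker, map_mul, map_inv, map_pow, e, mul_inv_cancel]
    have hq : x * (c ^ k)⁻¹ ∈ Q := by simpa using hmem
    rcases d.five_fixed hc h5 hq (hxc.symm.mul_right ((Commute.refl c).pow_right k).inv_right) with e' | e'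
    · exact ⟨false, k, hk, by rw [zp_false, one_mul]; exact mul_inv_eq_one.mp e'⟩
    · exact ⟨true, k, hk, by rw [zp_true, ← e', inv_mul_cancel_right]⟩
  rcases (five_normalizer (F.θ c') (F.θ x') (F.even _) hσ5 hσ1 (F.even _)).2.2 hcomm with e | e | e | e | e
  · exact fin 0 (by norm_num) (by simpa using e)
  · exact fin 1 (by norm_num) (by simpa using e)
  · exact fin 2 (by norm_num) (by simpa [pow_succ] using e)
  · exact fin 3 (by norm_num) (by simpa [pow_succ, mul_assoc] using e)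
  · exact fin 4 (by norm_num) (by simpa [pow_succ, mul_assoc] using e)

/-- An element of `C(z)` normalising `⟨c⟩`, `|c| = 5`, centralises or inverts `c`. -/
theorem five_inverts (d : Data z Q) {c y : G} (hc : Commute c z) (h5 : orderOf c = 5)
    (hy : Commute y z) (hyc : y * c * y⁻¹ ∈ zpowers c) : Commute y c ∨ y * c * y⁻¹ = c⁻¹ := by
  have h := d.hub
  obtain ⟨n, hn⟩ := (isOfFinOrder_of_finite c).mem_powers_iff_mem_zpowers.mpr hyc
  dsimp only at hn
  have hc5 : c ^ 5 = 1 := h5 ▸ pow_orderOf_eq_one c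
  have hmod : c ^ n = c ^ (n % 5) := by rw [← h5, pow_mod_orderOf]
  rw [hmod] at hn
  obtain ⟨F⟩ := d.exists_frame
  set c' : ↥(centralizer ({z} : Set G)) := ⟨c, mem_cz.mpr hc⟩
  set y' : ↥(centralizer ({z} : Set G)) := ⟨y, mem_cz.mpr hy⟩
  have hσ5 : F.θ c' * (F.θ c' * (F.θ c' * (F.θ c' * F.θ c'))) = 1 := by
    simp only [← map_mul]
    rw [← map_one F.θ]; congr 1
    refine Subtype.ext ?_
    show c * (c * (c * (c * c))) = 1
    rw [← hc5]; simp [pow_succ, mul_assoc]
  have hσ1 : F.θ c' ≠ 1 := fun e => by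
    have hQ : c ∈ Q := (F.ker c').mp e
    have hd : orderOf c ∣ 4 := orderOf_dvd_of_pow_eq_one (by
      rw [show 4 = 2 * 2 by rfl, pow_mul, pow_two c]
      rcases h.sq_cases c hQ with e | e <;> simp [e, pow_two, h.sq])
    rw [h5] at hd; norm_num at hd
  obtain ⟨n2, n3, -⟩ := five_normalizer (F.θ c') (F.θ y') (F.even _) hσ5 hσ1 (F.even _)
  have hθ : F.θ y' * F.θ c' * (F.θ y')⁻¹ = (F.θ c') ^ (n % 5) := by
    rw [← map_inv, ← map_mul, ← map_mul, ← map_pow]
    exact congrArg F.θ (Subtype.ext (by simpa using hn.symm))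
  rcases (by omega : n % 5 = 0 ∨ n % 5 = 1 ∨ n % 5 = 2 ∨ n % 5 = 3 ∨ n % 5 = 4) with e | e | e | e | e <;>
    rw [e] at hn hθ
  · rw [pow_zero] at hn
    have : c = 1 := by simpa using hn.symm
    rw [this, orderOf_one] at h5; omega
  · rw [pow_one] at hn; exact Or.inl (mul_inv_eq_iff_eq_mul.mp hn.symm)
  · exact absurd (hθ.trans (pow_two _)) n2
  · exact absurd (hθ.trans (by simp [pow_succ, mul_assoc])) n3
  · right; rw [← hn]; exact eq_inv_of_mul_eq_one_left (by rw [← pow_succ]; exact hc5)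

/-- `C(t)` cannot have order 48. -/
theorem card_centralizer_ne (d : Data z Q) {t : G} (ht : IsOut z Q t)
    (hG : Nat.card G = 51840) (h48 : Nat.card (centralizer ({t} : Set G)) = 48) : False := by
  classical
  have : Fact (Nat.Prime 2) := ⟨Nat.prime_two⟩
  have : Fact (Nat.Prime 3) := ⟨Nat.prime_three⟩
  have : Fact (Nat.Prime 5) := ⟨by norm_num⟩
  have h := d.hub
  obtain ⟨c, n, hc, h5, hn, hnc⟩ := d.exists_five_inverted
  set Cp := centralizer ({c} : Set G)
  have hzCp : z ∈ Cp := mem_cz.mpr hc.symm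
  have hni : n⁻¹ = n := inv_eq_of_mul_eq_one_right hn.2.1
  have h48' : ∀ y, IsConj t y → Nat.card (centralizer ({y} : Set G)) = 48 := by
    intro y hy
    obtain ⟨g, rfl⟩ := isConj_iff.mp hy
    rw [← h48]
    have : centralizer ({g * t * g⁻¹} : Set G) = (centralizer ({t} : Set G)).map (MulAut.conj g).toMonoidHom := by
      ext x
      rw [LargeExtraspecial.mem_conj_iff, mem_cz, mem_cz]
      constructor
      · intro p
        have := Commute.conj' g⁻¹ p
        simpa [mul_assoc] using this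
      · intro p
        have := Commute.conj' g p
        rwa [show g * (g⁻¹ * x * g) * g⁻¹ = x by group] at this
    rw [this, card_map_of_injective (MulAut.conj g).injective]
  -- involutions of `C(c)`
  have hinv : ∀ w ∈ Cp, w * w = 1 → w ≠ 1 → IsConj z w := by
    intro w hw hw2 hw1
    refine (d.two_classes ht hw2 hw1).resolve_right fun e => ?_
    have h1 := orderOf_dvd_natCard (⟨c, mem_cz.mpr (mem_cz.mp hw).symm⟩ : ↥(centralizer ({w} : Set G)))
    rw [← Subgroup.orderOf_coe, h5, h48' w e] at h1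
    norm_num at h1
  have honly : ∀ w ∈ Cp, w * w = 1 → w ≠ 1 → Commute w z → w = z := by
    intro w hw hw2 hw1 hwz
    obtain ⟨e, k, hk, rfl⟩ := d.five_centralizer hc h5 hwz (mem_cz.mp hw)
    have hzpc : Commute (zp z e) (c ^ k) := ((zp_commute hc e).pow_left k).symm
    rw [hzpc.symm.mul_mul_mul_comm, zp_mul h, Bool.xor_self, zp_false, one_mul, ← pow_add] at hw2
    have hk0 : k = 0 := by
      have := orderOf_dvd_of_pow_eq_one hw2
      rw [h5] at this; omega
    subst hk0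
    cases e
    · simp at hw1
    · simp
  -- Sylow 2-subgroups of `C(c)` have order 2
  have hzp : IsPGroup 2 ↥(zpowers (⟨z, hzCp⟩ : ↥Cp)) :=
    IsPGroup.of_card (n := 1) (by
      rw [Nat.card_zpowers, pow_one, ← Subgroup.orderOf_coe, d.orderOf_z])
  obtain ⟨T, hT⟩ := hzp.exists_le_sylow
  have hTz : (T : Subgroup ↥Cp) = zpowers (⟨z, hzCp⟩ : ↥Cp) := by
    refine le_antisymm ?_ hT
    intro x hx
    have hnt : Nontrivial ↥(T : Subgroup ↥Cp) :=
      ⟨⟨⟨_, hT (mem_zpowers _)⟩, 1, fun e => h.ne_one (congrArg (fun w : ↥(T : Subgroup ↥Cp) => ((w : ↥Cp) : G)) e)⟩⟩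
    obtain ⟨ζ, hζ⟩ := exists_prime_orderOf_dvd_card' (G := ↥(Subgroup.center ↥(T : Subgroup ↥Cp))) 2 (by
      obtain ⟨m, hm⟩ := (IsPGroup.iff_card.mp (T.2.to_subgroup (Subgroup.center _)))
      have := T.2.center_nontrivial
      have hlt : 1 < Nat.card (Subgroup.center ↥(T : Subgroup ↥Cp)) := Finite.one_lt_card
      rw [hm] at hlt ⊢
      exact dvd_pow_self 2 (by rintro rfl; simp at hlt))
    have hζG : (((ζ : ↥(T : Subgroup ↥Cp)) : ↥Cp) : G) = z := by
      refine honly _ ((ζ : ↥(T : Subgroup ↥Cp)) : ↥Cp).2 ?_ ?_ ?_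
      · have : ζ * ζ = 1 := by
          have hp := pow_orderOf_eq_one ζ
          rwa [hζ, pow_two] at hp
        simpa using congrArg (fun w : ↥(Subgroup.center ↥(T : Subgroup ↥Cp)) =>
          (((w : ↥(T : Subgroup ↥Cp)) : ↥Cp) : G)) this
      · intro e
        have : ζ = 1 := Subtype.ext (Subtype.ext (Subtype.ext e))
        rw [this, orderOf_one] at hζ; omega
      · exact (congrArg (fun w : ↥(T : Subgroup ↥Cp) => ((w : ↥Cp) : G))
          (Subgroup.mem_center_iff.mp ζ.2 ⟨_, hT (mem_zpowers _)⟩)).symm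
    have hxz : Commute (x : G) z := by
      have := congrArg (fun w : ↥(T : Subgroup ↥Cp) => ((w : ↥Cp) : G))
        (Subgroup.mem_center_iff.mp ζ.2 ⟨x, hx⟩)
      simp only [Subgroup.coe_mul, hζG] at this
      exact this
    obtain ⟨e, k, hk, hxe⟩ := d.five_centralizer hc h5 hxz (mem_cz.mp x.2)
    obtain ⟨m, hm⟩ := T.2 ⟨x, hx⟩
    have hm' : (x : G) ^ 2 ^ m = 1 := by
      simpa using congrArg (fun w : ↥(T : Subgroup ↥Cp) => ((w : ↥Cp) : G)) hm
    have hk0 : k = 0 := by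
      have hzpc : Commute (zp z e) (c ^ k) := ((zp_commute hc e).pow_left k).symm
      rcases Nat.eq_zero_or_pos m with rfl | hm0
      · rw [pow_zero, pow_one] at hm'
        rw [hm'] at hxe
        have : (zp z e * c ^ k) ^ 2 = 1 := by rw [← hxe, one_pow]
        rw [hzpc.mul_pow, pow_two, zp_mul h, Bool.xor_self, zp_false, one_mul, ← pow_mul] at this
        have := orderOf_dvd_of_pow_eq_one this
        rw [h5] at this; omega
      · rw [hxe, hzpc.mul_pow, show 2 ^ m = 2 * 2 ^ (m - 1) by rw [← pow_succ', Nat.sub_add_cancel hm0],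
          pow_mul, pow_two, zp_mul h, Bool.xor_self, zp_false, one_pow, one_mul, ← pow_mul] at hm'
        have hd := orderOf_dvd_of_pow_eq_one hm'
        rw [h5] at hd
        rcases (Nat.Prime.dvd_mul (by norm_num : Nat.Prime 5)).mp hd with h' | h'
        · omega
        · rcases (Nat.Prime.dvd_mul (by norm_num : Nat.Prime 5)).mp h' with h'' | h''
          · norm_num at h''
          · exact absurd ((by norm_num : Nat.Prime 5).dvd_of_dvd_pow h'') (by norm_num)
    subst hk0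
    have hxx : x = ⟨zp z e * c ^ 0, hxe ▸ x.2⟩ := Subtype.ext hxe
    cases e
    · rw [hxx]; simp only [zp_false, pow_zero, one_mul]; exact one_mem _
    · rw [hxx]; simp only [zp_true, pow_zero, mul_one]; exact mem_zpowers _
  have hT2 : Nat.card (T : Subgroup ↥Cp) = 2 := by
    rw [hTz, Nat.card_zpowers, ← Subgroup.orderOf_coe, d.orderOf_z]
  have hTsub : ∀ x ∈ (T : Subgroup ↥Cp), x = 1 ∨ (x : G) = z := by
    intro x hx
    rw [hTz] at hx
    obtain ⟨j, rfl⟩ := mem_zpowers_iff.mp hx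
    have hsq : (⟨z, hzCp⟩ : ↥Cp) * ⟨z, hzCp⟩ = 1 := Subtype.ext h.sq
    rcases Int.even_or_odd j with ⟨l, rfl⟩ | ⟨l, rfl⟩
    · left; rw [← two_mul, zpow_mul, zpow_two, hsq, one_zpow]
    · right; rw [zpow_add, zpow_one, zpow_mul, zpow_two, hsq, one_zpow, one_mul]
  obtain ⟨P, Kc, hKn, hKc⟩ := Transfer.hasNormalPComplement_of_normalizer_le_centralizer T (fun x hx => by
    refine mem_centralizer_iff.mpr fun y hy => ?_
    have hyT : y ∈ (T : Subgroup ↥Cp) := hy
    rcases hTsub y hyT with e | e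
    · rw [e, one_mul, mul_one]
    · have h1 := (mem_normalizer_iff.mp hx y).mp hy
      rcases hTsub _ h1 with e' | e'
      · rw [mul_inv_eq_one] at e'
        have hy1 : y = 1 := by simpa using e'
        rw [hy1, one_mul, mul_one]
      · have : x * y * x⁻¹ = y := Subtype.ext (e'.trans e.symm)
        exact (mul_inv_eq_iff_eq_mul.mp this).symm)
  have hPcard : Nat.card (P : Subgroup ↥Cp) = 2 := (Sylow.card_eq_multiplicity P).trans
    ((Sylow.card_eq_multiplicity T).symm.trans hT2)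
  have hCpcard : Nat.card Cp = 2 * Nat.card Kc := by
    have := Kc.card_mul_index
    rw [hKc.symm.index_eq_card, hPcard] at this
    omega
  have hCdvd : Nat.card Cp ∣ 51840 := hG ▸ Subgroup.card_subgroup_dvd_card Cp
  have hKodd : ¬ 2 ∣ Nat.card Kc := by
    intro h2
    have h4 : 2 ^ 2 ∣ Nat.card ↥Cp := by rw [hCpcard, pow_two]; exact Nat.mul_dvd_mul_left 2 h2
    have := T.pow_dvd_card_of_pow_dvd_card h4
    rw [hT2] at this; norm_num at this
  -- the 3-elements of `C(c)`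
  have hKdvd : Nat.card Kc ∣ 405 := by
    have h1 : Nat.card Kc ∣ 2 ^ 7 * 405 := by
      rw [show 2 ^ 7 * 405 = 51840 by norm_num]
      exact (dvd_mul_left _ _).trans (hCpcard ▸ hCdvd)
    exact (((Nat.Prime.coprime_iff_not_dvd Nat.prime_two).mpr hKodd).pow_left 7).symm.dvd_of_dvd_mul_left h1
  have h5K : 5 ∣ Nat.card Kc := by
    have h1 : 5 ∣ Nat.card ↥Cp := by
      have := orderOf_dvd_natCard (⟨c, mem_cz.mpr (Commute.refl c)⟩ : ↥Cp)
      rwa [← Subgroup.orderOf_coe, h5] at this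
    rw [hCpcard] at h1
    exact ((Nat.Prime.dvd_mul (by norm_num : Nat.Prime 5)).mp h1).resolve_left (by norm_num)
  obtain ⟨l, hl⟩ := h5K
  have hldvd : l ∣ 81 := by
    rw [hl] at hKdvd
    exact Nat.dvd_of_mul_dvd_mul_left (by norm_num : 0 < 5) (show 5 * l ∣ 5 * 81 from hKdvd)
  obtain ⟨a, ha4, rfl⟩ := (Nat.dvd_prime_pow Nat.prime_three).mp (show l ∣ 3 ^ 4 from hldvd)
  let R : Sylow 3 ↥Kc := Classical.arbitrary _
  have hRcard : Nat.card (R : Subgroup ↥Kc) = 3 ^ a := by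
    rw [R.card_eq_multiplicity, hl, Nat.factorization_mul (by norm_num) (by positivity),
      Finsupp.add_apply, Nat.factorization_eq_zero_of_not_dvd (by norm_num : ¬ 3 ∣ 5), zero_add,
      Nat.factorization_pow, Finsupp.smul_apply, Nat.prime_three.factorization_self, smul_eq_mul, mul_one]
  have hRnormal : (R : Subgroup ↥Kc).Normal := by
    have h1 := card_sylow_modEq_one 3 ↥Kc
    have h2 := R.card_dvd_index
    have h3 : (R : Subgroup ↥Kc).index = 5 := by
      have := (R : Subgroup ↥Kc).card_mul_index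
      rw [hRcard, hl, mul_comm 5] at this
      exact Nat.eq_of_mul_eq_mul_left (by positivity) this
    rw [h3] at h2
    have h4 : Nat.card (Sylow 3 ↥Kc) = 1 := by
      rcases (Nat.dvd_prime (by norm_num : Nat.Prime 5)).mp h2 with e | e
      · exact e
      · rw [e] at h1; exact absurd h1 (by decide)
    have : Subsingleton (Sylow 3 ↥Kc) := (Nat.card_eq_one_iff_unique.mp h4).1
    exact Sylow.normal_of_subsingleton R
  set L : Subgroup G := ((R : Subgroup ↥Kc).map Kc.subtype).map Cp.subtype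
  have hLcard : Nat.card L = 3 ^ a := by
    rw [card_map_of_injective Cp.subtype_injective, card_map_of_injective Kc.subtype_injective, hRcard]
  have hLCp : L ≤ Cp := map_subtype_le _
  have hLall : ∀ x ∈ Cp, ∀ j : ℕ, x ^ 3 ^ j = 1 → x ∈ L := by
    intro x hx j hj
    set x' : ↥Cp := ⟨x, hx⟩
    have hxK : x' ∈ Kc := by
      have h1 : orderOf (QuotientGroup.mk' Kc x') ∣ 2 := by
        have := orderOf_dvd_natCard (QuotientGroup.mk' Kc x')
        rwa [← Subgroup.index_eq_card, hKc.symm.index_eq_card, hPcard] at this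
      have h2 : orderOf (QuotientGroup.mk' Kc x') ∣ 3 ^ j :=
        orderOf_dvd_of_pow_eq_one (by rw [← map_pow, show x' ^ 3 ^ j = 1 from Subtype.ext hj, map_one])
      have h3 := Nat.eq_one_of_dvd_coprimes (Nat.Coprime.pow_right j (by norm_num : Nat.Coprime 2 3)) h1 h2
      rwa [orderOf_eq_one_iff, QuotientGroup.mk'_apply, QuotientGroup.eq_one_iff] at h3
    set x'' : ↥Kc := ⟨x', hxK⟩
    have hp : IsPGroup 3 ↥(zpowers x'') := by
      obtain ⟨i, -, hi⟩ := (Nat.dvd_prime_pow Nat.prime_three).mp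
        (orderOf_dvd_of_pow_eq_one (show x'' ^ 3 ^ j = 1 from Subtype.ext (Subtype.ext hj)))
      exact IsPGroup.of_card (n := i) (by rw [Nat.card_zpowers, hi])
    have hle := R.is_maximal' (hp.to_sup_of_normal_right R.2) le_sup_right
    exact ⟨_, ⟨x'', hle ▸ mem_sup_left (mem_zpowers _), rfl⟩, rfl⟩
  have hLpow : ∀ x ∈ L, ∃ j : ℕ, x ^ 3 ^ j = 1 := fun x hx => by
    refine ⟨a, ?_⟩
    have := pow_card_eq_one' (x := (⟨x, hx⟩ : ↥L))
    rw [hLcard] at this
    exact congrArg Subtype.val this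
  have hzinvL : ∀ x ∈ L, z * x * z⁻¹ ∈ L := fun x hx => by
    obtain ⟨j, hj⟩ := hLpow x hx
    exact hLall _ (mul_mem (mul_mem hzCp (hLCp hx)) (inv_mem hzCp)) j (by rw [conj_pow, hj]; group)
  have hninvL : ∀ x ∈ L, n * x * n⁻¹ ∈ L := fun x hx => by
    obtain ⟨j, hj⟩ := hLpow x hx
    refine hLall _ (mem_cz.mpr ?_) j (by rw [conj_pow, hj]; group)
    have := Commute.conj' n (mem_cz.mp (hLCp hx))
    rw [hnc] at this
    simpa using this.inv_right
  have hzfix : ∀ x ∈ L, Commute x z → x = 1 := by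
    intro x hx hxz
    obtain ⟨e, k, hk, rfl⟩ := d.five_centralizer hc h5 hxz (mem_cz.mp (hLCp hx))
    obtain ⟨j, hj⟩ := hLpow _ hx
    have h10 : (zp z e * c ^ k) ^ 10 = 1 := by
      rw [(((zp_commute hc e).pow_left k).symm).mul_pow, show 10 = 2 * 5 by rfl, pow_mul, pow_two,
        zp_mul h, Bool.xor_self, zp_false, one_pow, one_mul, ← pow_mul,
        show k * (2 * 5) = 5 * (2 * k) by ring, pow_mul, ← h5, pow_orderOf_eq_one, one_pow]
    have := Nat.eq_one_of_dvd_coprimes (Nat.Coprime.pow_right j (by norm_num : Nat.Coprime 10 3))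
      (orderOf_dvd_of_pow_eq_one h10) (orderOf_dvd_of_pow_eq_one hj)
    exact orderOf_eq_one_iff.mp this
  have hzi : ∀ x ∈ L, z * x * z⁻¹ = x⁻¹ := by
    intro x hx
    let φ : ↥L → ↥L := fun w => ⟨(w : G)⁻¹ * (z * w * z⁻¹), mul_mem (inv_mem w.2) (hzinvL w w.2)⟩
    have hinj : Function.Injective φ := by
      intro p q hpq
      have hh : (p : G)⁻¹ * (z * p * z⁻¹) = (q : G)⁻¹ * (z * q * z⁻¹) := congrArg Subtype.val hpq
      have hcz : Commute ((q : G) * (p : G)⁻¹) z := by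
        refine (mul_inv_eq_iff_eq_mul.mp ?_ : z * ((q : G) * (p : G)⁻¹) = (q : G) * (p : G)⁻¹ * z).symm
        calc z * ((q : G) * (p : G)⁻¹) * z⁻¹
            = q * ((q : G)⁻¹ * (z * q * z⁻¹)) * ((p : G)⁻¹ * (z * p * z⁻¹))⁻¹ * (p : G)⁻¹ := by group
          _ = _ := by rw [← hh]; group
      exact (Subtype.ext (mul_inv_eq_one.mp (hzfix _ (mul_mem q.2 (inv_mem p.2)) hcz))).symm
    obtain ⟨w, hw⟩ := (Finite.injective_iff_surjective.mp hinj) ⟨x, hx⟩
    have hw' : (w : G)⁻¹ * (z * w * z⁻¹) = x := congrArg Subtype.val hw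
    rw [← hw', h.inv_z]
    calc z * ((w : G)⁻¹ * (z * w * z)) * z = (z * (w : G)⁻¹ * z) * w * (z * z) := by group
      _ = _ := by
        rw [h.sq, mul_one, mul_inv_rev, inv_inv, mul_inv_rev, mul_inv_rev, h.inv_z, mul_assoc]
        simp only [mul_assoc]
  have hLab : ∀ x ∈ L, ∀ y ∈ L, Commute x y := by
    intro x hx y hy
    have e1 := hzi _ (mul_mem hx hy)
    rw [← conj_mul, hzi x hx, hzi y hy, mul_inv_rev] at e1
    exact (inv_injective (by rw [mul_inv_rev, mul_inv_rev]; exact e1.symm) : x * y = y * x)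
  have h3bound : ∀ w, IsConj t w → ∀ M : Subgroup G, (∀ x ∈ M, x ∈ L ∧ Commute x w) → Nat.card M ∣ 3 := by
    intro w hw M hM
    have h1 : Nat.card M ∣ 3 ^ a := hLcard ▸ card_dvd_of_le (fun x hx => (hM x hx).1)
    have h2 : Nat.card M ∣ 48 := h48' w hw ▸ card_dvd_of_le (fun x hx => mem_cz.mpr (hM x hx).2)
    obtain ⟨b, -, hb⟩ := (Nat.dvd_prime_pow Nat.prime_three).mp h1
    rw [hb] at h2 ⊢
    rcases b with _ | _ | b
    · norm_num
    · norm_num
    · exact absurd ((Dvd.intro_left (3 ^ b) (by ring) : 9 ∣ 3 ^ (b + 1 + 1)).trans h2) (by norm_num)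
  have hnz : Commute n z := hn.1
  have hnz2 : n * z * (n * z) = 1 := by rw [hnz.symm.mul_mul_mul_comm, hn.2.1, h.sq, one_mul]
  have hnzO : IsOut z Q (n * z) := ⟨hnz.mul_left (Commute.refl z), hnz2,
    fun hh => hn.2.2 ((Q.mul_mem_cancel_right h.mem).mp hh)⟩
  have htn : IsConj t n :=
    (d.two_classes ht hn.2.1 (d.ne_one_of_isOut hn)).resolve_left (d.not_isConj_of_isOut hn)
  have htnz : IsConj t (n * z) :=
    (d.two_classes ht hnz2 (d.ne_one_of_isOut hnzO)).resolve_left (d.not_isConj_of_isOut hnzO)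
  have ha2 : a ≤ 2 := by
    let φ : ↥L → ↥(L ⊓ centralizer ({n} : Set G)) × ↥(L ⊓ centralizer ({n * z} : Set G)) := fun x =>
      (⟨(x : G) * (n * x * n⁻¹), by
        refine Subgroup.mem_inf.mpr ⟨mul_mem x.2 (hninvL x x.2), mem_cz.mpr ?_⟩
        refine (mul_inv_eq_iff_eq_mul.mp ?_ : n * ((x : G) * (n * x * n⁻¹)) = (x : G) * (n * x * n⁻¹) * n).symm
        rw [← conj_mul, show n * (n * (x : G) * n⁻¹) * n⁻¹ = (n * n) * x * (n * n)⁻¹ by group, hn.2.1,
          one_mul, inv_one, mul_one]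
        exact (hLab _ (hninvL x x.2) _ x.2).eq⟩,
      ⟨(x : G) * (n * x * n⁻¹)⁻¹, by
        refine Subgroup.mem_inf.mpr ⟨mul_mem x.2 (inv_mem (hninvL x x.2)), mem_cz.mpr ?_⟩
        set w := (x : G) * (n * x * n⁻¹)⁻¹
        have hw : w ∈ L := mul_mem x.2 (inv_mem (hninvL x x.2))
        refine (mul_inv_eq_iff_eq_mul.mp ?_ : n * z * w = w * (n * z)).symm
        rw [show n * z * w * (n * z)⁻¹ = n * (z * w * z⁻¹) * n⁻¹ by group, hzi w hw]
        simp only [w]
        rw [mul_inv_rev, inv_inv, ← conj_mul,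
          show n * (n * (x : G) * n⁻¹) * n⁻¹ = (n * n) * x * (n * n)⁻¹ by group, hn.2.1, one_mul, inv_one,
          mul_one, conj_inv]⟩)
    have hφ : Function.Injective φ := by
      intro p q hpq
      obtain ⟨e1, e2⟩ := Prod.ext_iff.mp hpq
      have f1 : (p : G) * (n * p * n⁻¹) = q * (n * q * n⁻¹) := congrArg Subtype.val e1
      have f2 : (p : G) * (n * p * n⁻¹)⁻¹ = q * (n * q * n⁻¹)⁻¹ := congrArg Subtype.val e2
      have sqp : ∀ w : ↥L, ((w : G) * (n * w * n⁻¹)) * ((w : G) * (n * w * n⁻¹)⁻¹) = (w : G) * w := by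
        intro w
        have hc' : Commute ((w : G)) (n * w * n⁻¹) := hLab _ w.2 _ (hninvL w w.2)
        rw [hc'.symm.mul_mul_mul_comm, mul_inv_cancel, mul_one]
      have hsq : (p : G) * p = q * q := by rw [← sqp p, ← sqp q, f1, f2]
      have hpq' : ((p : G) * (q : G)⁻¹) * (p * (q : G)⁻¹) = 1 := by
        rw [((hLab _ p.2 _ q.2).inv_right.symm).mul_mul_mul_comm, hsq]; group
      have hm : (p : G) * (q : G)⁻¹ ∈ L := mul_mem p.2 (inv_mem q.2)
      obtain ⟨j, hj⟩ := hLpow _ hm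
      have h1 := Nat.eq_one_of_dvd_coprimes (Nat.Coprime.pow_right j (by norm_num : Nat.Coprime 2 3))
        (orderOf_dvd_of_pow_eq_one (by rw [pow_two]; exact hpq')) (orderOf_dvd_of_pow_eq_one hj)
      exact Subtype.ext (mul_inv_eq_one.mp (orderOf_eq_one_iff.mp h1))
    have hle := Nat.card_le_card_of_injective φ hφ
    rw [hLcard, Nat.card_prod] at hle
    have h1 := Nat.le_of_dvd (by norm_num) (h3bound n htn (L ⊓ centralizer ({n} : Set G))
      (fun x hx => ⟨(Subgroup.mem_inf.mp hx).1, mem_cz.mp (Subgroup.mem_inf.mp hx).2⟩))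
    have h2 := Nat.le_of_dvd (by norm_num) (h3bound (n * z) htnz (L ⊓ centralizer ({n * z} : Set G))
      (fun x hx => ⟨(Subgroup.mem_inf.mp hx).1, mem_cz.mp (Subgroup.mem_inf.mp hx).2⟩))
    by_contra hgt
    have : 3 ^ 3 ≤ 3 ^ a := Nat.pow_le_pow_right (by norm_num) (by omega)
    have := Nat.mul_le_mul h1 h2
    omega
  -- the normaliser of `⟨c⟩`
  set N := normalizer ((zpowers c : Subgroup G) : Set G)
  have hdec : ∀ x ∈ N, x ∈ Cp ∨ x * n ∈ Cp := by
    intro x hx
    have hxc : x * c * x⁻¹ ∈ zpowers c := (mem_normalizer_iff.mp hx c).mp (mem_zpowers c)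
    have hxz : x * z * x⁻¹ ∈ Cp := by
      have hxi : x⁻¹ * c * x ∈ zpowers c := by
        simpa using (mem_normalizer_iff.mp (inv_mem hx) c).mp (mem_zpowers c)
      obtain ⟨j, hj⟩ := mem_zpowers_iff.mp hxi
      have hzc : Commute z (x⁻¹ * c * x) := hj ▸ hc.symm.zpow_right j
      have := Commute.conj' x hzc
      rw [show x * (x⁻¹ * c * x) * x⁻¹ = c by group] at this
      exact mem_cz.mpr this
    have hord : orderOf (⟨x * z * x⁻¹, hxz⟩ : ↥Cp) = 2 := by
      rw [← Subgroup.orderOf_coe]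
      exact (MulEquiv.orderOf_eq (MulAut.conj x) z).trans d.orderOf_z
    obtain ⟨T', hT'⟩ := (IsPGroup.of_card (n := 1) (by rw [Nat.card_zpowers, pow_one, hord]) :
      IsPGroup 2 ↥(zpowers (⟨x * z * x⁻¹, hxz⟩ : ↥Cp))).exists_le_sylow
    obtain ⟨g, hg⟩ := MulAction.exists_smul_eq ↥Cp T' T
    have hgx : (g : G) * (x * z * x⁻¹) * (g : G)⁻¹ = z := by
      have hmem : g * (⟨x * z * x⁻¹, hxz⟩ : ↥Cp) * g⁻¹ ∈ (T : Subgroup ↥Cp) := by
        rw [← hg]; exact ⟨_, hT' (mem_zpowers _), rfl⟩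
      rcases hTsub _ hmem with e | e
      · exfalso
        have e' : (g : G) * (x * z * x⁻¹) * (g : G)⁻¹ = 1 := congrArg Subtype.val e
        exact h.ne_one (by simpa using e')
      · exact e
    have hgxz : Commute ((g : G) * x) z := by
      refine mul_inv_eq_iff_eq_mul.mp ?_
      calc (g : G) * x * z * ((g : G) * x)⁻¹ = (g : G) * (x * z * x⁻¹) * (g : G)⁻¹ := by group
        _ = z := hgx
    have hgc : (g : G) * (x * c * x⁻¹) * (g : G)⁻¹ = x * c * x⁻¹ := by
      obtain ⟨j, hj⟩ := mem_zpowers_iff.mp hxc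
      rw [← hj]
      exact mul_inv_eq_iff_eq_mul.mpr ((mem_cz.mp g.2).zpow_right j).eq
    rcases d.five_inverts hc h5 hgxz (by
        rw [show (g : G) * x * c * ((g : G) * x)⁻¹ = (g : G) * (x * c * x⁻¹) * (g : G)⁻¹ by group, hgc]
        exact hxc) with e | e
    · left
      have : (g : G) * x ∈ Cp := mem_cz.mpr e
      exact (Cp.mul_mem_cancel_left g.2).mp this
    · right
      have hh : (g : G) * x * n ∈ Cp := by
        refine mem_cz.mpr (mul_inv_eq_iff_eq_mul.mp ?_)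
        calc (g : G) * x * n * c * ((g : G) * x * n)⁻¹ = (g : G) * x * (n * c * n⁻¹) * ((g : G) * x)⁻¹ := by group
          _ = c := by rw [hnc, ← conj_inv, e, inv_inv]
      rw [mul_assoc] at hh
      exact (Cp.mul_mem_cancel_left g.2).mp hh
  have hCpN : Cp ≤ N := fun x hx => mem_normalizer_iff.mpr fun w => by
    have hxz : ∀ u ∈ zpowers c, x * u * x⁻¹ = u := fun u hu => by
      obtain ⟨j, rfl⟩ := mem_zpowers_iff.mp hu
      exact mul_inv_eq_iff_eq_mul.mpr ((mem_cz.mp hx).zpow_right j).eq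
    refine ⟨fun hw => (hxz w hw).symm ▸ hw, fun hw => ?_⟩
    have := hxz _ hw
    have e : x * w * x⁻¹ = w := by simpa using this
    exact e ▸ hw
  have hnN : n ∈ N := mem_normalizer_iff.mpr fun w => by
    have hh : ∀ u ∈ zpowers c, n * u * n⁻¹ ∈ zpowers c := fun u hu => by
      obtain ⟨j, rfl⟩ := mem_zpowers_iff.mp hu
      rw [← conj_zpow, hnc]; exact zpow_mem (inv_mem (mem_zpowers c)) j
    refine ⟨hh w, fun hw => ?_⟩
    have := hh _ hw
    rwa [show n * (n * w * n⁻¹) * n⁻¹ = (n * n) * w * (n * n)⁻¹ by group, hn.2.1, one_mul, inv_one,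
      mul_one] at this
  have hnCp : n ∉ Cp := fun hh => by
    have e : n * c * n⁻¹ = c := mul_inv_eq_iff_eq_mul.mpr (mem_cz.mp hh).eq
    rw [hnc] at e
    have h2 : c ^ 2 = 1 := by rw [pow_two]; nth_rw 1 [← e]; exact inv_mul_cancel c
    have := orderOf_dvd_of_pow_eq_one h2
    rw [h5] at this; norm_num at this
  have hNcard : Nat.card N = 2 * Nat.card Cp := by
    have h2 : (Cp.subgroupOf N).index = 2 := by
      rw [Subgroup.index_eq_two_iff]
      refine ⟨⟨n, hnN⟩, fun x => ?_⟩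
      simp only [mem_subgroupOf, Subgroup.coe_mul]
      rcases hdec (x : G) x.2 with e | e
      · exact Or.inr ⟨e, fun hh => hnCp ((Cp.mul_mem_cancel_left e).mp hh)⟩
      · exact Or.inl ⟨e, fun hh => hnCp ((Cp.mul_mem_cancel_left hh).mp e)⟩
    have := (Cp.subgroupOf N).card_mul_index
    rw [h2, Nat.card_congr (subgroupOfEquivOfLe hCpN).toEquiv] at this
    omega
  let P5 : Sylow 5 G := Sylow.ofCard (zpowers c) (by
    rw [Nat.card_zpowers, h5, hG, show (51840 : ℕ) = 5 ^ 1 * 10368 by norm_num,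
      Nat.factorization_mul (by norm_num) (by norm_num), Finsupp.add_apply, Nat.factorization_pow,
      Finsupp.smul_apply, (by norm_num : Nat.Prime 5).factorization_self,
      Nat.factorization_eq_zero_of_not_dvd (by norm_num : ¬ 5 ∣ 10368)]
    norm_num)
  have hmod := card_sylow_modEq_one 5 G
  rw [P5.card_eq_index_normalizer] at hmod
  have hidx := N.card_mul_index
  rw [hNcard, hCpcard, hl, hG] at hidx
  have hP5 : ((P5 : Subgroup G) : Set G) = ((zpowers c : Subgroup G) : Set G) := rfl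
  change N.index ≡ 1 [MOD 5] at hmod
  generalize N.index = j at hidx hmod
  rw [Nat.ModEq] at hmod
  interval_cases a <;> omega

/-- A group of Hall–Janko type has order 604800, and `C(t) ≅ 2² × A₅`. -/
theorem main (d : Data z Q) {t : G} (ht : IsOut z Q t) :
    Nat.card G = 604800 ∧ ∃ v e U K, Split z t v e U K ∧ Nonempty (↥K ≃* AltFive.A5) := by
  obtain ⟨v, e, U, K, S⟩ := d.exists_split ht
  have hcard := S.card_centralizer
  rcases S.shape with ⟨⟨iso⟩⟩ | ⟨h12, hinv⟩
  · refine ⟨?_, v, e, U, K, S, ⟨iso⟩⟩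
    have hK : Nat.card K = 60 := by
      rw [Nat.card_congr iso.toEquiv, card_A5]
    rw [d.card_eq ht, d.card_pairs_t_five ht S iso, hcard, hK]
  · exfalso
    refine d.card_centralizer_ne ht ?_ (by rw [hcard, h12])
    rw [d.card_eq ht, d.card_pairs_t_small ht S hinv, hcard, h12]

theorem card (d : Data z Q) : Nat.card G = 604800 := by
  obtain ⟨t, ht⟩ := d.exists_isOut
  exact (d.main ht).1

end Data

end Cfsg.Agent.HJType
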