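import Cfsg.Agent.Lib.HJType.Frame

/-!
# Hall–Janko type: the involutions of `C(z)` and their centralisers in it

The involutions of `C(z)` conjugate to `z` are those of `Q`; the others form one class under
`C(z)`, and each has an elementary abelian centraliser of order 16 in `C(z)`.
-/

set_option autoImplicit false
set_option maxHeartbeats 400000

namespace Cfsg.Agent.HJType

open Subgroup
open Cfsg.Agent.LargeExtraspecial (Hub)

/-- `(0 1)(2 3)`. -/
abbrev p01 : Equiv.Perm (Fin 5) := Equiv.swap 0 1 * Equiv.swap 2 3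

/-- `(0 2)(1 3)`. -/
abbrev p02 : Equiv.Perm (Fin 5) := Equiv.swap 0 2 * Equiv.swap 1 3

theorem double_conj : ∀ π : Equiv.Perm (Fin 5), Equiv.Perm.sign π = 1 → π * π = 1 → π ≠ 1 →
    ∃ σ : Equiv.Perm (Fin 5), Equiv.Perm.sign σ = 1 ∧ σ⁻¹ * π * σ = p01 := by
  decide +kernel

theorem p01_centralizer : ∀ π : Equiv.Perm (Fin 5), Equiv.Perm.sign π = 1 → π * p01 = p01 * π →
    π = 1 ∨ π = p01 ∨ π = p02 ∨ π = p01 * p02 := by
  decide +kernel

theorem p02_facts : Equiv.Perm.sign p02 = 1 ∧ p02 * p02 = 1 ∧ p02 ≠ 1 ∧ p01 * p02 = p02 * p01 ∧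
    p01 ≠ p02 ∧ p01 * p02 ≠ 1 ∧ p01 * p02 ≠ p01 ∧ p01 * p02 ≠ p02 ∧ p01 ≠ 1 ∧ Equiv.Perm.sign p01 = 1 := by
  decide +kernel

variable {G : Type*} [Group G] {z : G} {Q : Subgroup G}

/-- The centraliser of `t` in `C(z)`. -/
abbrev cc (z t : G) : Subgroup G := centralizer ({z} : Set G) ⊓ centralizer ({t} : Set G)

theorem mem_cc {t a : G} : a ∈ cc z t ↔ Commute a z ∧ Commute a t :=
  and_congr mem_centralizer_singleton_iff mem_centralizer_singleton_iff

variable [Finite G]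

namespace Data

/-- A Sylow 2-subgroup of `C(z)` is one of `G`. -/
theorem exists_sylow_le (d : Data z Q) :
    ∃ T : Sylow 2 G, Nat.card (T : Subgroup G) = 128 ∧ Q ≤ T ∧ (T : Subgroup G) ≤ centralizer ({z} : Set G) := by
  have : Fact (Nat.Prime 2) := ⟨Nat.prime_two⟩
  set C := centralizer ({z} : Set G)
  have hQn : (Q.subgroupOf C).Normal := by
    obtain ⟨φ, -, hk⟩ := d.quot
    rw [← hk]; infer_instance
  have hQ2 : IsPGroup 2 ↥(Q.subgroupOf C) := IsPGroup.of_card (n := 5)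
    ((Nat.card_congr (subgroupOfEquivOfLe d.le).toEquiv).trans d.cardQ)
  let P : Sylow 2 ↥C := Classical.arbitrary _
  have hQP : Q.subgroupOf C ≤ P := by
    have := P.is_maximal' (hQ2.to_sup_of_normal_left P.2) le_sup_right
    exact this ▸ le_sup_left
  set T2 : Subgroup G := (P : Subgroup ↥C).map C.subtype
  have hT2C : T2 ≤ C := map_subtype_le _
  have hQT2 : Q ≤ T2 := fun q hq => ⟨⟨q, d.le hq⟩, hQP (mem_subgroupOf.mpr hq), rfl⟩
  have hT2card : Nat.card T2 = 128 := by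
    rw [show Nat.card T2 = Nat.card (P : Subgroup ↥C) from card_map_of_injective C.subtype_injective,
      P.card_eq_multiplicity, d.cardC]
    have h1 : (1920 : ℕ) = 2 ^ 7 * 15 := by norm_num
    rw [h1, Nat.factorization_mul (by norm_num) (by norm_num), Finsupp.add_apply,
      Nat.factorization_pow, Finsupp.smul_apply, Nat.prime_two.factorization_self,
      Nat.factorization_eq_zero_of_not_dvd (by norm_num : ¬ 2 ∣ 15)]
    rfl
  obtain ⟨T, hT⟩ := (IsPGroup.of_card (n := 7) hT2card : IsPGroup 2 ↥T2).exists_le_sylow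
  by_cases hlt : T2 = T
  · exact ⟨T, hlt ▸ hT2card, hlt ▸ hQT2, hlt ▸ hT2C⟩
  exfalso
  have hlt' : T2.subgroupOf T < ⊤ :=
    lt_top_iff_ne_top.mpr fun e => hlt (le_antisymm hT (subgroupOf_eq_top.mp e))
  have : Group.IsNilpotent ↥(T : Subgroup G) := T.2.isNilpotent
  obtain ⟨n, hn, hn'⟩ := SetLike.exists_of_lt (Group.normalizerCondition_of_isNilpotent _ hlt')
  have hnN : (n : G) ∈ normalizer (T2 : Set G) := mem_normalizer_iff.mpr fun x => by
    have h := mem_normalizer_iff.mp hn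
    constructor
    · exact fun hx => mem_subgroupOf.mp ((h ⟨x, hT hx⟩).mp (mem_subgroupOf.mpr hx))
    · intro hx
      have hxT : x ∈ (T : Subgroup G) := by
        have := mul_mem (mul_mem (inv_mem n.2) (hT hx)) n.2
        simpa [mul_assoc] using this
      exact mem_subgroupOf.mp ((h ⟨x, hxT⟩).mpr (mem_subgroupOf.mpr hx))
  have hc : Commute (n : G) z := by
    refine mul_inv_eq_iff_eq_mul.mp ((d.hub.self _ fun q hq => ?_).resolve_left
      fun e => d.hub.ne_one (by simpa using e))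
    have hq' : (n : G)⁻¹ * q * n ∈ T2 := by
      have := (mem_normalizer_iff.mp (inv_mem hnN) q).mp (hQT2 hq)
      simpa using this
    have hcom : Commute z ((n : G)⁻¹ * q * n) := (mem_cz.mp (hT2C hq')).symm
    have := hcom.map (MulAut.conj (n : G)).toMonoidHom
    simpa [mul_assoc] using this
  let N : Subgroup G := ((T2.subgroupOf T) ⊔ zpowers n).map (T : Subgroup G).subtype
  have hNC : N ≤ C := by
    rw [map_le_iff_le_comap, sup_le_iff, zpowers_le]
    exact ⟨fun x hx => hT2C (mem_subgroupOf.mp hx), mem_cz.mpr hc⟩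
  have hT2N : T2 ≤ N := fun x hx => ⟨⟨x, hT hx⟩, mem_sup_left (mem_subgroupOf.mpr hx), rfl⟩
  have hN2 : IsPGroup 2 ↥(N.subgroupOf C) :=
    (T.2.to_le (map_subtype_le _ : N ≤ T)).of_equiv (subgroupOfEquivOfLe hNC).symm
  have hPN : (P : Subgroup ↥C) ≤ N.subgroupOf C := fun x hx =>
    mem_subgroupOf.mpr (hT2N ⟨x, hx, rfl⟩)
  have hNP := P.is_maximal' hN2 hPN
  have hnP : (⟨(n : G), mem_cz.mpr hc⟩ : ↥C) ∈ (P : Subgroup ↥C) :=
    hNP ▸ mem_subgroupOf.mpr ⟨n, mem_sup_right (mem_zpowers n), rfl⟩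
  exact hn' (mem_subgroupOf.mpr ⟨_, hnP, rfl⟩)

theorem exists_conj_mem (d : Data z Q) {x : G} (hx : x * x = 1) :
    ∃ g : G, Commute (g * x * g⁻¹) z := by
  have : Fact (Nat.Prime 2) := ⟨Nat.prime_two⟩
  obtain ⟨T, -, -, hTC⟩ := d.exists_sylow_le
  have h2 : IsPGroup 2 ↥(zpowers x) := by
    rintro ⟨w, hw⟩
    obtain ⟨i, rfl⟩ := mem_zpowers_iff.mp hw
    refine ⟨1, Subtype.ext ?_⟩
    show (x ^ i) ^ 2 ^ 1 = 1
    rw [pow_one, ← zpow_natCast, ← zpow_mul, mul_comm, zpow_mul, zpow_natCast, pow_two, hx, one_zpow]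
  obtain ⟨S, hS⟩ := h2.exists_le_sylow
  obtain ⟨g, hg⟩ := MulAction.exists_smul_eq G S T
  refine ⟨g, mem_cz.mp (hTC ?_)⟩
  rw [← hg]
  exact ⟨x, hS (mem_zpowers x), rfl⟩

/-- `C(z)` is transitive on the noncentral involutions of `Q`. -/
theorem exists_conj_sing (d : Data z Q) {x y : G} (hx : Sing z Q x) (hy : Sing z Q y) :
    ∃ c : G, Commute c z ∧ c * x * c⁻¹ = y := by
  obtain ⟨F⟩ := d.exists_frame
  obtain ⟨i, e, rfl⟩ := F.sing _ hx
  obtain ⟨j, e', rfl⟩ := F.sing _ hy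
  have hσ : ∀ a b : Fin 5, ∃ σ : Equiv.Perm (Fin 5), Equiv.Perm.sign σ = 1 ∧ σ a = b := by
    decide +kernel
  obtain ⟨σ, hσ1, hσ⟩ := hσ i j
  obtain ⟨c, hc⟩ := F.surj σ hσ1
  obtain ⟨f, hf⟩ := F.act c i
  rw [hc, hσ] at hf
  have h1 : (c : G) * (F.s i * zp z e) * (c : G)⁻¹ = F.s j * zp z (xor f e) := by
    calc (c : G) * (F.s i * zp z e) * (c : G)⁻¹
        = ((c : G) * F.s i * (c : G)⁻¹) * ((c : G) * zp z e * (c : G)⁻¹) := by group
      _ = _ := by rw [hf, zp_conj (mem_cz.mp c.2), mul_assoc, zp_mul d.hub]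
  by_cases he : xor f e = e'
  · exact ⟨c, mem_cz.mp c.2, by rw [h1, he]⟩
  · obtain ⟨k, hk⟩ : ∃ k : Fin 5, j ≠ k := exists_ne j |>.imp fun _ hk => hk.symm
    refine ⟨F.s k * c, (F.commute_z d.hub k).mul_left (mem_cz.mp c.2), ?_⟩
    have hxor : xor true (xor f e) = e' := by
      revert he; cases xor f e <;> cases e' <;> simp
    calc F.s k * c * (F.s i * zp z e) * (F.s k * c)⁻¹
        = F.s k * ((c : G) * (F.s i * zp z e) * (c : G)⁻¹) * (F.s k)⁻¹ := by group
      _ = (F.s k * F.s j * (F.s k)⁻¹) * (F.s k * zp z (xor f e) * (F.s k)⁻¹) := by rw [h1]; group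
      _ = _ := by
        rw [F.fl_spec d.hub (F.mem k), F.fl_s d.hub, decide_eq_true hk,
          zp_conj (F.commute_z d.hub k), mul_assoc, zp_mul d.hub, hxor]

/-- Every noncentral involution of `Q` is conjugate to `z`. -/
theorem isConj_sing (d : Data z Q) {y : G} (hy : Sing z Q y) : IsConj z y := by
  obtain ⟨g, hgQ, hgz⟩ := d.out
  have hy0 : Sing z Q (g * z * g⁻¹) := by
    refine ⟨hgQ, ?_, fun e => d.hub.ne_one (by simpa using e), hgz⟩
    calc g * z * g⁻¹ * (g * z * g⁻¹) = g * (z * z) * g⁻¹ := by group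
      _ = 1 := by rw [d.hub.sq]; group
  obtain ⟨c, -, hc⟩ := d.exists_conj_sing hy0 hy
  exact isConj_iff.mpr ⟨c * g, by rw [← hc]; group⟩

theorem isConj_of_mem (d : Data z Q) {x : G} (hx : x ∈ Q) (hx2 : x * x = 1) (hx1 : x ≠ 1) :
    IsConj z x := by
  by_cases hxz : x = z
  · rw [hxz]
  · exact d.isConj_sing ⟨hx, hx2, hx1, hxz⟩

end Data

namespace Frame

variable (F : Frame z Q)

omit [Finite G] in
theorem act_eq {c : G} (hc : Commute c z) {i j : Fin 5} (hθ : F.θ ⟨c, mem_cz.mpr hc⟩ i = j) :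
    ∃ e, c * F.s i * c⁻¹ = F.s j * zp z e := hθ ▸ F.act ⟨c, mem_cz.mpr hc⟩ i

omit [Finite G] in
theorem act_back (h : Hub Q z) {c : G} (hc : Commute c z) (hcc : c * c = 1) {i j : Fin 5} {e : Bool}
    (he : c * F.s i * c⁻¹ = F.s j * zp z e) : c * F.s j * c⁻¹ = F.s i * zp z e := by
  have hj : F.s j = c * F.s i * c⁻¹ * zp z e := by
    rw [he, mul_assoc, zp_mul h]; simp
  rw [hj]
  have hci : c⁻¹ = c := inv_eq_of_mul_eq_one_right hcc
  calc c * (c * F.s i * c⁻¹ * zp z e) * c⁻¹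
      = (c * c) * F.s i * (c⁻¹ * c⁻¹) * (c * zp z e * c⁻¹) := by group
    _ = _ := by rw [zp_conj hc, hcc, hci, hcc]; group

end Frame

/-- An involution `t` of `C(z)` with a frame in which it is `(0 1)(2 3)`. -/
structure Outer (F : Frame z Q) (t : G) : Prop where
  comm : Commute t z
  sq : t * t = 1
  perm : F.θ ⟨t, mem_cz.mpr comm⟩ = p01

theorem Data.exists_outer (d : Data z Q) {t : G} (htz : Commute t z) (ht : t * t = 1) (htQ : t ∉ Q) :
    ∃ F : Frame z Q, Outer F t := by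
  obtain ⟨F⟩ := d.exists_frame
  obtain ⟨σ, -, hσ⟩ := double_conj (F.θ ⟨t, mem_cz.mpr htz⟩) (F.even _)
    (by
      rw [← map_mul]
      exact (congrArg F.θ (Subtype.ext ht : (⟨t, mem_cz.mpr htz⟩ : ↥(centralizer ({z} : Set G))) *
        ⟨t, mem_cz.mpr htz⟩ = 1)).trans (map_one _))
    (fun e => htQ ((F.ker _).mp e))
  exact ⟨F.reindex σ, htz, ht, by
    show σ⁻¹ * F.θ _ * σ⁻¹⁻¹ = p01
    rw [inv_inv]; exact hσ⟩

namespace Outer

variable {F : Frame z Q} {t : G}

omit [Finite G] in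
theorem inv_eq (o : Outer F t) : t⁻¹ = t := inv_eq_of_mul_eq_one_right o.sq

omit [Finite G] in
theorem not_mem (o : Outer F t) : t ∉ Q := fun h => by
  have := (F.ker ⟨t, mem_cz.mpr o.comm⟩).mpr h
  rw [o.perm] at this
  exact p02_facts.2.2.2.2.2.2.2.2.1 this

omit [Finite G] in
theorem ne_one (o : Outer F t) : t ≠ 1 := fun e => o.not_mem (e ▸ one_mem Q)

omit [Finite G] in
theorem swaps (o : Outer F t) (h : Hub Q z) : ∃ A B, t * F.s 0 * t⁻¹ = F.s 1 * zp z A ∧
    t * F.s 1 * t⁻¹ = F.s 0 * zp z A ∧ t * F.s 2 * t⁻¹ = F.s 3 * zp z B ∧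
    t * F.s 3 * t⁻¹ = F.s 2 * zp z B := by
  obtain ⟨A, hA⟩ := F.act_eq o.comm (i := 0) (j := 1) (by rw [o.perm]; decide)
  obtain ⟨B, hB⟩ := F.act_eq o.comm (i := 2) (j := 3) (by rw [o.perm]; decide)
  exact ⟨A, B, hA, F.act_back h o.comm o.sq hA, hB, F.act_back h o.comm o.sq hB⟩

omit [Finite G] in
theorem pair (o : Outer F t) (h : Hub Q z) :
    t * (F.s 0 * F.s 1) * t⁻¹ = F.s 0 * F.s 1 * z ∧
      t * (F.s 2 * F.s 3) * t⁻¹ = F.s 2 * F.s 3 * z := by
  obtain ⟨A, B, h0, h1, h2, h3⟩ := o.swaps h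
  constructor
  · calc t * (F.s 0 * F.s 1) * t⁻¹ = (t * F.s 0 * t⁻¹) * (t * F.s 1 * t⁻¹) := by group
      _ = F.s 1 * (zp z A * F.s 0) * zp z A := by rw [h0, h1]; group
      _ = (F.s 1 * F.s 0) * (zp z A * zp z A) := by
          rw [(zp_commute (F.commute_z h 0) A).eq.symm]; group
      _ = _ := by rw [zp_mul h, F.anti 0 1 (by decide)]; simp
  · calc t * (F.s 2 * F.s 3) * t⁻¹ = (t * F.s 2 * t⁻¹) * (t * F.s 3 * t⁻¹) := by group
      _ = F.s 3 * (zp z B * F.s 2) * zp z B := by rw [h2, h3]; group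
      _ = (F.s 3 * F.s 2) * (zp z B * zp z B) := by
          rw [(zp_commute (F.commute_z h 2) B).eq.symm]; group
      _ = _ := by rw [zp_mul h, F.anti 2 3 (by decide)]; simp

theorem four_eq (d : Data z Q) : ∃ e, F.s 4 = F.s 0 * F.s 1 * (F.s 2 * F.s 3) * zp z e := by
  have h := d.hub
  have hm : ∀ i j, F.s i * F.s j ∈ Q := fun i j => mul_mem (F.mem i) (F.mem j)
  refine F.eq_of_fl d (mul_mem (hm 0 1) (hm 2 3)) (F.mem 4) fun i => ?_
  rw [F.fl_mul h (hm 0 1) (hm 2 3), F.fl_mul h (F.mem 0) (F.mem 1), F.fl_mul h (F.mem 2) (F.mem 3),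
    F.fl_s h, F.fl_s h, F.fl_s h, F.fl_s h, F.fl_s h]
  revert i; decide

theorem commute_four (o : Outer F t) (d : Data z Q) : Commute t (F.s 4) := by
  obtain ⟨e, he⟩ := four_eq (F := F) d
  obtain ⟨h01, h23⟩ := o.pair d.hub
  refine mul_inv_eq_iff_eq_mul.mp ?_
  calc t * F.s 4 * t⁻¹
      = (t * (F.s 0 * F.s 1) * t⁻¹) * (t * (F.s 2 * F.s 3) * t⁻¹) * (t * zp z e * t⁻¹) := by
        rw [he]; group
    _ = F.s 0 * F.s 1 * (z * (F.s 2 * F.s 3)) * z * zp z e := by
        rw [h01, h23, zp_conj o.comm]; group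
    _ = F.s 0 * F.s 1 * (F.s 2 * F.s 3) * (z * z) * zp z e := by
        rw [((F.commute_z d.hub 2).mul_left (F.commute_z d.hub 3)).eq.symm]; group
    _ = _ := by rw [d.hub.sq, mul_one, he]

/-- Elements of `Q` sent by `t` to themselves or to their inverses. -/
theorem mem_cases (o : Outer F t) (d : Data z Q) {q : G} (hq : q ∈ Q)
    (hfix : t * q * t⁻¹ = q ∨ t * q * t⁻¹ = q⁻¹) :
    ∃ a b e, q = pw (F.s 0 * F.s 1) a * pw (F.s 2 * F.s 3) b * zp z e := by
  obtain ⟨a, e, rfl⟩ := F.exists_mon d hq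
  have hinv : ∀ i, Frame.pat a (p01 i) = Frame.pat a i := fun i => by
    have e1 := F.fl_conj ⟨t, mem_cz.mpr o.comm⟩ hq d.hub i
    rw [o.perm] at e1
    rw [← F.fl_mon d.hub a e i, ← F.fl_mon d.hub a e (p01 i)]
    rcases hfix with hf | hf
    · rwa [show ((⟨t, mem_cz.mpr o.comm⟩ : ↥(centralizer ({z} : Set G))) : G) = t from rfl, hf] at e1
    · rwa [show ((⟨t, mem_cz.mpr o.comm⟩ : ↥(centralizer ({z} : Set G))) : G) = t from rfl, hf,
        F.fl_inv d.hub hq] at e1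
  obtain ⟨h01, h23⟩ := Frame.pat_swap a fun i => hinv i
  refine ⟨a 0, a 2, e, ?_⟩
  rw [Frame.mon, ← h01, ← h23]
  cases a 0 <;> cases a 2 <;> simp [pw, mul_assoc]

/-- `C_Q(t) = {1, z, s₄, s₄z}`. -/
theorem centralizer_cases (o : Outer F t) (d : Data z Q) {q : G} (hq : q ∈ Q) (hc : Commute t q) :
    ∃ a e, q = pw (F.s 4) a * zp z e := by
  have hfix : t * q * t⁻¹ = q := mul_inv_eq_iff_eq_mul.mpr hc.eq
  obtain ⟨a, b, e, rfl⟩ := o.mem_cases d hq (Or.inl hfix)
  obtain ⟨f, hf⟩ := four_eq (F := F) d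
  obtain ⟨h01, h23⟩ := o.pair d.hub
  have hne : ∀ x : G, x * z ≠ x := fun x ex => d.hub.ne_one (by simpa using ex)
  cases a <;> cases b
  · exact ⟨false, e, by simp [pw]⟩
  · exfalso
    refine hne (F.s 2 * F.s 3) ?_
    have hx : t * (F.s 2 * F.s 3) * t⁻¹ = F.s 2 * F.s 3 := by
      have := hfix
      simp only [pw, cond_false, cond_true, one_mul] at this
      rw [← conj_mul, zp_conj o.comm] at this
      exact mul_right_cancel this
    rw [← h23, hx]
  · exfalso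
    refine hne (F.s 0 * F.s 1) ?_
    have hx : t * (F.s 0 * F.s 1) * t⁻¹ = F.s 0 * F.s 1 := by
      have := hfix
      simp only [pw, cond_false, cond_true, mul_one] at this
      rw [← conj_mul, zp_conj o.comm] at this
      exact mul_right_cancel this
    rw [← h01, hx]
  · refine ⟨true, xor f e, ?_⟩
    simp only [pw, cond_true]
    rw [hf, mul_assoc _ (zp z f), zp_mul d.hub]
    congr 2
    cases f <;> cases e <;> rfl

theorem card_inter (o : Outer F t) (d : Data z Q) :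
    Nat.card ↥(Q ⊓ centralizer ({t} : Set G)) = 4 := by
  have h := d.hub
  let f : Bool × Bool → ↥(Q ⊓ centralizer ({t} : Set G)) := fun p =>
    ⟨pw (F.s 4) p.1 * zp z p.2, mul_mem (F.pw_mem 4 _) (zp_mem h _), mem_centralizer_singleton_iff.mpr
      ((Commute.mul_right (by
        cases p.1
        exacts [Commute.one_right t, o.commute_four d]) (zp_commute o.comm p.2)).eq.symm)⟩
  have hb : Function.Bijective f := by
    refine ⟨?_, fun q => ?_⟩
    · rintro ⟨a, e⟩ ⟨b, e'⟩ hab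
      have hab' : pw (F.s 4) a * zp z e = pw (F.s 4) b * zp z e' := congrArg Subtype.val hab
      have h1 := congrArg (fun q => F.fl q 0) hab'
      simp only [F.fl_mul h (F.pw_mem 4 _) (zp_mem h _), F.fl_zp h] at h1
      have hab'' : a = b := by
        cases a <;> cases b <;> simp_all [pw, Frame.fl_one, Frame.fl_s]
      subst hab''
      exact Prod.ext rfl (zp_inj h (mul_left_cancel hab'))
    · obtain ⟨a, e, he⟩ := o.centralizer_cases d q.2.1 (mem_centralizer_singleton_iff.mp q.2.2).symm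
      exact ⟨(a, e), Subtype.ext he.symm⟩
  rw [← Nat.card_eq_of_bijective f hb, Nat.card_prod, Nat.card_eq_fintype_card, Fintype.card_bool]

/-- All involutions of the coset `tQ` are conjugate to `t` under `Q`. -/
theorem coset_conj (o : Outer F t) (d : Data z Q) {r : G} (hr : r ∈ Q) (hinv : t * r * t⁻¹ = r⁻¹) :
    ∃ q ∈ Q, q * t * q⁻¹ = t * r := by
  classical
  have : Fintype G := Fintype.ofFinite G
  have h := d.hub
  let Qs : Finset G := Finset.univ.filter fun q => q ∈ Q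
  let K : Finset G := Finset.univ.filter fun r => r ∈ Q ∧ t * r * t⁻¹ = r⁻¹
  let f : G → G := fun q => t * q * t⁻¹ * q⁻¹
  have hQs : Qs.card = 32 := by
    rw [← d.cardQ, Nat.card_eq_fintype_card]
    exact (Fintype.card_of_subtype Qs (fun x => by simp [Qs])).symm
  have hsub : Qs.image f ⊆ K := by
    intro x hx
    obtain ⟨q, hq, rfl⟩ := Finset.mem_image.mp hx
    simp only [Qs, Finset.mem_filter, Finset.mem_univ, true_and] at hq
    simp only [K, f, Finset.mem_filter, Finset.mem_univ, true_and]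
    refine ⟨mul_mem (h.normalizes t o.comm q hq) (inv_mem hq), ?_⟩
    calc t * (t * q * t⁻¹ * q⁻¹) * t⁻¹ = (t * t) * q * (t⁻¹ * (t * t)⁻¹ * t) * (t * q⁻¹ * t⁻¹) := by group
      _ = _ := by rw [o.sq]; group
  have hfib : Qs.card ≤ 4 * (Qs.image f).card := by
    refine Finset.card_le_mul_card_image_of_maps_to (fun q hq => Finset.mem_image_of_mem f hq) 4
      fun b hb => ?_
    obtain ⟨q0, hq0, rfl⟩ := Finset.mem_image.mp hb
    simp only [Qs, Finset.mem_filter, Finset.mem_univ, true_and] at hq0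
    calc _ ≤ (Finset.univ.filter fun q => q ∈ Q ⊓ centralizer ({t} : Set G)).card := by
          refine Finset.card_le_card_of_injOn (fun q => q0⁻¹ * q) (fun q hq => ?_)
            (fun a _ b _ e => mul_left_cancel e)
          simp only [Finset.coe_filter, Qs, Finset.mem_filter, Finset.mem_univ, true_and,
            Set.mem_setOf_eq, f] at hq ⊢
          obtain ⟨hqQ, hqf⟩ := hq
          refine Subgroup.mem_inf.mpr ⟨Q.mul_mem (Q.inv_mem hq0) hqQ,
            mem_centralizer_singleton_iff.mpr (Eq.symm ?_)⟩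
          refine mul_inv_eq_iff_eq_mul.mp ?_
          calc t * (q0⁻¹ * q) * t⁻¹ = (t * q0 * t⁻¹)⁻¹ * (t * q * t⁻¹) := by group
            _ = (t * q0 * t⁻¹)⁻¹ * ((t * q * t⁻¹ * q⁻¹) * q) := by group
            _ = _ := by rw [hqf]; group
      _ = 4 := by rw [← o.card_inter d, Nat.card_eq_fintype_card, Fintype.card_subtype]
  have hK : K.card ≤ 8 := by
    let g : (Bool × Bool) × Bool → G := fun p =>
      pw (F.s 0 * F.s 1) p.1.1 * pw (F.s 2 * F.s 3) p.1.2 * zp z p.2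
    calc K.card ≤ (Finset.univ.image g).card := Finset.card_le_card fun x hx => by
          simp only [K, Finset.mem_filter, Finset.mem_univ, true_and] at hx
          obtain ⟨a, b, e, he⟩ := o.mem_cases d hx.1 (Or.inr hx.2)
          exact Finset.mem_image.mpr ⟨((a, b), e), Finset.mem_univ _, he.symm⟩
      _ ≤ 8 := Finset.card_image_le.trans (le_of_eq (by decide))
  have heq : Qs.image f = K := Finset.eq_of_subset_of_card_le hsub (by omega)
  obtain ⟨q, hq, hqr⟩ := Finset.mem_image.mp (heq.symm ▸ (by simp [K, hr, hinv] : r ∈ K))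
  simp only [Qs, Finset.mem_filter, Finset.mem_univ, true_and] at hq
  refine ⟨q, hq, ?_⟩
  rw [← hqr]
  calc q * t * q⁻¹ = q * t * q⁻¹ := rfl
    _ = t * t * q * (t * (t * t)⁻¹) * q⁻¹ := by rw [o.sq]; group
    _ = _ := by simp only [f]; group

end Outer

namespace Data

/-- The involutions of `C(z)` outside `Q` are conjugate under `C(z)`. -/
theorem conj_outside (d : Data z Q) {t x : G} (htz : Commute t z) (ht : t * t = 1) (htQ : t ∉ Q)
    (hxz : Commute x z) (hx : x * x = 1) (hxQ : x ∉ Q) :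
    ∃ c : G, Commute c z ∧ c * x * c⁻¹ = t := by
  obtain ⟨F, o⟩ := d.exists_outer htz ht htQ
  set x' : ↥(centralizer ({z} : Set G)) := ⟨x, mem_cz.mpr hxz⟩
  have hx' : x' * x' = 1 := Subtype.ext hx
  obtain ⟨σ, hσ1, hσ⟩ := double_conj (F.θ x') (F.even _) (by rw [← map_mul, hx', map_one])
    (fun e => hxQ ((F.ker _).mp e))
  obtain ⟨c, hc⟩ := F.surj σ⁻¹ (by simp [hσ1])
  set t' : ↥(centralizer ({z} : Set G)) := ⟨t, mem_cz.mpr htz⟩
  have hmem : ((t' * (c * x' * c⁻¹) : ↥(centralizer ({z} : Set G))) : G) ∈ Q := by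
    rw [← F.ker, map_mul, map_mul, map_mul, map_inv, hc, inv_inv, o.perm, hσ]
    decide
  have hr : t * ((c : G) * x * (c : G)⁻¹) ∈ Q := hmem
  set w := (c : G) * x * (c : G)⁻¹
  have hw : w * w = 1 := by
    calc w * w = (c : G) * (x * x) * (c : G)⁻¹ := by simp only [w]; group
      _ = 1 := by rw [hx]; group
  obtain ⟨q, hq, hqw⟩ := o.coset_conj d hr (by
    rw [mul_inv_rev, inv_eq_of_mul_eq_one_right hw, o.inv_eq]
    calc t * (t * w) * t = (t * t) * w * t := by group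
      _ = w * t := by rw [o.sq, one_mul])
  rw [← mul_assoc, o.sq, one_mul] at hqw
  refine ⟨q⁻¹ * (c : G), (d.hub.central q hq).inv_left.mul_left (mem_cz.mp c.2), ?_⟩
  calc q⁻¹ * (c : G) * x * (q⁻¹ * (c : G))⁻¹ = q⁻¹ * w * q := by simp only [w]; group
    _ = t := by rw [← hqw]; group

/-- An involution of `C(z)` is conjugate to `z` iff it lies in `Q`. -/
theorem mem_iff_isConj (d : Data z Q) {x : G} (hxz : Commute x z) (hx : x * x = 1) (hx1 : x ≠ 1) :
    x ∈ Q ↔ IsConj z x := by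
  refine ⟨fun h => d.isConj_of_mem h hx hx1, fun hconj => ?_⟩
  by_contra hxQ
  obtain ⟨w, hw, hwz⟩ := d.two
  have hw2 : w * w = 1 := by rw [← pow_two, ← hw, pow_orderOf_eq_one]
  obtain ⟨g, hg⟩ := d.exists_conj_mem hw2
  have hg2 : g * w * g⁻¹ * (g * w * g⁻¹) = 1 := by
    calc g * w * g⁻¹ * (g * w * g⁻¹) = g * (w * w) * g⁻¹ := by group
      _ = 1 := by rw [hw2]; group
  have hg1 : g * w * g⁻¹ ≠ 1 := fun e => by
    have e' : w = 1 := by simpa using e
    rw [e', orderOf_one] at hw; omega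
  refine hwz (IsConj.trans ?_ (isConj_iff.mpr ⟨g, rfl⟩ : IsConj w (g * w * g⁻¹)).symm)
  by_cases hgQ : g * w * g⁻¹ ∈ Q
  · exact d.isConj_of_mem hgQ hg2 hg1
  · obtain ⟨c, -, hc⟩ := d.conj_outside hg hg2 hgQ hxz hx hxQ
    exact hconj.trans (isConj_iff.mpr ⟨c, hc⟩)

theorem not_isConj_outer (d : Data z Q) {F : Frame z Q} {t : G} (o : Outer F t) : ¬ IsConj z t :=
  fun e => o.not_mem ((d.mem_iff_isConj o.comm o.sq o.ne_one).mpr e)

/-- `z` lies in the extraspecial group of any of its conjugates in `Q`. -/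
theorem back_mem (d : Data z Q) {g : G} (hg : Sing z Q (g * z * g⁻¹)) :
    Sing z Q (g⁻¹ * z * g) := by
  obtain ⟨hQ, -, -, hne⟩ := hg
  have hc : Commute (g * z * g⁻¹) z := d.hub.central _ hQ
  have hc' : Commute (g⁻¹ * z * g) z := by
    have := hc.map (MulAut.conj g⁻¹).toMonoidHom
    simpa [mul_assoc] using this.symm
  have h2 : g⁻¹ * z * g * (g⁻¹ * z * g) = 1 := by
    calc g⁻¹ * z * g * (g⁻¹ * z * g) = g⁻¹ * (z * z) * g := by group
      _ = 1 := by rw [d.hub.sq]; group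
  have h1 : g⁻¹ * z * g ≠ 1 := fun e => d.hub.ne_one (by
    calc z = g * (g⁻¹ * z * g) * g⁻¹ := by group
      _ = 1 := by rw [e]; group)
  refine ⟨(d.mem_iff_isConj hc' h2 h1).mpr (isConj_iff.mpr ⟨g⁻¹, by simp⟩), h2, h1, fun e => hne ?_⟩
  calc g * z * g⁻¹ = g * (g⁻¹ * z * g) * g⁻¹ := by rw [e]
    _ = z := by group

end Data

end Cfsg.Agent.HJType
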