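import Cfsg.Prelude.Def_Local
import Cfsg.Prelude.Def_Transfer
import Cfsg.Agent.Lib.LargeExtraspecial.Setting

/-!
# Groups of Hall–Janko type: the extraspecial group `Q = 2^{1+4}` and its five singular pairs

`Data z Q`: `Q = F*(C(z))` of order 32, `C(z)/Q ≅ A₅`, `z` not weakly closed, two classes.
`Data.exists_frame`: representatives `s i` (`i : Fin 5`) of the five pairs of noncentral
involutions of `Q`, permuted as `A₅` by `C(z)`.
-/

set_option autoImplicit false
set_option maxHeartbeats 400000

namespace Cfsg.Agent.HJType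

open Subgroup
open Cfsg.Agent.LargeExtraspecial (Hub)

variable {G : Type*} [Group G] {z : G} {Q : Subgroup G}

/-- The hypotheses of Hall–Janko type in the ambient group. -/
structure Data (z : G) (Q : Subgroup G) : Prop where
  hub : Hub Q z
  le : Q ≤ centralizer ({z} : Set G)
  cardQ : Nat.card Q = 32
  cardC : Nat.card (centralizer ({z} : Set G)) = 1920
  quot : ∃ φ : ↥(centralizer ({z} : Set G)) →* alternatingGroup (Fin 5),
    Function.Surjective φ ∧ φ.ker = Q.subgroupOf (centralizer ({z} : Set G))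
  out : ∃ g : G, g * z * g⁻¹ ∈ Q ∧ g * z * g⁻¹ ≠ z
  two : ∃ x : G, orderOf x = 2 ∧ ¬ IsConj z x

/-- A noncentral involution of `Q`. -/
def Sing (z : G) (Q : Subgroup G) (q : G) : Prop := q ∈ Q ∧ q * q = 1 ∧ q ≠ 1 ∧ q ≠ z

theorem mem_cz {c : G} : c ∈ centralizer ({z} : Set G) ↔ Commute c z :=
  mem_centralizer_singleton_iff

theorem Sing.mul_z (h : Hub Q z) {q : G} (hq : Sing z Q q) : Sing z Q (q * z) := by
  obtain ⟨h1, h2, h3, h4⟩ := hq
  refine ⟨mul_mem h1 h.mem, ?_, fun e => h4 ?_, fun e => h3 (by simpa using e)⟩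
  · rw [mul_assoc q z, ← mul_assoc z, ← (h.central q h1).eq, mul_assoc q z z, h.sq, mul_one, h2]
  · calc q = q * z * z := by rw [mul_assoc, h.sq, mul_one]
      _ = z := by rw [e, one_mul]

theorem Sing.conj (h : Hub Q z) {q c : G} (hc : Commute c z) (hq : Sing z Q q) :
    Sing z Q (c * q * c⁻¹) := by
  obtain ⟨h1, h2, h3, h4⟩ := hq
  refine ⟨h.normalizes c hc q h1, ?_, fun e => h3 ?_, fun e => h4 ?_⟩
  · calc c * q * c⁻¹ * (c * q * c⁻¹) = c * (q * q) * c⁻¹ := by group
      _ = 1 := by rw [h2]; group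
  · calc q = c⁻¹ * (c * q * c⁻¹) * c := by group
      _ = 1 := by rw [e]; group
  · calc q = c⁻¹ * (c * q * c⁻¹) * c := by group
      _ = z := by rw [e, mul_assoc, ← hc.eq, inv_mul_cancel_left]

variable [Finite G]

namespace Data

theorem exists_five (d : Data z Q) : ∃ c : G, Commute c z ∧ orderOf c = 5 := by
  have : Fact (Nat.Prime 5) := ⟨by norm_num⟩
  obtain ⟨c, hc⟩ := exists_prime_orderOf_dvd_card' (G := ↥(centralizer ({z} : Set G))) 5
    (by rw [d.cardC]; norm_num)
  exact ⟨c, mem_cz.mp c.2, by rw [Subgroup.orderOf_coe, hc]⟩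

theorem conj_fixed_modEq {p : ℕ} [Fact p.Prime] (n : ℕ) (T : Set G) {c : G}
    (hT : ∀ x ∈ T, c * x * c⁻¹ ∈ T) (hc : c ^ p ^ n = 1) :
    Nat.card T ≡ Nat.card {x : G | x ∈ T ∧ Commute c x} [MOD p] := by
  classical
  have : Fintype G := Fintype.ofFinite G
  let f : Function.End T := fun x => ⟨c * x * c⁻¹, hT x x.2⟩
  have hf : ∀ (n : ℕ) (x : T), (((f ^ n : Function.End T) x : T) : G) = c ^ n * x * (c ^ n)⁻¹ := by
    intro n
    induction n with
    | zero => intro x; simp [Function.End.one_def]
    | succ m ih =>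
      intro x
      rw [pow_succ' f]
      show c * (((f ^ m : Function.End T) x : T) : G) * c⁻¹ = _
      rw [ih]; group
  have h := Equiv.Perm.card_fixedPoints_modEq (α := T) (p := p) (n := n) (f := f)
    (funext fun x => Subtype.ext (by rw [hf, hc]; simp [Function.End.one_def]))
  refine (Nat.ModEq.trans (by rw [Nat.card_eq_fintype_card]) h).trans ?_
  refine (congrArg (· % p) (?_ : _ = Nat.card _) : _)
  rw [← Nat.card_eq_fintype_card]
  refine Nat.card_congr ⟨fun x => ⟨x.1.1, x.1.2, ?_⟩, fun x => ⟨⟨x.1, x.2.1⟩, ?_⟩,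
    fun x => rfl, fun x => rfl⟩
  · exact mul_inv_eq_iff_eq_mul.mp (congrArg Subtype.val x.2)
  · exact Subtype.ext (mul_inv_eq_iff_eq_mul.mpr x.2.2)

/-- An element of order 5 of `C(z)` only centralises `⟨z⟩` in `Q`. -/
theorem five_fixed (d : Data z Q) {c : G} (hc : Commute c z) (h5 : orderOf c = 5) {q : G}
    (hq : q ∈ Q) (hcq : Commute c q) : q = 1 ∨ q = z := by
  have : Fact (Nat.Prime 5) := ⟨by norm_num⟩
  have h := conj_fixed_modEq (p := 5) 1 (Q : Set G) (fun x hx => d.hub.normalizes c hc x hx)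
    (by rw [pow_one]; exact h5 ▸ pow_orderOf_eq_one c)
  set D : Subgroup G := Q ⊓ centralizer ({c} : Set G)
  have hset : ({x : G | x ∈ (Q : Set G) ∧ Commute c x} : Set G) = (D : Set G) := by
    ext x
    exact and_congr Iff.rfl (mem_centralizer_singleton_iff.trans ⟨fun e => e.symm, fun e => e.symm⟩).symm
  have hmod : Nat.card D ≡ 32 [MOD 5] := by
    rw [hset, SetLike.coe_sort_coe, SetLike.coe_sort_coe, d.cardQ] at h
    exact h.symm
  have hdvd : Nat.card D ∣ 32 := d.cardQ ▸ card_dvd_of_le inf_le_left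
  obtain ⟨k, hk, hk'⟩ := (Nat.dvd_prime_pow (m := 5) Nat.prime_two).mp (show Nat.card D ∣ 2 ^ 5 from hdvd)
  have hcases : Nat.card D = 2 ∨ Nat.card D = 32 := by
    rw [hk'] at hmod ⊢
    revert hmod; interval_cases k <;> decide
  rcases hcases with e | e
  · have hz : z ∈ D := ⟨d.hub.mem, mem_centralizer_singleton_iff.mpr hc.eq.symm⟩
    obtain ⟨u, v, huv, hall⟩ := Nat.card_eq_two_iff.mp e
    have hmemD : q ∈ D := ⟨hq, mem_centralizer_singleton_iff.mpr hcq.eq.symm⟩
    by_contra hcon
    push Not at hcon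
    have a : ∀ x : ↥D, x = u ∨ x = v := fun x => by simpa using (hall ▸ Set.mem_univ x : x ∈ ({u, v} : Set ↥D))
    rcases a ⟨q, hmemD⟩ with a1 | a1 <;> rcases a ⟨z, hz⟩ with a2 | a2 <;> rcases a 1 with a3 | a3
    all_goals first
      | exact hcon.2 (congrArg Subtype.val (a1.trans a2.symm))
      | exact hcon.1 (congrArg Subtype.val (a1.trans a3.symm))
      | exact d.hub.ne_one (congrArg Subtype.val (a2.trans a3.symm))
  · exfalso
    have hDQ : D = Q := eq_of_le_of_card_ge inf_le_left (by rw [e, d.cardQ])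
    rcases d.hub.self c (fun x hx => (mem_centralizer_singleton_iff.mp (hDQ ▸ hx : x ∈ D).2).symm)
      with e' | e'
    · rw [e', orderOf_one] at h5; omega
    · have : orderOf z = 2 :=
        orderOf_eq_prime (by rw [pow_two]; exact d.hub.sq) d.hub.ne_one
      rw [e'] at h5; omega

theorem four_subgroup_card (d : Data z Q) {y : G} (hy : Sing z Q y) :
    Nat.card (closure ({z, y} : Set G) : Subgroup G) = 4 := by
  classical
  obtain ⟨hyQ, hy2, hy1, hyz⟩ := hy
  have hzy : Commute z y := (d.hub.central y hyQ).symm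
  have hset : ((closure ({z, y} : Set G) : Subgroup G) : Set G) = ↑({1, z, y, z * y} : Finset G) := by
    ext x
    simp only [Finset.coe_insert, Finset.coe_singleton, Set.mem_insert_iff, Set.mem_singleton_iff,
      SetLike.mem_coe]
    refine ⟨LargeExtraspecial.mem_four d.hub.sq hy2 hzy, ?_⟩
    have mz : z ∈ (closure ({z, y} : Set G) : Subgroup G) := subset_closure (Set.mem_insert _ _)
    have my : y ∈ (closure ({z, y} : Set G) : Subgroup G) :=
      subset_closure (Set.mem_insert_of_mem _ rfl)
    rintro (rfl | rfl | rfl | rfl)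
    exacts [one_mem _, mz, my, mul_mem mz my]
  rw [← SetLike.coe_sort_coe, hset, Nat.card_coe_set_eq, Set.ncard_coe_finset]
  have e1 : z * y ≠ 1 := fun e => hyz (by
    calc y = z * (z * y) := by rw [← mul_assoc, d.hub.sq, one_mul]
      _ = z := by rw [e, mul_one])
  rw [Finset.card_insert_of_notMem (by simp [d.hub.ne_one.symm, hy1.symm, e1.symm]),
    Finset.card_insert_of_notMem (by simp [hyz.symm, hy1]),
    Finset.card_pair (by simp [d.hub.ne_one])]

theorem exists_sing (d : Data z Q) : ∃ y, Sing z Q y := by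
  obtain ⟨g, hgQ, hgz⟩ := d.out
  refine ⟨g * z * g⁻¹, hgQ, ?_, fun e => d.hub.ne_one (by simpa using e), hgz⟩
  calc g * z * g⁻¹ * (g * z * g⁻¹) = g * (z * z) * g⁻¹ := by group
    _ = 1 := by rw [d.hub.sq]; group

/-- There are ten noncentral involutions in `Q`, and commuting ones differ by `z`. -/
theorem card_sing (d : Data z Q) :
    Nat.card {q // Sing z Q q} = 10 ∧
      ∀ a b, Sing z Q a → Sing z Q b → Commute a b → b = a ∨ b = a * z := by
  classical
  have : Fintype G := Fintype.ofFinite G
  have h := d.hub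
  -- the number is a multiple of five
  obtain ⟨c, hc, h5⟩ := d.exists_five
  have hdiv : 5 ∣ Nat.card {q // Sing z Q q} := by
    have : Fact (Nat.Prime 5) := ⟨by norm_num⟩
    have hm := conj_fixed_modEq (p := 5) 1 {q | Sing z Q q} (fun x hx => hx.conj h hc)
      (by rw [pow_one]; exact h5 ▸ pow_orderOf_eq_one c)
    have h0 : {x : G | x ∈ {q | Sing z Q q} ∧ Commute c x} = ∅ := by
      refine Set.eq_empty_of_forall_notMem fun x hx => ?_
      rcases d.five_fixed hc h5 hx.1.1 hx.2 with e' | e'
      exacts [hx.1.2.2.1 e', hx.1.2.2.2 e']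
    rw [h0] at hm
    refine Nat.modEq_zero_iff_dvd.mp (Nat.ModEq.trans (b := Nat.card {q | Sing z Q q}) (by rfl) ?_)
    exact hm.trans (by simp [Nat.ModEq])
  -- the count relative to one of them
  have key : ∀ y, Sing z Q y → ∃ k, Nat.card {q // Sing z Q q} = 10 + 4 * k ∧ k ≤ 3 ∧
      (k = 0 → ∀ b, Sing z Q b → Commute y b → b = y ∨ b = y * z) := by
    intro y hy
    obtain ⟨hyQ, hy2, hy1, hyz⟩ := hy
    obtain ⟨p, hp, hpy⟩ := h.exists_not_commute hy1 hyz
    set P : Subgroup G := Q ⊓ centralizer ({y} : Set G)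
    have hP : ∀ {x : G}, x ∈ P ↔ x ∈ Q ∧ Commute x y := fun {x} =>
      and_congr Iff.rfl mem_centralizer_singleton_iff
    have hanti : ∀ x ∈ Q, ¬ Commute x y → x * y * x⁻¹ = y * z := fun x hx hxy =>
      (h.comm x hx y hyQ).resolve_left fun e => hxy (mul_inv_eq_iff_eq_mul.mp e)
    have hshift : ∀ x ∈ Q, ¬ Commute x y → p⁻¹ * x ∈ P := by
      intro x hx hxy
      refine hP.mpr ⟨mul_mem (inv_mem hp) hx, mul_inv_eq_iff_eq_mul.mp ?_⟩
      calc p⁻¹ * x * y * (p⁻¹ * x)⁻¹ = p⁻¹ * (x * y * x⁻¹) * p := by group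
        _ = p⁻¹ * (p * y * p⁻¹) * p := by rw [hanti x hx hxy, hanti p hp (fun e => hpy e.symm)]
        _ = y := by group
    let U : Finset G := Finset.univ.filter fun q => Sing z Q q
    have hU : Nat.card {q // Sing z Q q} = U.card := by
      rw [Nat.card_eq_fintype_card, Fintype.card_subtype]
    let I : Set G := {x | x ∈ P ∧ x * x = 1}
    let Qs : Finset G := Finset.univ.filter fun q => q ∈ Q
    let Ps : Finset G := Qs.filter fun q => Commute q y
    let Os : Finset G := Qs.filter fun q => ¬ Commute q y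
    have hQs : Qs.card = 32 := by
      rw [← d.cardQ, Nat.card_eq_fintype_card]
      exact (Fintype.card_of_subtype Qs (fun x => by simp [Qs])).symm
    have hPO : Ps.card + Os.card = 32 := by
      rw [← hQs]; exact Finset.card_filter_add_card_filter_not (s := Qs) (fun q => Commute q y)
    have hp' : ¬ Commute p y := fun e => hpy e.symm
    have hPOeq : Ps.card = Os.card := by
      refine Finset.card_bij (fun x _ => p * x) ?_ (fun a _ b _ e => mul_left_cancel e) ?_
      · intro x hx
        simp only [Ps, Os, Qs, Finset.mem_filter, Finset.mem_univ, true_and] at hx ⊢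
        refine ⟨mul_mem hp hx.1, fun e => hp' ?_⟩
        have := e.mul_left hx.2.inv_left
        simpa [mul_assoc] using this
      · intro x hx
        simp only [Os, Qs, Finset.mem_filter, Finset.mem_univ, true_and] at hx
        refine ⟨p⁻¹ * x, ?_, mul_inv_cancel_left p x⟩
        have := hP.mp (hshift x hx.1 hx.2)
        simpa [Ps, Qs] using this
    -- outside: exactly half
    have hsq : ∀ x ∈ Q, ¬ Commute x y → x * y * (x * y) = x * x * z := by
      intro x hx hxy
      have e : y * x = x * y * z := by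
        have e1 := hanti x hx hxy
        calc y * x = (y * z) * x * z := by
              rw [mul_assoc y z x, ← (h.central x hx).eq, mul_assoc, mul_assoc x, h.sq, mul_one]
          _ = _ := by rw [← e1]; group
      calc x * y * (x * y) = x * (y * x) * y := by group
        _ = x * x * (y * (z * y)) := by rw [e]; group
        _ = x * x * z := by rw [← (h.central y hyQ).eq, ← mul_assoc y, hy2, one_mul]
    let O1 : Finset G := Os.filter fun q => q * q = 1
    have hO1 : O1.card = 8 := by
      let O2 : Finset G := Os.filter fun q => ¬ q * q = 1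
      have hsum : O1.card + O2.card = Os.card :=
        Finset.card_filter_add_card_filter_not (s := Os) (fun q => q * q = 1)
      have hmemO : ∀ x ∈ Os, x * y ∈ Os := by
        intro x hx
        simp only [Os, Qs, Finset.mem_filter, Finset.mem_univ, true_and] at hx ⊢
        refine ⟨mul_mem hx.1 hyQ, fun e => hx.2 ?_⟩
        simpa using e.mul_left (Commute.refl y).inv_left
      have heq : O1.card = O2.card := by
        refine Finset.card_bij (fun x _ => x * y) ?_ (fun a _ b _ e => mul_right_cancel e) ?_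
        · intro x hx
          simp only [O1, Finset.mem_filter] at hx
          simp only [O2, Finset.mem_filter]
          refine ⟨hmemO x hx.1, ?_⟩
          have hx' : x ∈ Q ∧ ¬ Commute x y := by simpa [Os, Qs] using hx.1
          rw [hsq x hx'.1 hx'.2, hx.2, one_mul]; exact h.ne_one
        · intro x hx
          simp only [O2, Finset.mem_filter] at hx
          refine ⟨x * y, ?_, by rw [mul_assoc, hy2, mul_one]⟩
          simp only [O1, Finset.mem_filter]
          have hx' : x ∈ Q ∧ ¬ Commute x y := by simpa [Os, Qs] using hx.1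
          refine ⟨hmemO x hx.1, ?_⟩
          rw [hsq x hx'.1 hx'.2, (h.sq_cases x hx'.1).resolve_left hx.2, h.sq]
      omega
    -- inside: a union of cosets of the four-group
    let V : Subgroup G := closure ({z, y} : Set G)
    have hV4 : Nat.card V = 4 := d.four_subgroup_card ⟨hyQ, hy2, hy1, hyz⟩
    have hVP : ∀ v ∈ V, v ∈ P ∧ v * v = 1 ∧ ∀ x ∈ P, Commute x v := by
      intro v hv
      have czy := (h.central y hyQ).symm
      rcases LargeExtraspecial.mem_four h.sq hy2 czy hv with rfl | rfl | rfl | rfl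
      · exact ⟨one_mem _, one_mul 1, fun x _ => Commute.one_right x⟩
      · exact ⟨hP.mpr ⟨h.mem, czy⟩, h.sq, fun x hx => h.central x (hP.mp hx).1⟩
      · exact ⟨hP.mpr ⟨hyQ, Commute.refl _⟩, hy2, fun x hx => (hP.mp hx).2⟩
      · refine ⟨hP.mpr ⟨mul_mem h.mem hyQ, czy.mul_left (Commute.refl _)⟩, ?_,
          fun x hx => (h.central x (hP.mp hx).1).mul_right (hP.mp hx).2⟩
        rw [mul_assoc, ← mul_assoc y z, ← czy.eq, mul_assoc z y, hy2, mul_one, h.sq]
    have hI : (QuotientGroup.mk : G → G ⧸ V) ⁻¹' ((QuotientGroup.mk : G → G ⧸ V) '' I) = I := by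
      refine Set.Subset.antisymm ?_ (Set.subset_preimage_image _ _)
      rintro x ⟨w, hw, e⟩
      obtain ⟨v, hv, rfl⟩ : ∃ v ∈ V, x = w * v := ⟨w⁻¹ * x, QuotientGroup.eq.mp e, by group⟩
      obtain ⟨hvP, hv2, hvc⟩ := hVP v hv
      refine ⟨mul_mem hw.1 hvP, ?_⟩
      rw [mul_assoc, ← mul_assoc v, ← (hvc w hw.1).eq, mul_assoc w v, hv2, mul_one, hw.2]
    have hI4 : 4 ∣ Nat.card I := by
      have e := Nat.card_congr (QuotientGroup.preimageMkEquivSubgroupProdSet V
        ((QuotientGroup.mk : G → G ⧸ V) '' I))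
      rw [Nat.card_prod, hV4, hI] at e
      exact e ▸ dvd_mul_right 4 _
    have hVI : (V : Set G) ⊆ I := fun v hv => ⟨(hVP v hv).1, (hVP v hv).2.1⟩
    have hIle : Nat.card I ≤ 16 := by
      have : Nat.card I ≤ Ps.card := by
        rw [← Nat.card_eq_finsetCard]
        exact Nat.card_le_card_of_injective
          (fun x => ⟨x.1, by simpa [Ps, Qs] using hP.mp x.2.1⟩)
          fun a b e => Subtype.ext (congrArg (fun u : ↥Ps => (u : G)) e)
      omega
    -- assemble
    let T : Finset G := U.filter fun q => Commute q y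
    have hUT : U.card = T.card + O1.card := by
      rw [← Finset.card_filter_add_card_filter_not (s := U) (fun q => Commute q y)]
      congr 1
      refine congrArg _ (Finset.ext fun x => ?_)
      simp only [U, O1, Os, Qs, Finset.mem_filter, Finset.mem_univ, true_and]
      show (Sing z Q x ∧ _) ↔ _
      unfold Sing
      constructor
      · rintro ⟨⟨a, b, -, -⟩, e⟩; exact ⟨⟨a, e⟩, b⟩
      · rintro ⟨⟨a, e⟩, b⟩
        refine ⟨⟨a, b, fun e' => e (e' ▸ Commute.one_left y), fun e' => e ?_⟩, e⟩
        rw [e']; exact (h.central y hyQ).symm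
    have hIT : Nat.card I = T.card + 2 := by
      have hIs : I = ↑(insert 1 (insert z T)) := by
        ext x
        simp only [I, Set.mem_setOf_eq, Finset.coe_insert, Set.mem_insert_iff, Finset.mem_coe,
          T, U, Finset.mem_filter, Finset.mem_univ, true_and, hP]
        constructor
        · rintro ⟨⟨a, b⟩, e⟩
          by_cases h1 : x = 1
          · exact Or.inl h1
          by_cases h2 : x = z
          · exact Or.inr (Or.inl h2)
          exact Or.inr (Or.inr ⟨⟨a, e, h1, h2⟩, b⟩)
        · rintro (rfl | rfl | ⟨⟨a, e, -, -⟩, b⟩)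
          · exact ⟨⟨one_mem _, Commute.one_left y⟩, one_mul 1⟩
          · exact ⟨⟨h.mem, (h.central y hyQ).symm⟩, h.sq⟩
          · exact ⟨⟨a, b⟩, e⟩
      rw [Nat.card_coe_set_eq, hIs, Set.ncard_coe_finset,
        Finset.card_insert_of_notMem (by
          simp only [Finset.mem_insert, T, U, Finset.mem_filter, Finset.mem_univ, true_and]
          rintro (e | ⟨e, -⟩)
          exacts [h.ne_one e.symm, e.2.2.1 rfl]),
        Finset.card_insert_of_notMem (by
          simp only [T, U, Finset.mem_filter, Finset.mem_univ, true_and]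
          rintro ⟨e, -⟩
          exact e.2.2.2 rfl)]
    obtain ⟨m, hm⟩ := hI4
    have hm1 : 4 ≤ Nat.card I := hV4 ▸ Nat.card_mono (Set.toFinite _) hVI
    refine ⟨m - 1, by omega, by omega, fun hk b hb hyb => ?_⟩
    have hIV : (V : Set G) = I := Set.eq_of_subset_of_ncard_le hVI (by
      rw [← Nat.card_coe_set_eq, ← Nat.card_coe_set_eq, SetLike.coe_sort_coe, hV4]; omega)
        (Set.toFinite _)
    have hbI : b ∈ I := ⟨hP.mpr ⟨hb.1, hyb.symm⟩, hb.2.1⟩
    rw [← hIV] at hbI
    rcases LargeExtraspecial.mem_four h.sq hy2 (h.central y hyQ).symm hbI with e | e | e | e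
    · exact absurd e hb.2.2.1
    · exact absurd e hb.2.2.2
    · exact Or.inl e
    · exact Or.inr (by rw [e, (h.central y hyQ).eq])
  obtain ⟨y, hy⟩ := d.exists_sing
  obtain ⟨k, hk, hk3, -⟩ := key y hy
  have hk0 : k = 0 := by
    rw [hk] at hdiv
    omega
  refine ⟨by omega, fun a b ha hb hab => ?_⟩
  obtain ⟨k', hk', -, hd⟩ := key a ha
  exact hd (by omega) b hb hab

end Data

end Cfsg.Agent.HJType
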