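import Cfsg.Agent.Lib.HJType.Mover
import Cfsg.Agent.Lib.HJType.AltFive
import Cfsg.Agent.Lib.Transfer.Burnside
import Cfsg.Agent.Lib.BSW.FourCent

/-!
# Hall–Janko type: the centraliser of an involution not conjugate to `z`

`C(t) = U × K` with `U` a four-group and `K` isomorphic to `A₅` or of order 12, the involutions
conjugate to `z` being those of `K`.
-/

set_option autoImplicit false
set_option maxHeartbeats 400000

namespace Cfsg.Agent.HJType

open Subgroup
open scoped commutatorElement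

variable {G : Type*} [Group G] {z : G} {Q : Subgroup G}

/-- `C(t) = U × K`. -/
structure Split (z t v e : G) (U K : Subgroup G) : Prop where
  cardU : Nat.card U = 4
  sqU : ∀ u ∈ U, u * u = 1
  t_mem : t ∈ U
  mem_of_U : ∀ u ∈ U, Commute u t
  mem_of_K : ∀ y ∈ K, Commute y t
  commute : ∀ u ∈ U, ∀ y ∈ K, Commute u y
  inter : ∀ x, x ∈ U → x ∈ K → x = 1
  prod : ∀ x, Commute x t → ∃ u ∈ U, ∃ y ∈ K, x = u * y
  z_mem : z ∈ K
  v_mem : v ∈ K
  v_sq : v * v = 1
  v_ne : v ≠ z
  v_ne_one : v ≠ 1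
  zv : Commute z v
  e_mem : e ∈ K
  e_three : e * (e * e) = 1
  cyc₁ : e * z * e⁻¹ = v
  cyc₂ : e * v * e⁻¹ = z * v
  cent : ∀ y ∈ K, Commute y z → y = 1 ∨ y = z ∨ y = v ∨ y = z * v
  invK : ∀ y ∈ K, y * y = 1 → y ≠ 1 → IsConj z y
  classX : ∀ x, Commute x t → x * x = 1 → x ≠ 1 → IsConj z x → x ∈ K
  shape : Nonempty (↥K ≃* AltFive.A5) ∨ Nat.card K = 12 ∧
    ∀ y ∈ K, y * y = 1 → y = 1 ∨ y = z ∨ y = v ∨ y = z * v

namespace Split

variable {t v e : G} {U K : Subgroup G}

theorem decomp_unique (S : Split z t v e U K) {u u' y y' : G} (hu : u ∈ U) (hu' : u' ∈ U)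
    (hy : y ∈ K) (hy' : y' ∈ K) (h : u * y = u' * y') : u = u' ∧ y = y' := by
  have hh : u'⁻¹ * u = y' * y⁻¹ := by
    calc u'⁻¹ * u = u'⁻¹ * (u * y) * y⁻¹ := by group
      _ = _ := by rw [h]; group
  have e1 := S.inter _ (mul_mem (inv_mem hu') hu) (hh ▸ mul_mem hy' (inv_mem hy))
  have e2 : u = u' := (inv_mul_eq_one.mp e1).symm
  exact ⟨e2, by rw [e2] at h; exact mul_left_cancel h⟩

/-- `U × K ≅ C(t)`. -/
theorem nonempty_mulEquiv (S : Split z t v e U K) :
    Nonempty (↥(centralizer ({t} : Set G)) ≃* ↥U × ↥K) := by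
  let f : ↥U × ↥K →* ↥(centralizer ({t} : Set G)) :=
    { toFun := fun p => ⟨(p.1 : G) * p.2, mem_cz.mpr ((S.mem_of_U _ p.1.2).mul_left (S.mem_of_K _ p.2.2))⟩
      map_one' := Subtype.ext (by simp)
      map_mul' := fun p q => Subtype.ext (by
        show ((p.1 : G) * q.1) * ((p.2 : G) * q.2) = (p.1 : G) * p.2 * ((q.1 : G) * q.2)
        rw [(S.commute _ q.1.2 _ p.2.2).mul_mul_mul_comm]) }
  refine ⟨(MulEquiv.ofBijective f ⟨fun p q h => ?_, fun x => ?_⟩).symm⟩
  · obtain ⟨e1, e2⟩ := S.decomp_unique p.1.2 q.1.2 p.2.2 q.2.2 (congrArg Subtype.val h)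
    exact Prod.ext (Subtype.ext e1) (Subtype.ext e2)
  · obtain ⟨u, hu, y, hy, hx⟩ := S.prod x (mem_cz.mp x.2)
    exact ⟨(⟨u, hu⟩, ⟨y, hy⟩), Subtype.ext hx.symm⟩

theorem card_centralizer (S : Split z t v e U K) :
    Nat.card (centralizer ({t} : Set G)) = 4 * Nat.card K := by
  obtain ⟨i⟩ := S.nonempty_mulEquiv
  rw [Nat.card_congr i.toEquiv, Nat.card_prod, S.cardU]

end Split

variable [Finite G]

theorem Data.exists_split (d : Data z Q) {t : G} (ht : IsOut z Q t) :
    ∃ v e U K, Split z t v e U K := by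
  classical
  have : Fact (Nat.Prime 2) := ⟨Nat.prime_two⟩
  have h := d.hub
  obtain ⟨s, ha⟩ := d.exists_around ht.1 ht.2.1 ht.2.2
  obtain ⟨e, i, het, he3, hez⟩ := d.exists_mover ha ht
  have hzz : z ∈ cc z t := mem_cc.mpr ⟨Commute.refl z, ht.1.symm⟩
  have hst : Commute s z := h.central s ha.sing.1
  have hsA : s ∈ cc z t := mem_cc.mpr ⟨hst, ha.comm.symm⟩
  have hszA : s * z ∈ cc z t := mul_mem hsA hzz
  -- the conjugates of `z` in `A`
  let Z3 : G → Prop := fun x => x = z ∨ x = s ∨ x = s * z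
  have hZA : ∀ x, Z3 x → x ∈ cc z t := by
    rintro x (rfl | rfl | rfl) <;> assumption
  have hZconj : ∀ x, Z3 x → IsConj z x := by
    rintro x (rfl | rfl | rfl)
    exacts [IsConj.refl _, d.isConj_sing ha.sing, d.isConj_sing (ha.sing.mul_z h)]
  have hZ : ∀ x ∈ cc z t, x ≠ 1 → IsConj z x → Z3 x := by
    intro x hx hx1 hc
    have hxQ := (d.mem_iff_isConj (mem_cc.mp hx).1 (ha.sq x hx) hx1).mpr hc
    rcases ha.cases x hxQ (mem_cc.mp hx).2.symm with e | e | e | e
    exacts [absurd e hx1, Or.inl e, Or.inr (Or.inl e), Or.inr (Or.inr e)]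
  have hccZ : ∀ x, Z3 x → cc x t = cc z t := by
    rintro x (rfl | rfl | rfl)
    exacts [rfl, ha.eq_s, ha.eq_sz]
  have hnorm : ∀ g : G, Commute g t → Z3 (g * z * g⁻¹) → ∀ a ∈ cc z t, g * a * g⁻¹ ∈ cc z t := by
    intro g hg hgz a haA
    rw [← hccZ _ hgz]
    refine mem_cc.mpr ⟨Commute.conj' g (mem_cc.mp haA).1, ?_⟩
    exact (hg.mul_left (mem_cc.mp haA).2).mul_left hg.inv_left
  set v := e * z * e⁻¹ with hvdef
  have hv : Z3 v := Or.inr hez
  have heA : ∀ a ∈ cc z t, e * a * e⁻¹ ∈ cc z t := hnorm e het hv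
  have hperm : ∀ x, Z3 x → Z3 (e * x * e⁻¹) := fun x hx =>
    hZ _ (heA x (hZA x hx)) (fun hh => by
      have hx1 : x = 1 := by simpa using hh
      rcases hx with e' | e' | e' <;> rw [e'] at hx1
      exacts [h.ne_one hx1, ha.sing.2.2.1 hx1, (ha.sing.mul_z h).2.2.1 hx1])
      ((hZconj x hx).trans (isConj_iff.mpr ⟨e, rfl⟩))
  have hvA : v ∈ cc z t := hZA v hv
  have hzv : Commute z v := (mem_cc.mp hvA).1.symm
  have hvne : v ≠ z := by
    rcases hez with e' | e' <;> rw [e']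
    exacts [ha.sing.2.2.2, (ha.sing.mul_z h).2.2.2]
  have hv1 : v ≠ 1 := fun hh => h.ne_one (by simpa [hvdef] using hh)
  have hzvZ : z * v = s ∨ z * v = s * z := by
    rcases hez with e' | e'
    · right; rw [e', hst.eq]
    · left; rw [e', hst.eq, ← mul_assoc, h.sq, one_mul]
  have hZ' : ∀ x, Z3 x → x = z ∨ x = v ∨ x = z * v := by
    intro x hx
    have q : s * z * z = s := by rw [mul_assoc, h.sq, mul_one]
    have q' : z * (s * z) = s := by rw [hst.eq, ← mul_assoc, h.sq, one_mul]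
    rcases hez with e' | e' <;> rcases hx with rfl | rfl | rfl
    all_goals first
      | exact Or.inl rfl
      | exact Or.inr (Or.inl e'.symm)
      | (refine Or.inr (Or.inr ?_); rw [e', hst.eq]; done)
      | (refine Or.inr (Or.inr ?_); rw [e', q']; done)
  have heodd : ∀ x, Commute (e * e) x → Commute e x := by
    intro x hx
    obtain ⟨l, hl⟩ : ∃ l, 3 ^ i = 2 * l + 1 := (Odd.pow (by decide) : Odd (3 ^ i))
    have hee : e = (e * e) ^ (l + 1) := by
      rw [← pow_two, ← pow_mul, show 2 * (l + 1) = (2 * l + 1) + 1 by ring, pow_succ, ← hl, he3, one_mul]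
    rw [hee]; exact hx.pow_left _
  have hcyc2 : e * v * e⁻¹ = z * v := by
    rcases hZ' _ (hperm v hv) with h' | h' | h'
    · exfalso
      have : Commute (e * e) z := by
        refine mul_inv_eq_iff_eq_mul.mp ?_
        calc e * e * z * (e * e)⁻¹ = e * v * e⁻¹ := by simp only [hvdef]; group
          _ = z := h'
      exact hvne (mul_inv_eq_iff_eq_mul.mpr (heodd z this).eq)
    · exfalso
      exact hvne (by simpa [hvdef] using h')
    · exact h'
  have hcyc3 : e * (z * v) * e⁻¹ = z := by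
    rw [← conj_mul, hcyc2, ← hvdef, ← mul_assoc, ← hzv.eq, mul_assoc, ha.sq v hvA, mul_one]
  have he33 : e * (e * e) = 1 := by
    have hc : Commute (e ^ 3) z := by
      refine mul_inv_eq_iff_eq_mul.mp ?_
      calc e ^ 3 * z * (e ^ 3)⁻¹ = e * (e * (e * z * e⁻¹) * e⁻¹) * e⁻¹ := by
            rw [pow_succ, pow_two]; group
        _ = z := by rw [← hvdef, hcyc2, hcyc3]
    have hmem : e ^ 3 ∈ cc z t := mem_cc.mpr ⟨hc, het.pow_left 3⟩
    have h1 : e ^ 3 = 1 := by
      obtain ⟨l, hl⟩ : ∃ l, 3 ^ i = 2 * l + 1 := (Odd.pow (by decide) : Odd (3 ^ i))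
      have e' : (e ^ 3) ^ 3 ^ i = 1 := by rw [← pow_mul, mul_comm, pow_mul, he3, one_pow]
      rw [hl, pow_succ, pow_mul, pow_two, ha.sq _ hmem, one_pow, one_mul] at e'
      exact e'
    rw [← h1, pow_succ, pow_two, mul_assoc]
  have he1 : e ≠ 1 := fun hh => hvne (by simp [hvdef, hh])
  -- `A` inside `X = C(t)`
  set X := centralizer ({t} : Set G)
  set A : Subgroup ↥X := (cc z t).subgroupOf X
  have hAcard : Nat.card A = 16 :=
    (Nat.card_congr (subgroupOfEquivOfLe inf_le_right).toEquiv).trans ha.card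
  have hA2 : IsPGroup 2 A := IsPGroup.of_card (n := 4) hAcard
  obtain ⟨P, hP⟩ := hA2.exists_le_sylow
  have hNA : ∀ n : ↥X, n ∈ normalizer (A : Set ↥X) → Z3 ((n : G) * z * (n : G)⁻¹) ∧
      ∀ x, Z3 x → Z3 ((n : G) * x * (n : G)⁻¹) := by
    intro n hn
    have key : ∀ x, Z3 x → Z3 ((n : G) * x * (n : G)⁻¹) := by
      intro x hx
      have hxX : x ∈ X := (hZA x hx).2
      have := mem_subgroupOf.mp ((mem_normalizer_iff.mp hn ⟨x, hxX⟩).mp (mem_subgroupOf.mpr (hZA x hx)))
      refine hZ _ this (fun hh => ?_) ((hZconj x hx).trans (isConj_iff.mpr ⟨n, rfl⟩))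
      have hx1 : x = 1 := by simpa using hh
      rcases hx with e' | e' | e' <;> rw [e'] at hx1
      exacts [h.ne_one hx1, ha.sing.2.2.1 hx1, (ha.sing.mul_z h).2.2.1 hx1]
    exact ⟨key z (Or.inl rfl), key⟩
  have hPA : A = P := by
    by_contra hne
    have : Group.IsNilpotent ↥(P : Subgroup ↥X) := P.2.isNilpotent
    have hlt : A.subgroupOf P < ⊤ :=
      lt_top_iff_ne_top.mpr fun hh => hne (le_antisymm hP (subgroupOf_eq_top.mp hh))
    obtain ⟨n, hn, hn'⟩ := SetLike.exists_of_lt (Group.normalizerCondition_of_isNilpotent _ hlt)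
    have hnN : (n : ↥X) ∈ normalizer (A : Set ↥X) := mem_normalizer_iff.mpr fun x => by
      have hh := mem_normalizer_iff.mp hn
      constructor
      · exact fun hx => mem_subgroupOf.mp ((hh ⟨x, hP hx⟩).mp (mem_subgroupOf.mpr hx))
      · intro hx
        have hxP : x ∈ (P : Subgroup ↥X) := by
          have := mul_mem (mul_mem (inv_mem n.2) (hP hx)) n.2
          simpa [mul_assoc] using this
        exact mem_subgroupOf.mp ((hh ⟨x, hxP⟩).mpr (mem_subgroupOf.mpr hx))
    obtain ⟨k, hk⟩ := P.2 n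
    have hk' : ((n : ↥X) : G) ^ 2 ^ k = 1 := by
      have := congrArg (fun w : ↥(P : Subgroup ↥X) => ((w : ↥X) : G)) hk
      simpa using this
    have hfx := conj_fixed_modEq (p := 2) k {x | Z3 x} (fun x hx => (hNA _ hnN).2 x hx) hk'
    have h3 : Nat.card {x | Z3 x} = 3 := by
      have hs : ({x | Z3 x} : Set G) = ↑({z, s, s * z} : Finset G) := by ext x; simp [Z3]
      rw [Nat.card_coe_set_eq, hs, Set.ncard_coe_finset,
        Finset.card_insert_of_notMem (by
          simp only [Finset.mem_insert, Finset.mem_singleton, not_or]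
          exact ⟨ha.sing.2.2.2.symm, (ha.sing.mul_z h).2.2.2.symm⟩),
        Finset.card_pair (fun hh => h.ne_one (by simpa using hh.symm))]
    rw [h3] at hfx
    have hne' : Nat.card {x : G | x ∈ {x | Z3 x} ∧ Commute ((n : ↥X) : G) x} ≠ 0 := fun hh => by
      rw [hh] at hfx; exact absurd hfx (by decide)
    obtain ⟨⟨x, hxZ, hxc⟩⟩ := (Nat.card_ne_zero.mp hne').1
    refine hn' (mem_subgroupOf.mpr (mem_subgroupOf.mpr ?_))
    rw [← hccZ x hxZ]
    exact mem_cc.mpr ⟨hxc, mem_cz.mp (n : ↥X).2⟩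
  have hAab : IsMulCommutative (P : Subgroup ↥X) := by
    refine ⟨⟨fun a b => Subtype.ext (Subtype.ext ?_)⟩⟩
    exact (ha.abelian _ (mem_subgroupOf.mp (hPA.symm.le a.2 : (a : ↥X) ∈ A)) _
      (mem_subgroupOf.mp (hPA.symm.le b.2 : (b : ↥X) ∈ A))).eq
  -- `U = C_A(e)` and `V = {1, z, v, zv}`
  let U : Subgroup G := cc z t ⊓ centralizer ({e} : Set G)
  have hU : ∀ {x : G}, x ∈ U ↔ x ∈ cc z t ∧ Commute x e := fun {x} =>
    and_congr Iff.rfl mem_centralizer_singleton_iff
  let inV : G → Prop := fun x => x = 1 ∨ x = z ∨ x = v ∨ x = z * v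
  have hVA : ∀ x, inV x → x ∈ cc z t := by
    rintro x (rfl | rfl | rfl | rfl)
    exacts [one_mem _, hzz, hvA, mul_mem hzz hvA]
  have hVe : ∀ x, inV x → inV (e * x * e⁻¹) := by
    rintro x (rfl | rfl | rfl | rfl)
    · exact Or.inl (by simp)
    · exact Or.inr (Or.inr (Or.inl rfl))
    · exact Or.inr (Or.inr (Or.inr hcyc2))
    · exact Or.inr (Or.inl hcyc3)
  have hVmul : ∀ x y, inV x → inV y → inV (x * y) := by
    have e1 : z * (z * v) = v := by rw [← mul_assoc, h.sq, one_mul]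
    have e2 : v * (z * v) = z := by rw [← mul_assoc, ← hzv.eq, mul_assoc, ha.sq v hvA, mul_one]
    have e3 : z * v * z = v := by rw [mul_assoc, ← hzv.eq, e1]
    have e4 : z * v * v = z := by rw [mul_assoc, ha.sq v hvA, mul_one]
    have e5 : z * v * (z * v) = 1 := ha.sq _ (mul_mem hzz hvA)
    intro x y hx hy
    rcases hx with rfl | rfl | rfl | rfl <;> rcases hy with rfl | rfl | rfl | rfl <;>
      simp [inV, h.sq, ha.sq v hvA, hzv.eq.symm, e1, e2, e3, e4, e5]
  have hUV : ∀ x, inV x → Commute x e → x = 1 := by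
    rintro x (rfl | rfl | rfl | rfl) hx
    · rfl
    · exact absurd (mul_inv_eq_iff_eq_mul.mpr hx.eq.symm : e * x * e⁻¹ = x) hvne
    · have hh : e * v * e⁻¹ = v := mul_inv_eq_iff_eq_mul.mpr hx.eq.symm
      exact absurd (by simpa [hvdef] using hh : v = z) hvne
    · have hh : e * (z * v) * e⁻¹ = z * v := mul_inv_eq_iff_eq_mul.mpr hx.eq.symm
      rw [hcyc3] at hh
      exact absurd (mul_left_cancel (a := z) (by rw [mul_one]; exact hh.symm : z * v = z * 1)) hv1
  have hVcard : Nat.card {x | inV x} = 4 := by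
    have hs : ({x | inV x} : Set G) = ↑({1, z, v, z * v} : Finset G) := by ext x; simp [inV]
    have n1 : z * v ≠ 1 := fun hh => hvne (by
      calc v = z * (z * v) := by rw [← mul_assoc, h.sq, one_mul]
        _ = z := by rw [hh, mul_one])
    rw [Nat.card_coe_set_eq, hs, Set.ncard_coe_finset,
      Finset.card_insert_of_notMem (by simp [h.ne_one.symm, hv1.symm, n1.symm]),
      Finset.card_insert_of_notMem (by simp [hvne.symm, hv1]),
      Finset.card_pair (by simp [h.ne_one])]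
  have htA : t ∈ cc z t := mem_cc.mpr ⟨ht.1, Commute.refl t⟩
  have htU : t ∈ U := hU.mpr ⟨htA, het.symm⟩
  have : Finite {x | inV x} := Finite.of_injective (fun x => (x : G)) Subtype.val_injective
  let f : {x | inV x} × ↥U → ↥(cc z t) := fun p =>
    ⟨(p.1 : G) * p.2, mul_mem (hVA _ p.1.2) (hU.mp p.2.2).1⟩
  have hf : Function.Injective f := by
    rintro ⟨⟨x, hx⟩, ⟨u, hu⟩⟩ ⟨⟨x', hx'⟩, ⟨u', hu'⟩⟩ hh
    have hh' : x * u = x' * u' := congrArg Subtype.val hh
    have hx'' : x'⁻¹ * x = u' * u⁻¹ := by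
      calc x'⁻¹ * x = x'⁻¹ * (x * u) * u⁻¹ := by group
        _ = _ := by rw [hh']; group
    have hxi : x'⁻¹ = x' := inv_eq_of_mul_eq_one_right (ha.sq x' (hVA x' hx'))
    have h1 : x'⁻¹ * x = 1 := hUV _ (by rw [hxi]; exact hVmul _ _ hx' hx) (by
      rw [hx'']; exact (hU.mp hu').2.mul_left (hU.mp hu).2.inv_left)
    have h2 : x = x' := (inv_mul_eq_one.mp h1).symm
    subst h2
    exact Prod.ext rfl (Subtype.ext (mul_left_cancel hh'))
  have hUcard : Nat.card U = 4 := by
    have hle := Nat.card_le_card_of_injective f hf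
    rw [Nat.card_prod, hVcard, ha.card] at hle
    have : Fact (Nat.Prime 3) := ⟨Nat.prime_three⟩
    have hfx := conj_fixed_modEq (p := 3) 1 (cc z t : Set G) heA
      (by rw [pow_one, pow_succ, pow_two, mul_assoc]; exact he33)
    have hset : ({x : G | x ∈ (cc z t : Set G) ∧ Commute e x} : Set G) = (U : Set G) := by
      ext x; exact ⟨fun p => hU.mpr ⟨p.1, p.2.symm⟩, fun p => ⟨(hU.mp p).1, (hU.mp p).2.symm⟩⟩
    rw [hset, SetLike.coe_sort_coe, SetLike.coe_sort_coe, ha.card] at hfx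
    have h2 : 2 ≤ Nat.card U := by
      by_contra hlt
      have h1 : U = ⊥ := eq_bot_of_card_le U (by omega)
      exact d.ne_one_of_isOut ht (mem_bot.mp (h1 ▸ htU))
    rw [Nat.ModEq] at hfx
    omega
  have hAdec : ∀ a ∈ cc z t, ∃ x u, inV x ∧ u ∈ U ∧ a = x * u := by
    intro a haA
    obtain ⟨⟨⟨x, hx⟩, ⟨u, hu⟩⟩, hh⟩ := ((Nat.bijective_iff_injective_and_card f).mpr
      ⟨hf, by rw [Nat.card_prod, hVcard, hUcard, ha.card]⟩).surjective ⟨a, haA⟩
    exact ⟨x, u, hx, hu, (congrArg Subtype.val hh).symm⟩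
  -- `N_X(A) = A⟨e⟩`
  have hnormdec : ∀ g : G, Commute g t → Z3 (g * z * g⁻¹) →
      ∃ b ∈ cc z t, g = b ∨ g = e * b ∨ g = e * (e * b) := by
    intro g hg hgz
    have hAmem : ∀ g : G, Commute g t → g * z * g⁻¹ = z → g ∈ cc z t := fun g hg hgz =>
      mem_cc.mpr ⟨mul_inv_eq_iff_eq_mul.mp hgz, hg⟩
    rcases hZ' _ hgz with h' | h' | h'
    · exact ⟨g, hAmem g hg h', Or.inl rfl⟩
    · refine ⟨e⁻¹ * g, hAmem _ (het.inv_left.mul_left hg) ?_, Or.inr (Or.inl (mul_inv_cancel_left e g).symm)⟩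
      calc e⁻¹ * g * z * (e⁻¹ * g)⁻¹ = e⁻¹ * (g * z * g⁻¹) * e := by group
        _ = z := by rw [h', hvdef]; group
    · refine ⟨(e * e)⁻¹ * g, hAmem _ ((het.mul_left het).inv_left.mul_left hg) ?_, Or.inr (Or.inr ?_)⟩
      · calc (e * e)⁻¹ * g * z * ((e * e)⁻¹ * g)⁻¹ = (e * e)⁻¹ * (g * z * g⁻¹) * (e * e) := by
              generalize e * e = f; group
          _ = (e * e)⁻¹ * (e * v * e⁻¹) * (e * e) := by rw [h', hcyc2]
          _ = z := by rw [hvdef]; group
      · rw [← mul_assoc, mul_inv_cancel_left]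
  -- the residual
  set K0 : Subgroup ↥X := Cfsg.pResidual 2 ↥X with hK0
  have hK0n : K0.Normal := Transfer.pResidual_normal 2
  have hfoc := Transfer.inf_pResidual_eq_commutator_normalizer P hAab
  have heX : e ∈ X := mem_cz.mpr het
  have heN : (⟨e, heX⟩ : ↥X) ∈ normalizer (A : Set ↥X) := mem_normalizer_iff.mpr fun x => by
    have e3 : e⁻¹ = e * e := inv_eq_of_mul_eq_one_right he33
    constructor
    · exact fun hx => mem_subgroupOf.mpr (heA _ (mem_subgroupOf.mp hx))
    · intro hx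
      have hx2 : e * (x : G) * e⁻¹ ∈ cc z t := mem_subgroupOf.mp hx
      have hh := heA _ (heA _ hx2)
      refine mem_subgroupOf.mpr ?_
      have hx' : e * (e * (e * (x : G) * e⁻¹) * e⁻¹) * e⁻¹ = x := by
        calc e * (e * (e * (x : G) * e⁻¹) * e⁻¹) * e⁻¹
            = e * (e * e) * x * (e * (e * e))⁻¹ := by group
          _ = x := by rw [he33]; group
      rwa [hx'] at hh
  have hK0V : ∀ x : ↥X, x ∈ A → (x ∈ K0 ↔ inV (x : G)) := by
    intro x hxA
    have hfoc' : (P : Subgroup ↥X) ⊓ K0 = ⁅(A : Subgroup ↥X), normalizer (A : Set ↥X)⁆ := by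
      rw [hPA]; exact hfoc
    have hiff : x ∈ K0 ↔ x ∈ ⁅(A : Subgroup ↥X), normalizer (A : Set ↥X)⁆ := by
      rw [← hfoc']
      exact ⟨fun p => Subgroup.mem_inf.mpr ⟨hPA.le hxA, p⟩, fun p => (Subgroup.mem_inf.mp p).2⟩
    rw [hiff]
    constructor
    · let VV : Subgroup ↥X :=
        { carrier := {w | inV (w : G)}
          one_mem' := Or.inl rfl
          mul_mem' := fun p q => hVmul _ _ p q
          inv_mem' := fun {w} p => by
            show inV ((w : G)⁻¹)
            rw [inv_eq_of_mul_eq_one_right (ha.sq _ (hVA _ p))]; exact p }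
      intro hx
      refine (?_ : ⁅(A : Subgroup ↥X), normalizer (A : Set ↥X)⁆ ≤ VV) hx
      rw [commutator_le]
      intro a haA n hn
      show inV ((⁅a, n⁆ : ↥X) : G)
      obtain ⟨x1, u, hx1, hu, hax⟩ := hAdec _ (mem_subgroupOf.mp haA)
      obtain ⟨b, hb, hnb⟩ := hnormdec _ (mem_cz.mp n.2) (hNA n hn).1
      obtain ⟨huA, hue⟩ := hU.mp hu
      have hcu : Commute (n : G) u := by
        rcases hnb with e' | e' | e' <;> rw [e']
        · exact ha.abelian b hb u huA
        · exact hue.symm.mul_left (ha.abelian b hb u huA)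
        · exact hue.symm.mul_left (hue.symm.mul_left (ha.abelian b hb u huA))
      have hbx : b * x1 * b⁻¹ = x1 :=
        mul_inv_eq_iff_eq_mul.mpr (ha.abelian b hb x1 (hVA x1 hx1)).eq
      have hnx : inV ((n : G) * x1 * (n : G)⁻¹) := by
        rcases hnb with e' | e' | e' <;> rw [e']
        · rw [hbx]; exact hx1
        · rw [show e * b * x1 * (e * b)⁻¹ = e * (b * x1 * b⁻¹) * e⁻¹ by group, hbx]; exact hVe _ hx1
        · rw [show e * (e * b) * x1 * (e * (e * b))⁻¹ = e * (e * (b * x1 * b⁻¹) * e⁻¹) * e⁻¹ by group, hbx]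
          exact hVe _ (hVe _ hx1)
      have hcom : ((⁅a, n⁆ : ↥X) : G) = x1 * ((n : G) * x1 * (n : G)⁻¹) := by
        simp only [commutatorElement_def, Subgroup.coe_mul, Subgroup.coe_inv, hax]
        have hxi : x1⁻¹ = x1 := inv_eq_of_mul_eq_one_right (ha.sq x1 (hVA x1 hx1))
        calc x1 * u * (n : G) * (x1 * u)⁻¹ * (n : G)⁻¹ = x1 * ((u * (n : G) * u⁻¹) * x1⁻¹ * (n : G)⁻¹) := by group
          _ = _ := by rw [hcu.symm.eq, mul_inv_cancel_right, hxi]
      rw [hcom]
      exact hVmul _ _ hx1 hnx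
    · intro hx
      have hgen : ∀ w, ∀ (hw : w ∈ cc z t),
          (⁅(⟨w, hw.2⟩ : ↥X), (⟨e, heX⟩ : ↥X)⁆ : ↥X) ∈ ⁅(A : Subgroup ↥X), normalizer (A : Set ↥X)⁆ :=
        fun w hw => commutator_mem_commutator (mem_subgroupOf.mpr hw) heN
      have hval : ∀ w, ∀ (hw : w ∈ cc z t),
          ((⁅(⟨w, hw.2⟩ : ↥X), (⟨e, heX⟩ : ↥X)⁆ : ↥X) : G) = w * (e * w⁻¹ * e⁻¹) := by
        intro w hw; simp only [commutatorElement_def, Subgroup.coe_mul, Subgroup.coe_inv]; group
      rcases hx with e' | e' | e' | e'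
      · have : x = 1 := Subtype.ext e'
        rw [this]; exact one_mem _
      · convert hgen v hvA using 1
        refine Subtype.ext ?_
        rw [e', hval v hvA, inv_eq_of_mul_eq_one_right (ha.sq v hvA), hcyc2, hzv.eq, ← mul_assoc,
          ha.sq v hvA, one_mul]
      · convert hgen (z * v) (mul_mem hzz hvA) using 1
        refine Subtype.ext ?_
        rw [e', hval _ (mul_mem hzz hvA), inv_eq_of_mul_eq_one_right (ha.sq _ (mul_mem hzz hvA)), hcyc3,
          mul_assoc, ← hzv.eq, ← mul_assoc, h.sq, one_mul]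
      · convert hgen z hzz using 1
        refine Subtype.ext ?_
        rw [e', hval z hzz, h.inv_z, ← hvdef]
  have heK : (⟨e, heX⟩ : ↥X) ∈ K0 := by
    refine subset_closure ?_
    show (orderOf (⟨e, heX⟩ : ↥X)).Coprime 2
    rw [← Subgroup.orderOf_coe]
    have : Fact (Nat.Prime 3) := ⟨Nat.prime_three⟩
    rw [orderOf_eq_prime (show e ^ 3 = 1 by rw [pow_succ, pow_two, mul_assoc]; exact he33) he1]
    decide
  set K : Subgroup G := K0.map X.subtype
  have hKX : K ≤ X := map_subtype_le _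
  have hKmem : ∀ {x : G} (hx : x ∈ X), x ∈ K ↔ (⟨x, hx⟩ : ↥X) ∈ K0 := by
    intro x hx
    constructor
    · rintro ⟨w, hw, rfl⟩; exact hw
    · exact fun p => ⟨_, p, rfl⟩
  have hKA : ∀ {x : G}, x ∈ cc z t → (x ∈ K ↔ inV x) := fun {x} hx => by
    rw [hKmem hx.2]; exact hK0V ⟨x, hx.2⟩ (mem_subgroupOf.mpr hx)
  have hzK : z ∈ K := (hKA hzz).mpr (Or.inr (Or.inl rfl))
  have hvK : v ∈ K := (hKA hvA).mpr (Or.inr (Or.inr (Or.inl rfl)))
  have heKK : e ∈ K := (hKmem heX).mpr heK
  have hKconj : ∀ g ∈ X, ∀ x ∈ K, g * x * g⁻¹ ∈ K := by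
    intro g hg x hx
    obtain ⟨w, hw, rfl⟩ := hx
    exact ⟨_, hK0n.conj_mem w hw ⟨g, hg⟩, rfl⟩
  -- involutions of `X` are conjugate into `A`
  have hinto : ∀ x ∈ X, x * x = 1 → ∃ g ∈ X, g * x * g⁻¹ ∈ cc z t := by
    intro x hx hx2
    have h2 : IsPGroup 2 ↥(zpowers (⟨x, hx⟩ : ↥X)) := by
      rintro ⟨w, hw⟩
      obtain ⟨j, rfl⟩ := mem_zpowers_iff.mp hw
      refine ⟨1, Subtype.ext ?_⟩
      show ((⟨x, hx⟩ : ↥X) ^ j) ^ 2 ^ 1 = 1
      rw [pow_one, ← zpow_natCast, ← zpow_mul, mul_comm, zpow_mul, zpow_natCast, pow_two]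
      rw [show (⟨x, hx⟩ : ↥X) * ⟨x, hx⟩ = 1 from Subtype.ext hx2, one_zpow]
    obtain ⟨S, hS⟩ := h2.exists_le_sylow
    obtain ⟨g, hg⟩ := MulAction.exists_smul_eq (↥X) S P
    have hmem : g * (⟨x, hx⟩ : ↥X) * g⁻¹ ∈ A := by
      rw [hPA, ← hg]; exact ⟨_, hS (mem_zpowers _), rfl⟩
    exact ⟨g, g.2, mem_subgroupOf.mp hmem⟩
  have hcentK : ∀ y ∈ K, Commute y z → inV y := fun y hy hyz =>
    (hKA (mem_cc.mpr ⟨hyz, mem_cz.mp (hKX hy)⟩)).mp hy
  -- recognition of `K`
  have hKshape : Nonempty (↥K ≃* AltFive.A5) ∨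
      (Nat.card K = 12 ∧ ∀ y ∈ K, ∃ x, inV x ∧ (y = x ∨ y = e * x ∨ y = e * (e * x))) := by
    by_cases hnormal : ∀ y ∈ K, Z3 (y * z * y⁻¹)
    · right
      have hdec : ∀ y ∈ K, ∃ x, inV x ∧ (y = x ∨ y = e * x ∨ y = e * (e * x)) := by
        intro y hy
        obtain ⟨b, hb, hyb⟩ := hnormdec y (mem_cz.mp (hKX hy)) (hnormal y hy)
        refine ⟨b, (hKA hb).mp ?_, hyb⟩
        rcases hyb with e' | e' | e'
        · rwa [← e']
        · have := mul_mem (inv_mem heKK) hy
          rwa [e', inv_mul_cancel_left] at this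
        · have := mul_mem (inv_mem heKK) (mul_mem (inv_mem heKK) hy)
          rwa [e', inv_mul_cancel_left, inv_mul_cancel_left] at this
      refine ⟨?_, hdec⟩
      let f : Fin 3 × {x | inV x} → ↥K := fun p =>
        ⟨e ^ (p.1 : ℕ) * p.2, mul_mem (pow_mem heKK _) ((hKA (hVA _ p.2.2)).mpr p.2.2)⟩
      have hb : Function.Bijective f := by
        refine ⟨?_, fun y => ?_⟩
        · rintro ⟨a, x, hx⟩ ⟨b, x', hx'⟩ hh
          have hh' : e ^ (a : ℕ) * x = e ^ (b : ℕ) * x' := congrArg Subtype.val hh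
          have hmov : ∀ (k : ℕ) (w : G), inV w → e ^ k * w * z * (e ^ k * w)⁻¹ = e ^ k * z * (e ^ k)⁻¹ := by
            intro k w hw
            calc e ^ k * w * z * (e ^ k * w)⁻¹ = e ^ k * (w * z * w⁻¹) * (e ^ k)⁻¹ := by group
              _ = _ := by rw [mul_inv_eq_iff_eq_mul.mpr (mem_cc.mp (hVA w hw)).1.eq]
          have hk : e ^ (a : ℕ) * z * (e ^ (a : ℕ))⁻¹ = e ^ (b : ℕ) * z * (e ^ (b : ℕ))⁻¹ := by
            rw [← hmov _ x hx, hh', hmov _ x' hx']
          have hz0 : e ^ 0 * z * (e ^ 0)⁻¹ = z := by simp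
          have hz1 : e ^ 1 * z * (e ^ 1)⁻¹ = v := by rw [pow_one]
          have hz2 : e ^ 2 * z * (e ^ 2)⁻¹ = z * v := by
            rw [pow_two, ← hcyc2, hvdef]; group
          have n1 : z * v ≠ z := fun hh => hv1 (mul_left_cancel (hh.trans (mul_one z).symm))
          have n2 : z * v ≠ v := fun hh => h.ne_one (by simpa using hh)
          have hab : a = b := by
            fin_cases a <;> fin_cases b <;> (try rfl) <;> exfalso <;>
              simp only [hz0, hz1, hz2] at hk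
            all_goals first
              | exact hvne hk
              | exact hvne hk.symm
              | exact n1 hk
              | exact n1 hk.symm
              | exact n2 hk
              | exact n2 hk.symm
          subst hab
          exact Prod.ext rfl (Subtype.ext (mul_left_cancel hh'))
        · obtain ⟨x, hx, e' | e' | e'⟩ := hdec y y.2
          · exact ⟨(0, ⟨x, hx⟩), Subtype.ext (by simp [f, e'])⟩
          · exact ⟨(1, ⟨x, hx⟩), Subtype.ext (by simp [f, e'])⟩
          · exact ⟨(2, ⟨x, hx⟩), Subtype.ext (by simp [f, e', pow_two, mul_assoc])⟩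
      rw [← Nat.card_eq_of_bijective f hb, Nat.card_prod, hVcard, Nat.card_fin]
    · left
      have hcK : Nat.card (centralizer ({(⟨z, hzK⟩ : ↥K)} : Set ↥K)) = 4 := by
        rw [← hVcard]
        refine Nat.card_congr ⟨fun x => ⟨(x : ↥K), hcentK _ x.1.2
            (congrArg Subtype.val (mem_centralizer_singleton_iff.mp x.2))⟩,
          fun x => ⟨⟨x, (hKA (hVA _ x.2)).mpr x.2⟩, mem_centralizer_singleton_iff.mpr
            (Subtype.ext (mem_cc.mp (hVA _ x.2)).1.eq)⟩, fun x => rfl, fun x => rfl⟩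
      let F : BSW.FourCent ↥K :=
        { x := ⟨z, hzK⟩
          hx := by
            refine orderOf_eq_prime ?_ (fun hh => h.ne_one (congrArg Subtype.val hh))
            rw [pow_two]; exact Subtype.ext h.sq
          card_four := hcK
          sq := fun a haC => Subtype.ext (ha.sq _ (hVA _ (hcentK _ a.2
            (congrArg Subtype.val (mem_centralizer_singleton_iff.mp haC))))) }
      refine BSW.FourCent.iso_alternating F ?_ ?_
      · rintro ⟨S, N, hN, hc⟩
        have hodd : ∀ x : ↥K, (orderOf x).Coprime 2 → x ∈ N := by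
          intro x hx
          obtain ⟨n, hn⟩ := IsPGroup.iff_card.mp S.2
          have hidx : N.index = 2 ^ n := by rw [hc.symm.index_eq_card, hn]
          have h1 : orderOf (QuotientGroup.mk' N x) ∣ orderOf x := orderOf_map_dvd _ x
          have h2 : orderOf (QuotientGroup.mk' N x) ∣ 2 ^ n := hidx ▸ orderOf_dvd_natCard _
          have := Nat.eq_one_of_dvd_coprimes (Nat.Coprime.pow_right n hx) h1 h2
          rwa [orderOf_eq_one_iff, QuotientGroup.mk'_apply, QuotientGroup.eq_one_iff] at this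
        let N0 : Subgroup ↥X := (N.map K.subtype).subgroupOf X
        have hle : K0 ≤ N0 := by
          rw [hK0, Cfsg.pResidual, closure_le]
          intro x hx
          have hxK : x ∈ K0 := subset_closure hx
          refine mem_subgroupOf.mpr ⟨⟨(x : G), (hKmem x.2).mpr hxK⟩, hodd _ ?_, rfl⟩
          rw [← Subgroup.orderOf_coe, Subgroup.orderOf_coe (G := G) x]; exact hx
        have hzN : (⟨z, hzK⟩ : ↥K) ∈ N := by
          obtain ⟨w, hw, hwz⟩ := mem_subgroupOf.mp (hle ((hKmem (hKX hzK)).mp hzK))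
          exact (Subtype.ext hwz : w = ⟨z, hzK⟩) ▸ hw
        have hNtop : N = ⊤ := by
          refine eq_top_iff.mpr fun w _ => ?_
          obtain ⟨u, hu, huw⟩ := mem_subgroupOf.mp (hle ((hKmem (hKX w.2)).mp w.2))
          exact (Subtype.ext huw : u = w) ▸ hu
        have hS1 : Nat.card (S : Subgroup ↥K) = 1 := by
          rw [← hc.symm.index_eq_card, hNtop, index_top]
        have hdvd : 2 ∣ Nat.card ↥K :=
          ((by rw [hcK]; norm_num : 2 ∣ Nat.card (centralizer ({(⟨z, hzK⟩ : ↥K)} : Set ↥K)))).trans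
            (card_subgroup_dvd_card _)
        have := S.dvd_card_of_dvd_card hdvd
        omega
      · intro E hE hel
        have hinv : ∀ x : ↥K, x ∈ E → x ≠ 1 → ∃ g : ↥K → ↥K, True ∧ ∃ k ∈ X, inV (k * (x : G) * k⁻¹) ∧
            k * (x : G) * k⁻¹ ≠ 1 := by
          intro x hx hx1
          have hx2 : (x : G) * x = 1 := by
            have e2 := hel.2 x hx
            rw [pow_two] at e2
            exact congrArg Subtype.val e2
          obtain ⟨k, hk, hkA⟩ := hinto _ (hKX x.2) hx2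
          exact ⟨id, trivial, k, hk, (hKA hkA).mp (hKconj k hk _ x.2),
            fun hh => hx1 (Subtype.ext (by simpa using hh))⟩
        have hsmall : ∀ x : ↥K, x ∈ E → x ≠ 1 → ∀ w : ↥K, Commute (x : G) w →
            ∃ k ∈ X, inV (k * (w : G) * k⁻¹) ∧ inV (k * (x : G) * k⁻¹) := by
          intro x hx hx1 w hw
          obtain ⟨-, -, k, hk, hkV, hk1⟩ := hinv x hx hx1
          refine ⟨k, hk, (hKA ?_).mp (hKconj k hk _ w.2), hkV⟩
          have hkx : Z3 (k * (x : G) * k⁻¹) := by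
            refine hZ _ (hVA _ hkV) hk1 ?_
            rcases hkV with e' | e' | e' | e'
            · exact absurd e' hk1
            · rw [e']
            · rw [e']; exact hZconj v hv
            · rw [e']; rcases hzvZ with e'' | e'' <;> rw [e'']
              exacts [hZconj s (Or.inr (Or.inl rfl)), hZconj _ (Or.inr (Or.inr rfl))]
          rw [← hccZ _ hkx]
          exact mem_cc.mpr ⟨Commute.conj' k hw.symm, mem_cz.mp (mul_mem (mul_mem hk (hKX w.2)) (inv_mem hk))⟩
        have hne' : ∀ n, Nat.card ↥E = n → 2 ≤ n → ∃ x : ↥K, x ∈ E ∧ x ≠ 1 := by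
          intro n hn h2
          by_contra hcon
          push Not at hcon
          rw [(eq_bot_iff_forall E).mpr hcon, card_bot] at hn
          omega
        refine ⟨fun h2 => ?_, fun h4 => ?_⟩
        · obtain ⟨x, hx, hx1⟩ := hne' 2 h2 le_rfl
          have hcentral : ∀ w : ↥K, Commute (x : G) w := by
            intro w
            have hxw : w * x * w⁻¹ ∈ E := hE.conj_mem x hx w
            obtain ⟨a, b, hab, hall⟩ := Nat.card_eq_two_iff.mp h2
            have hh : ∀ y : ↥E, y = a ∨ y = b := fun y => by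
              simpa using (hall ▸ Set.mem_univ y : y ∈ ({a, b} : Set ↥E))
            have : w * x * w⁻¹ = x := by
              rcases hh ⟨x, hx⟩ with p | p <;> rcases hh ⟨_, hxw⟩ with q | q <;> rcases hh 1 with r | r
              all_goals first
                | exact congrArg Subtype.val (q.trans p.symm)
                | exact absurd (congrArg Subtype.val (p.trans r.symm)) hx1
                | exact absurd (by simpa using congrArg Subtype.val (q.trans r.symm)) hx1
            exact (congrArg Subtype.val (mul_inv_eq_iff_eq_mul.mp this)).symm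
          obtain ⟨k, hk, hkV, -⟩ := hsmall x hx hx1 ⟨e, heKK⟩ (hcentral _)
          have hsq := congrArg (fun w => k⁻¹ * w * k) (ha.sq _ (hVA _ hkV))
          have he2 : e * e = 1 := by simpa [mul_assoc] using hsq
          exact he1 (by simpa [he2] using he33)
        · obtain ⟨x, hx, hx1⟩ := hne' 4 h4 (by norm_num)
          have hcomm : ∀ w : ↥K, w ∈ E → Commute (x : G) w := fun w hw => by
            have hcm := hel.1.is_comm.comm (⟨x, hx⟩ : ↥E) ⟨w, hw⟩
            exact congrArg (fun p : ↥E => ((p : ↥K) : G)) hcm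
          obtain ⟨-, -, k, hk, -, hk1⟩ := hinv x hx hx1
          obtain ⟨k, hk, hkV⟩ : ∃ k ∈ X, ∀ w : ↥K, w ∈ E → inV (k * (w : G) * k⁻¹) := by
            obtain ⟨-, -, k, hk, hkV, hk1⟩ := hinv x hx hx1
            refine ⟨k, hk, fun w hw => (hKA ?_).mp (hKconj k hk _ w.2)⟩
            have hkx : Z3 (k * (x : G) * k⁻¹) := by
              refine hZ _ (hVA _ hkV) hk1 ?_
              rcases hkV with e' | e' | e' | e'
              · exact absurd e' hk1
              · rw [e']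
              · rw [e']; exact hZconj v hv
              · rw [e']; rcases hzvZ with e'' | e'' <;> rw [e'']
                exacts [hZconj s (Or.inr (Or.inl rfl)), hZconj _ (Or.inr (Or.inr rfl))]
            rw [← hccZ _ hkx]
            exact mem_cc.mpr ⟨Commute.conj' k (hcomm w hw).symm,
              mem_cz.mp (mul_mem (mul_mem hk (hKX w.2)) (inv_mem hk))⟩
          let g : ↥E → {x | inV x} := fun w => ⟨k * ((w : ↥K) : G) * k⁻¹, hkV _ w.2⟩
          have hg : Function.Bijective g := by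
            refine (Nat.bijective_iff_injective_and_card g).mpr ⟨fun a b hh => ?_, by rw [h4, hVcard]⟩
            exact Subtype.ext (Subtype.ext (mul_left_cancel (mul_right_cancel (congrArg Subtype.val hh))))
          apply hnormal
          intro y hy
          -- `E` is normal in `K`, and conjugate to `V` by `k`
          obtain ⟨w, hw⟩ := hg.surjective ⟨z, Or.inr (Or.inl rfl)⟩
          have hwz : k * ((w : ↥K) : G) * k⁻¹ = z := congrArg Subtype.val hw
          have hy' : k⁻¹ * y * k ∈ K := by simpa using hKconj k⁻¹ (inv_mem hk) y hy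
          have hmem : (⟨_, hy'⟩ : ↥K) * w * (⟨_, hy'⟩ : ↥K)⁻¹ ∈ E := hE.conj_mem _ w.2 _
          have hV := hkV _ hmem
          have heq : k * (((⟨_, hy'⟩ : ↥K) * w * (⟨_, hy'⟩ : ↥K)⁻¹ : ↥K) : G) * k⁻¹ = y * z * y⁻¹ := by
            simp only [Subgroup.coe_mul, Subgroup.coe_inv]
            rw [← hwz]; group
          rw [heq] at hV
          exact hZ _ (hVA _ hV) (fun hh => h.ne_one (by simpa using hh)) (isConj_iff.mpr ⟨y, rfl⟩)
  have hUK : ∀ u ∈ U, ∀ y ∈ K, Commute u y := by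
    intro u hu
    obtain ⟨huA, hue⟩ := hU.mp hu
    rcases hKshape with ⟨⟨iso⟩⟩ | ⟨-, hdec⟩
    · intro y hy
      have huX : u ∈ X := huA.2
      have fixa : ∀ a ∈ cc z t, u * a * u⁻¹ = a := fun a haA =>
        mul_inv_eq_iff_eq_mul.mpr (ha.abelian u huA a haA).eq
      let f : ↥K →* ↥K :=
        { toFun := fun x => ⟨u * x * u⁻¹, hKconj u huX x x.2⟩
          map_one' := Subtype.ext (by simp)
          map_mul' := fun a b => Subtype.ext (by simp [mul_assoc]) }
      have hfid := AltFive.rigid iso (a := ⟨z, hzK⟩) (b := ⟨v, hvK⟩) (e := ⟨e, heKK⟩)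
        (Subtype.ext h.sq) (fun hh => h.ne_one (congrArg Subtype.val hh))
        (Subtype.ext (ha.sq v hvA)) (fun hh => hv1 (congrArg Subtype.val hh))
        (Subtype.ext hzv.eq) (fun hh => hvne (congrArg Subtype.val hh).symm)
        (Subtype.ext he33) (fun hh => he1 (congrArg Subtype.val hh))
        (Or.inr (Or.inl (Subtype.ext rfl))) (Or.inr (Or.inr (Subtype.ext hcyc2)))
        f (fun a b hh => Subtype.ext (by
          have hh' : u * (a : G) * u⁻¹ = u * b * u⁻¹ := congrArg Subtype.val hh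
          simpa using hh'))
        (Subtype.ext (fixa z hzz)) (Subtype.ext (fixa v hvA))
        (Subtype.ext (mul_inv_eq_iff_eq_mul.mpr hue.eq)) ⟨y, hy⟩
      exact mul_inv_eq_iff_eq_mul.mp (congrArg Subtype.val hfid)
    · intro y hy
      obtain ⟨x, hx, e' | e' | e'⟩ := hdec y hy <;> rw [e']
      · exact ha.abelian u huA x (hVA x hx)
      · exact hue.mul_right (ha.abelian u huA x (hVA x hx))
      · exact hue.mul_right (hue.mul_right (ha.abelian u huA x (hVA x hx)))
  refine ⟨v, e, U, K, hUcard, fun u hu => ha.sq u (hU.mp hu).1, htU, fun u hu => (mem_cc.mp (hU.mp hu).1).2,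
    fun y hy => mem_cz.mp (hKX hy), hUK, fun x hxU hxK => ?_, fun x hx => ?_, hzK, hvK, ha.sq v hvA, hvne,
    hv1, hzv, heKK, he33, rfl, hcyc2, hcentK, fun y hy hy2 hy1 => ?_, fun x hx hx2 hx1 hxz => ?_,
    hKshape.imp id fun hh => ⟨hh.1, fun y hy hy2 => ?_⟩⟩
  · exact hUV x ((hKA (hU.mp hxU).1).mp hxK) (hU.mp hxU).2
  · have htop := Transfer.sylow_sup_pResidual_eq_top P
    obtain ⟨a, haP, k, hk, hak⟩ := mem_sup_of_normal_right.mp
      (htop ▸ mem_top (⟨x, mem_cz.mpr hx⟩ : ↥X))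
    obtain ⟨x1, u, hx1, hu, hax⟩ := hAdec (a : G) (mem_subgroupOf.mp (hPA ▸ haP : a ∈ A))
    refine ⟨u, hu, x1 * (k : G), mul_mem ((hKA (hVA x1 hx1)).mpr hx1) ((hKmem k.2).mpr hk), ?_⟩
    have hxe : (a : G) * (k : G) = x := congrArg Subtype.val hak
    rw [← hxe, hax, ← mul_assoc, (ha.abelian u (hU.mp hu).1 x1 (hVA x1 hx1)).eq]
  · obtain ⟨g, hg, hgA⟩ := hinto y (hKX hy) hy2
    have hgV := (hKA hgA).mp (hKconj g hg y hy)
    have hgy : IsConj y (g * y * g⁻¹) := isConj_iff.mpr ⟨g, rfl⟩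
    refine IsConj.trans ?_ hgy.symm
    rcases hgV with e' | e' | e' | e'
    · exact absurd (by simpa using e' : y = 1) hy1
    · rw [e']
    · rw [e']; exact hZconj v hv
    · rw [e']; rcases hzvZ with e'' | e'' <;> rw [e'']
      exacts [hZconj s (Or.inr (Or.inl rfl)), hZconj _ (Or.inr (Or.inr rfl))]
  · obtain ⟨g, hg, hgA⟩ := hinto x (mem_cz.mpr hx) hx2
    have hV : inV (g * x * g⁻¹) := Or.inr (hZ' _ (hZ _ hgA (fun hh => hx1 (by simpa using hh))
      (hxz.trans (isConj_iff.mpr ⟨g, rfl⟩))))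
    have := hKconj g⁻¹ (inv_mem hg) _ ((hKA hgA).mpr hV)
    simpa [mul_assoc] using this
  · obtain ⟨x, hx, e' | e' | e'⟩ := hh.2 y hy
    · rw [e']; exact hx
    · exfalso
      have hxz : x * z * x⁻¹ = z := mul_inv_eq_iff_eq_mul.mpr (mem_cc.mp (hVA x hx)).1.eq
      have hxv : x * v * x⁻¹ = v := mul_inv_eq_iff_eq_mul.mpr (ha.abelian x (hVA x hx) v hvA).eq
      have h1 : y * z * y⁻¹ = v := by
        rw [e', show e * x * z * (e * x)⁻¹ = e * (x * z * x⁻¹) * e⁻¹ by group, hxz]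
      have h2 : y * v * y⁻¹ = z * v := by
        rw [e', show e * x * v * (e * x)⁻¹ = e * (x * v * x⁻¹) * e⁻¹ by group, hxv, hcyc2]
      have h3 : y * (y * z * y⁻¹) * y⁻¹ = z := by
        rw [show y * (y * z * y⁻¹) * y⁻¹ = (y * y) * z * (y * y)⁻¹ by group, hy2]; group
      rw [h1, h2] at h3
      exact hv1 (mul_left_cancel (h3.trans (mul_one z).symm))
    · exfalso
      have hxz : x * z * x⁻¹ = z := mul_inv_eq_iff_eq_mul.mpr (mem_cc.mp (hVA x hx)).1.eq
      have hxv : x * v * x⁻¹ = v := mul_inv_eq_iff_eq_mul.mpr (ha.abelian x (hVA x hx) v hvA).eq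
      have h1 : y * z * y⁻¹ = z * v := by
        rw [e', show e * (e * x) * z * (e * (e * x))⁻¹ = e * (e * (x * z * x⁻¹) * e⁻¹) * e⁻¹ by group, hxz,
          ← hvdef, hcyc2]
      have h2 : y * v * y⁻¹ = z := by
        rw [e', show e * (e * x) * v * (e * (e * x))⁻¹ = e * (e * (x * v * x⁻¹) * e⁻¹) * e⁻¹ by group, hxv,
          hcyc2, hcyc3]
      have h3 : y * (y * z * y⁻¹) * y⁻¹ = z := by
        rw [show y * (y * z * y⁻¹) * y⁻¹ = (y * y) * z * (y * y)⁻¹ by group, hy2]; group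
      rw [h1, ← conj_mul, h1, h2, mul_assoc, ← hzv.eq, ← mul_assoc, h.sq, one_mul] at h3
      exact hvne h3

end Cfsg.Agent.HJType
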